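import Cfsg.Agent.Lib.FischerLarge.CheckFusion

/-!
# Certificates for the involutions of a model

For each involution of the Sylow subgroup: words moving the rank four group onto groups containing it
whose fixed spaces cover the isotropic fixed vectors, and preimages of a basis of its moved space.
-/

set_option autoImplicit false
set_option maxRecDepth 200000
set_option maxHeartbeats 2000000

namespace Cfsg.Lib.FischerLarge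

open Cfsg.Lib.SUSixU43 Cfsg.Lib.PermAut

/-- Words carrying each involution of the Sylow subgroup to one element of the rank four group. -/
def involData : List (List (ℕ × List ℕ)) :=
  [
   [(4, []),
    (8, [1, 0, 1, 0, 1, 1, 0, 4, 0]),
    (12, [0, 1, 0, 1, 1, 0, 1, 0, 1, 0, 1, 0, 4, 4, 0, 4, 0, 1, 1]),
    (17, [4, 0, 1, 3, 4, 3, 1, 3, 1, 1]),
    (21, [4, 0, 1, 0, 1, 1, 3, 4, 3, 1, 3, 1, 1]),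
    (22, [4, 4, 0, 4, 0, 4, 3, 4, 4, 4, 0, 1, 1]),
    (24, [0, 4, 0, 1, 0, 4, 3, 4, 3, 4, 3, 1, 3, 4, 4, 4]),
    (29, [4, 4, 0, 4, 0, 1, 0, 4]),
    (32, [4, 0, 4, 4, 0, 1, 1, 0, 1, 1, 0, 0, 4, 0, 4, 0, 4, 4, 0]),
    (38, [3, 4, 3, 4, 3, 1, 3, 4, 4, 0, 4, 0, 1, 0, 4]),
    (42, [1, 0, 4, 0, 1, 0, 4]),
    (43, [1, 3, 4, 3, 1, 3, 1, 1]),
    (46, [1, 1, 0, 1, 3, 4, 4, 3, 4, 3, 1, 0, 4, 0, 1, 0, 4]),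
    (48, [0, 4, 0, 4, 0, 4, 4, 0]),
    (49, [1, 3, 4, 4, 3, 4, 4, 4, 0, 1, 1]),
    (51, [1, 1, 0, 1, 3, 4, 3, 1, 3, 1, 1]),
    (52, [1, 3, 4, 4, 3, 4, 3]),
    (57, [4, 4]),
    (58, [0, 4, 3, 4, 3, 1, 3, 1, 1]),
    (60, [1, 0, 4, 0, 4, 3, 4, 4, 4, 0, 1, 1]),
    (63, [1, 1, 0, 1, 3, 4, 3, 1, 3, 4, 4, 0, 4, 0, 1, 0, 4]),
    (65, [1, 1, 3, 4, 3, 4, 0, 4, 4, 0, 1, 1]),
    (69, [0, 1, 0, 4, 0, 1, 0, 1, 0, 4, 0, 1, 1, 0, 4, 0, 4, 0, 4, 4, 0]),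
    (70, [1, 0, 4, 4, 0, 4, 0, 1, 0, 1, 3, 4, 3, 4, 3, 1, 3, 4, 4, 4]),
    (73, [1, 1, 0, 4, 0, 1, 3, 4, 3, 1, 1, 0, 1, 0, 4, 4, 0, 4, 0, 1, 1]),
    (97, [4, 4, 0, 1, 1, 0]),
    (105, [0, 4, 4, 0, 1, 1]),
    (117, [4, 4, 0, 1, 0, 1, 0, 1, 1, 1, 3, 4, 4, 3, 4, 3]),
    (119, [1, 0, 4, 0, 1, 0, 1, 1, 1, 1, 0, 1, 0, 1, 0, 4, 4, 0, 4, 0, 1, 1]),
    (121, [0, 1, 0, 1, 0, 4, 4, 0, 4, 0, 1, 1]),
    (123, [1, 3, 4, 4, 3, 4, 3, 1, 0, 4, 0, 1, 0, 4]),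
    (124, [1, 1, 0, 1, 0, 1, 0, 4, 4, 0, 4, 0, 1, 1]),
    (125, [4, 4, 0, 4, 0, 1, 0, 4, 3, 4, 3, 4, 3, 1, 3, 4, 4, 4]),
    (126, [1, 1, 1, 3, 4, 4, 3, 4, 4, 4, 0, 1, 1]),
    (127, [4, 4, 0, 1, 0, 1, 1, 3, 4, 4, 3, 4, 3])],
   [(1, []),
    (7, [4, 3, 1, 3, 1, 1, 0, 4, 4, 0, 4, 0, 4, 3, 1, 3, 4, 4, 0, 1, 0, 1, 1, 0, 1, 0, 1, 1, 0]),
    (13, [0, 1, 0, 4, 4, 0, 4, 0, 4, 3, 1, 3, 4, 4, 0, 1, 0, 1, 1, 0, 1, 0, 1, 1, 0]),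
    (18, [4, 4, 3, 1, 1, 3, 4, 3, 4, 4, 4, 0, 4, 0, 4, 0, 1, 0, 1, 1, 0]),
    (32, [0, 1, 0, 1, 1, 0, 1, 0, 1, 1, 0, 4, 3, 1, 1]),
    (33, [0, 1, 0, 1, 0, 1, 1, 1, 1, 3, 4, 3, 4, 4, 4, 0, 4, 0, 4, 0, 1, 0, 1, 1, 0]),
    (39, [4, 0, 4, 0, 4, 0, 1, 0, 1, 1, 0, 1, 3, 1, 1, 3, 4, 3, 4, 4, 0, 1, 1]),
    (40, [0, 1, 0, 1, 0, 1, 1, 0, 1, 3, 1, 3, 1, 1, 0, 4, 4, 0, 4, 0, 4, 3, 1, 3, 4, 4, 0, 1, 0, 1, 1, 0, 1, 0, 1, 1, 0]),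
    (42, [1, 0, 4, 4, 0, 4, 4, 0, 1, 0, 4, 0, 4, 3, 1, 1]),
    (44, [4, 0, 1, 1, 0, 4, 0, 1, 0, 4, 3, 1, 3, 4, 4, 3, 4, 0, 1, 1, 0, 1, 1, 0, 1, 0, 1, 1, 0]),
    (48, [4, 0, 4, 4, 0, 4, 4, 0, 4, 0, 1, 3, 1, 3, 4, 4, 0, 1, 0, 1, 1, 0, 1, 0, 1, 1, 0]),
    (50, [4, 4, 0, 4, 0, 4, 0, 1, 0, 4, 4, 4, 3, 1, 1, 3, 1, 0, 4, 0, 4, 4, 3, 1, 1]),
    (51, [4, 0, 1, 0, 4, 0, 1, 3, 1, 3, 4, 4, 0, 1, 0, 1, 1, 0, 1, 0, 1, 1, 0]),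
    (53, [1, 0, 1, 1, 0, 1, 1, 0, 1, 0, 1, 1, 0]),
    (54, [4, 0, 1, 0, 1, 1, 0, 1, 1, 0, 1, 0, 4, 0, 4, 4, 0, 1, 0, 4, 0, 4, 4, 3, 1, 1, 3, 4, 3, 4, 4, 4, 0, 4, 0, 4, 0, 1, 0, 1, 1, 0]),
    (56, [3, 1, 3, 4, 4, 0, 1, 0, 1, 1, 0, 1, 0, 1, 1, 0]),
    (58, [1, 1, 0, 1, 0, 4, 4, 0, 1, 1, 3, 1, 3, 4, 4, 3, 4, 0, 1, 1, 0, 1, 1, 0, 1, 0, 1, 1, 0]),
    (59, [4, 0, 4, 0, 1, 0, 1, 0, 1, 1, 0, 4, 4, 3, 1, 3, 1, 1, 0, 4, 4, 0, 4, 0, 4, 3, 1, 3, 4, 4, 0, 1, 0, 1, 1, 0, 1, 0, 1, 1, 0]),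
    (60, [0, 4, 0, 4, 4, 0, 4, 3, 4, 0, 1, 1, 0, 1, 1, 0, 1, 0, 1, 1, 0]),
    (61, [4, 4, 0, 1, 0, 1, 0, 4, 4, 0, 4, 0, 0, 4, 0, 4, 4, 0, 1, 0, 4, 0, 4, 4, 3, 1, 1, 3, 4, 3, 4, 4, 4, 0, 4, 0, 4, 0, 1, 0, 1, 1, 0]),
    (63, [1, 0, 1, 0, 4, 0, 4, 4, 0, 1, 0, 1, 0, 4, 4, 0, 4, 0, 4, 3, 1, 3, 4, 4, 0, 1, 0, 1, 1, 0, 1, 0, 1, 1, 0]),
    (64, [1, 0, 1, 1, 0, 4, 4, 0, 4, 0, 1, 1, 3, 1, 1, 3, 4, 3, 4, 4, 0, 1, 1]),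
    (65, [3, 1, 3, 4, 4, 3, 4, 0, 1, 1, 0, 1, 1, 0, 1, 0, 1, 1, 0]),
    (66, [0, 4, 4, 0, 4, 0, 1, 0, 1, 1, 1, 3, 4, 4, 0, 1, 0, 1, 1, 0, 1, 0, 1, 1, 0]),
    (69, [4, 0, 4, 0, 4, 0, 1, 0, 1, 1, 0]),
    (81, [1, 0, 4, 0, 4, 0, 1, 0, 4, 0, 0, 1, 0, 4, 4, 0, 4, 0, 4, 3, 1, 3, 4, 4, 0, 1, 0, 1, 1, 0, 1, 0, 1, 1, 0]),
    (90, [4, 3, 1, 1]),
    (96, [1, 3, 4, 4, 3, 4, 3, 4, 3, 1, 3, 1, 0, 4, 0, 4, 4, 0, 4, 3, 4, 0, 1, 1, 0, 1, 1, 0, 1, 0, 1, 1, 0]),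
    (100, [1, 3, 1, 1, 3, 4, 3, 4, 4, 0, 1, 1]),
    (106, [4, 4, 0, 1, 0, 4, 4, 4, 3, 4, 3, 4, 4, 3, 4, 3, 1, 1, 0, 1, 0, 4, 4, 0, 1, 1, 3, 1, 3, 4, 4, 3, 4, 0, 1, 1, 0, 1, 1, 0, 1, 0, 1, 1, 0]),
    (110, [4, 4, 3, 1, 1, 3, 1, 0, 4, 0, 4, 4, 3, 1, 1]),
    (114, [3, 4, 4, 3, 4, 3, 1, 3, 1, 3, 1, 1, 1, 0, 1, 1, 0, 4, 0, 4, 4, 3, 1, 1, 3, 4, 3, 4, 4, 4, 0, 4, 0, 4, 0, 1, 0, 1, 1, 0]),
    (117, [4, 0, 1, 0, 1, 0, 1, 0, 1]),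
    (120, [1, 1, 3, 1, 1, 0, 4, 4, 0, 4, 0, 4, 3, 1, 3, 4, 4, 0, 1, 0, 1, 1, 0, 1, 0, 1, 1, 0]),
    (122, [1, 0, 1, 0, 4, 4, 3, 4, 3, 1, 3, 1, 0, 4, 0, 4, 4, 0, 4, 3, 4, 0, 1, 1, 0, 1, 1, 0, 1, 0, 1, 1, 0])],
   [(4, []),
    (8, [3, 1, 1, 3, 1, 3, 4, 0, 1, 1, 0, 1, 1]),
    (12, [4, 0, 4, 0, 4, 4, 0, 4, 4, 4, 3, 4, 4, 3, 1, 0, 1, 1, 0, 1, 1]),
    (17, [1, 1, 0, 1, 1, 1, 1, 3, 1, 3, 4, 0, 1, 1, 0, 1, 1]),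
    (20, [1, 0, 4, 0, 4, 4, 4, 3, 1, 3, 4, 3, 4, 0, 4, 4, 0, 4]),
    (21, [0, 4, 4, 0, 1, 0, 4, 0, 4, 4]),
    (22, [1, 0, 4, 4, 0, 4, 4, 4, 3, 1, 3, 4, 3, 4, 0, 4, 4, 0, 4]),
    (23, [1, 1, 3, 1, 3, 4, 3, 1, 1, 3, 1, 0, 1, 1, 0, 4, 4, 0, 4]),
    (24, [1, 0, 1, 1, 0, 4, 4, 0, 4]),
    (31, [0, 1, 1, 0, 4, 0, 4, 4, 0, 1]),
    (34, [0, 4, 4, 0, 1, 0, 4, 0, 4, 4, 3, 4, 3, 1, 3, 4, 3, 4, 0, 4, 4, 0, 4]),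
    (40, [4, 0, 4, 4, 0, 1, 0, 1, 3, 1, 1, 3, 1, 3, 4, 4]),
    (44, [0, 1, 0, 1, 1, 0, 1, 3, 1, 1, 3, 1, 3, 4, 4, 4, 4, 0, 4, 4, 0, 4]),
    (49, [4, 4, 0, 1, 1, 0, 1, 1, 0, 1]),
    (58, [0, 4, 4, 0, 4, 0, 4, 4, 0, 1]),
    (66, [4, 4, 0, 1, 1, 0, 1, 1, 0, 1, 1, 1, 3, 1, 3, 4, 3, 1, 1, 3]),
    (67, [0, 1, 0, 4, 4, 4, 4, 3, 4, 4, 3, 1, 0, 1, 1, 0, 1, 1]),
    (69, [3, 4, 3, 1, 3, 1, 1, 1, 3, 1, 3, 4, 3, 1, 1, 3, 4, 0, 4, 0, 4, 0, 1, 0, 1, 0, 1]),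
    (71, [0, 1, 0, 1, 1, 0, 1, 3, 1, 1, 3, 1, 3, 4, 0, 1, 1, 0, 1, 1]),
    (73, [4, 0, 4, 0, 4, 0, 1, 0, 1, 0, 1]),
    (74, [1, 1, 3, 1, 3, 4, 3, 1, 1, 3]),
    (81, [1, 1, 0, 4, 0, 4, 4, 4, 3, 1, 3, 4, 3, 4, 0, 4, 4, 0, 4]),
    (87, [3, 1, 1, 3, 1, 3, 4, 4, 4, 4, 0, 4, 4, 0, 4]),
    (94, [4, 4, 0, 4, 4, 0, 1, 0, 1, 1, 3, 1, 1, 3, 1, 3, 4, 4]),
    (98, [4, 4, 0, 4, 4, 0, 4]),
    (99, [1, 0, 4, 0, 1, 1, 0, 4, 0, 1, 1, 3, 1, 3, 4, 3, 1, 1, 3, 4, 0, 4, 0, 4, 0, 1, 0, 1, 0, 1]),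
    (101, [1, 3, 1, 1, 0, 1, 1, 0, 4, 0, 4, 4, 0, 1]),
    (107, [1, 0, 1, 1, 0, 1, 1]),
    (114, [3, 1, 1, 3, 1, 3, 4, 4]),
    (118, [4, 4, 0, 1, 1, 0, 1, 1, 0, 1, 3, 4, 3, 1, 3, 4, 3, 4, 0, 4, 4, 0, 4]),
    (119, [1, 3, 4, 4, 3, 4, 4, 3, 1, 0, 1, 1, 0, 1, 1]),
    (121, [0, 1, 0, 1, 3, 4, 4, 3, 4, 4, 3, 1, 0, 1, 1, 0, 1, 1]),
    (122, [3, 4, 3, 1, 3, 4, 3, 4, 0, 4, 4, 0, 4]),
    (126, [4, 0, 4, 4, 0, 1, 0, 4, 3, 4, 3, 1, 3, 1, 3, 4, 4, 0, 4, 0, 4, 0, 1, 0, 1, 0, 1]),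
    (127, [4, 0, 4, 0, 4, 0, 1, 0, 1, 0, 1, 3, 1, 1, 3, 1, 3, 4, 0, 1, 1, 0, 1, 1])]]

/-- That element: its place, the words covering its isotropic fixed vectors, and a basis of preimages. -/
def involRep : List (ℕ × List (List ℕ) × List ℕ) :=
  [
   (4, [[], [0, 1, 0, 1, 1, 0, 4], [4, 4, 0, 4, 0, 1, 0, 4]], [1, 2, 256, 512]),
   (1, [[], [4, 4, 0, 1], [0, 4, 0, 1, 1, 0, 1, 1]], [1, 2, 16, 32]),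
   (4, [[], [1, 1, 0, 4, 0, 4, 4, 0], [0, 4, 4, 0, 1, 0, 4, 0, 4, 4]], [1, 2, 4, 8])]

/-- The product along a word. -/
noncomputable def wordC (c : ℕ) (w : List ℕ) : ℕ := prodM (w.map (lettM c))

/-- The moved space of an involution. -/
def movedL (c a : ℕ) (pre : List ℕ) : List ℕ := spanL (pre.map fun v => addC (appM ((syl c).el a) v) v)

/-- The test of the representative: its words. -/
noncomputable def involOne (c : ℕ) (t : ℕ × List (List ℕ) × List ℕ) : Bool :=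
  fN ((syl c).el t.1) fun m =>
    (t.2.1.all fun w => w.all fun k => Nat.blt k 6) &&
    (t.2.1.all fun w => fN (wordC c w) fun g => fN (mulM (starM g) (mulM m g)) fun a =>
      !allBelowB 16 fun i => !sameM a (uMat c i)) &&
    (allBelowB 4096 fun v => bif Nat.beq (appM m v) v && singB v then
      t.2.1.any fun w => (syl c).fix.contains (appM (starM (wordC c w)) v) else true) &&
    !(t.2.1.isEmpty)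

/-- The moved space: sixteen isotropic fixed vectors, six of them in the small orbit. -/
noncomputable def movedOne (c : ℕ) (t : ℕ × List (List ℕ) × List ℕ) : Bool :=
  fN ((syl c).el t.1) fun m => fN (maskL (movedL c t.1 t.2.2)) fun U =>
    Nat.beq (movedL c t.1 t.2.2).length 16 &&
    (allBelowB 16 fun i => allBelowB i fun j =>
      !Nat.beq ((movedL c t.1 t.2.2).getD i 0) ((movedL c t.1 t.2.2).getD j 0)) &&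
    ((movedL c t.1 t.2.2).all fun u => Nat.blt u 4096 && Nat.beq (appM m u) u && singB u) &&
    (allBelowB 4096 fun v => Nat.testBit U (addC (appM m v) v)) &&
    Nat.beq ((List.range 4096).countP fun v => Nat.beq (appM m v) v) 256 &&
    Nat.beq ((List.range 4096).countP fun v => Nat.beq (appM m v) v && singB v) 160 &&
    Nat.beq ((movedL c t.1 t.2.2).countP fun u => (orbA c).has u) 6

/-- The representative of a model. -/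
def involPick (c : ℕ) : ℕ × List (List ℕ) × List ℕ := involRep.getD c (0, [], [])

/-- Every involution is carried to the representative. -/
noncomputable def involConj (c : ℕ) : Bool :=
  Nat.blt (involPick c).1 128 && (syl c).invs.all fun a => (involData.getD c []).any fun t => Nat.beq t.1 a &&
    (t.2.all fun k => Nat.blt k 6) &&
    fN (wordC c t.2) fun g => sameM (mulM (starM g) (mulM ((syl c).el a) g)) ((syl c).el (involPick c).1)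

/-- The first coordinate scaled. -/
def scal0 (k v : ℕ) : ℕ := pack 6 fun i => bif Nat.beq i 0 then muC k (vdig v i) else vdig v i

/-- A vector of the small orbit leaving it when its first coordinate is scaled. -/
def scalWit (c : ℕ) : ℕ := [1365, 1366, 1367].getD c 0

/-- Scaling one coordinate moves the small orbit. -/
noncomputable def scalB (c : ℕ) : Bool :=
  Nat.blt (scalWit c) 4096 && (orbA c).has (scalWit c) && !(orbA c).has (scal0 2 (scalWit c)) &&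
    !(orbA c).has (scal0 3 (scalWit c))

theorem invol_ok0' : involOne 0 (involPick 0) = true := by decide +kernel

theorem invol_ok1' : involOne 1 (involPick 1) = true := by decide +kernel

theorem invol_ok2' : involOne 2 (involPick 2) = true := by decide +kernel

theorem moved_ok0' : movedOne 0 (involPick 0) = true := by decide +kernel

theorem moved_ok1' : movedOne 1 (involPick 1) = true := by decide +kernel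

theorem moved_ok2' : movedOne 2 (involPick 2) = true := by decide +kernel

theorem invol_ok : ∀ c < 3, involOne c (involPick c) = true := by
  intro c hc
  interval_cases c
  exacts [invol_ok0', invol_ok1', invol_ok2']

theorem moved_ok : ∀ c < 3, movedOne c (involPick c) = true := by
  intro c hc
  interval_cases c
  exacts [moved_ok0', moved_ok1', moved_ok2']

theorem involConj_ok0 : involConj 0 = true := by decide +kernel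

theorem involConj_ok1 : involConj 1 = true := by decide +kernel

theorem involConj_ok2 : involConj 2 = true := by decide +kernel

theorem involConj_ok : ∀ c < 3, involConj c = true := by
  intro c hc
  interval_cases c
  exacts [involConj_ok0, involConj_ok1, involConj_ok2]

theorem scal_ok : ∀ c < 3, scalB c = true := by decide +kernel

end Cfsg.Lib.FischerLarge
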