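import Cfsg.Agent.Lib.FischerLarge.Orbits

/-!
# A model contains the even monomial elements
-/

set_option autoImplicit false
set_option maxRecDepth 20000

namespace Cfsg.Lib.FischerLarge

open Cfsg Equiv Cfsg.Lib.SUSixU43 Cfsg.Lib.PermAut

attribute [local irreducible] KM T6 N6 C6 phi pnt

/-- The stabiliser of the first point of a model gives all even permutations of the coordinates. -/
theorem even_cover {c : ℕ} (hc : c < 3) {p : Perm (Fin 6)} (hp : p ∈ alternatingGroup (Fin 6)) :
    ∃ n : ↥N6, (n : G6) ∈ KM c ∧ perN n = p := by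
  classical
  haveI := finite_G6
  let H : Subgroup ↥N6 := (KM c).subgroupOf N6
  suffices h : 360 ≤ Nat.card ↥(H.map perN) by
    obtain ⟨n, hn, he⟩ := alternating_le h hp
    exact ⟨n, hn, he⟩
  let S : Subgroup ↥(KM c) :=
    (MulAction.stabilizer (Equiv.Perm (Fin 112)) (0 : Fin 112)).comap (phi hc)
  have hS : 87480 ≤ Nat.card ↥S := by
    have h1 := S.card_mul_index
    rw [card_KM hc] at h1
    have h2 : S.index ≤ 112 := by
      letI : MulAction ↥(KM c) (Fin 112) := MulAction.compHom (Fin 112) (phi hc)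
      have e : S = MulAction.stabilizer ↥(KM c) (0 : Fin 112) := Subgroup.ext fun _ => Iff.rfl
      rw [e, MulAction.index_stabilizer]
      exact (Set.ncard_le_card _).trans (le_of_eq (Nat.card_fin 112))
    by_contra hlt
    have := Nat.mul_le_mul (Nat.le_of_lt_succ (not_le.1 hlt : Nat.card ↥S < 87480)) h2
    omega
  have hin : ∀ g : ↥S, ((g : ↥(KM c)) : G6) ∈ N6 := fun g => by
    refine mem_N6_of_fix hc ?_
    have h1 := moves_apply (phi_spec hc (g : ↥(KM c))) 0
    have h2 : (phi hc (g : ↥(KM c))) (0 : Fin 112) = 0 := g.2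
    rwa [h2] at h1
  have hH : 87480 ≤ Nat.card ↥H := hS.trans (Nat.card_le_card_of_injective
    (fun g : ↥S => (⟨⟨((g : ↥(KM c)) : G6), hin g⟩, (g : ↥(KM c)).2⟩ : ↥H))
    fun a b e => by
      have h := congrArg (fun x : ↥H => ((x : ↥N6) : G6)) e
      exact Subtype.ext (Subtype.ext h))
  have hk : Nat.card ↥(perN.ker) = 243 := by
    rw [← card_T6, T6, Subgroup.card_map_of_injective N6.subtype_injective]
  let f : ↥H →* Perm (Fin 6) := perN.comp H.subtype
  have h1 := f.ker.card_mul_index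
  rw [Subgroup.index_ker] at h1
  have h2 : Nat.card ↥f.ker ≤ 243 := hk ▸ Nat.card_le_card_of_injective
    (fun x : ↥f.ker => (⟨((x : ↥H) : ↥N6), MonoidHom.mem_ker.2 (MonoidHom.mem_ker.1 x.2)⟩ : ↥(perN.ker)))
    fun a b e => by
      have h := congrArg (fun x : ↥(perN.ker) => (x : ↥N6)) e
      exact Subtype.ext (Subtype.ext h)
  have h3 : f.range = H.map perN := by
    rw [MonoidHom.range_eq_map, ← Subgroup.map_map, ← MonoidHom.range_eq_map, Subgroup.range_subtype]
  rw [h3] at h1
  by_contra hlt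
  have := Nat.mul_le_mul h2 (Nat.le_of_lt_succ (not_le.1 hlt : Nat.card ↥(H.map perN) < 360))
  omega

/-- The even monomial elements lie in every model. -/
theorem even_mono_KM {c : ℕ} (hc : c < 3) {n : ↥N6} (hn : perN n ∈ alternatingGroup (Fin 6)) :
    (n : G6) ∈ KM c := by
  obtain ⟨m, hm, he⟩ := even_cover hc hn
  have hk : n * m⁻¹ ∈ perN.ker := by rw [MonoidHom.mem_ker, map_mul, map_inv, he, mul_inv_cancel]
  have h1 : ((n * m⁻¹ : ↥N6) : G6) ∈ T6 := mem_T6.2 fun i j hij => perN_spec (n * m⁻¹) i j (by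
    rw [MonoidHom.mem_ker.1 hk, Equiv.Perm.one_apply]
    exact hij)
  have h2 := (KM c).mul_mem (T6_le_KM hc h1) hm
  rwa [Subgroup.coe_mul, Subgroup.coe_inv, inv_mul_cancel_right] at h2

end Cfsg.Lib.FischerLarge
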