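import Cfsg.Agent.Lib.FischerLarge.Centralizer.Labels
import Cfsg.Agent.Lib.FischerLarge.Stab

/-!
# A conjugate of the involution inside the extraspecial subgroup
-/

set_option autoImplicit false

namespace Cfsg.Lib.FischerLarge

open Cfsg Cfsg.Lib.SUSixU43 Cfsg.Lib.Extra

universe u

variable {G : Type u} [Group G] [Finite G] {z : G} {Q : Subgroup G} (D : Pre z Q)

theorem Pre.fuse {a b : G} (ha : a ∈ Q) (ha1 : a ≠ 1) (haz : a ≠ z) (hb : b ∈ Q) (h : D.cl a = D.cl b) :
    ∃ y ∈ Q, y * a * y⁻¹ = b := by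
  rcases (D.cl_eq a ha b hb).1 h with e | e
  · exact ⟨1, one_mem _, by rw [e]; group⟩
  · obtain ⟨y, hy, hya⟩ := D.ctx.exists_move ha ha1 haz
    exact ⟨y, hy, hya.trans e.symm⟩

include D in
/-- The centralizer of a noncentral element of the extraspecial subgroup. -/
theorem Pre.card_centQ {s : G} (hs : s ∈ Q) (hs1 : s ≠ 1) (hsz : s ≠ z) :
    2 * Nat.card ↥(Q ⊓ Subgroup.centralizer ({s} : Set G)) = 2 ^ 13 := by
  obtain ⟨y, hy, hys⟩ := D.ctx.exists_move hs hs1 hsz
  have hidx : ((Subgroup.centralizer ({s} : Set G)).subgroupOf Q).index = 2 := by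
    rw [Subgroup.index_eq_two_iff]
    refine ⟨⟨y, hy⟩, fun a => ?_⟩
    have hy' : ¬ Commute y s := fun h => D.ctx.ne_one (by
      have e : y * s * y⁻¹ = s := by rw [h.eq, mul_inv_cancel_right]
      rw [e] at hys
      exact (mul_eq_right.1 hys.symm))
    simp only [Subgroup.mem_subgroupOf, Subgroup.coe_mul, Subgroup.mem_centralizer_singleton_iff]
    rcases D.ctx.commute_or hy hys a.2 hs with h | h
    · refine Or.inr ⟨h.eq, fun h' => hy' ?_⟩
      have := (h.inv_left).mul_left (show Commute ((a : G) * y) s from h')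
      rwa [inv_mul_cancel_left] at this
    · have hay : Commute ((a : G) * y) s := by
        rcases D.ctx.comm y hy (a : G) a.2 with e | e
        · have : y * (a : G) = (a : G) * y := mul_inv_eq_iff_eq_mul.1 (mul_inv_eq_one.1 e)
          rwa [this] at h
        · have : y * (a : G) = z * ((a : G) * y) := by
            rw [← mul_assoc]
            exact mul_inv_eq_iff_eq_mul.1 (mul_inv_eq_iff_eq_mul.1 e)
          rw [this] at h
          have h2 := (D.ctx.central s hs).mul_left h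
          rwa [← mul_assoc, D.ctx.sq_z, one_mul] at h2
      refine Or.inl ⟨hay.eq, fun h' => hy' ?_⟩
      have := (show Commute (a : G) s from h').inv_left.mul_left hay
      rwa [inv_mul_cancel_left] at this
  have h := ((Subgroup.centralizer ({s} : Set G)).subgroupOf Q).card_mul_index
  rw [hidx, D.cardQ] at h
  rw [← h, mul_comm, inf_comm, ← Subgroup.subgroupOf_map_subtype,
    Subgroup.card_map_of_injective Q.subtype_injective]

/-- The part of a conjugate extraspecial subgroup in the centralizer. -/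
def Pre.farR (_D : Pre z Q) (g : G) : Subgroup G :=
  Q.map (MulAut.conj g).toMonoidHom ⊓ Subgroup.centralizer ({z} : Set G)

variable {g s : G} (hg : g * z * g⁻¹ = s)
include D hg

theorem Pre.ctx_far : Ctx (Q.map (MulAut.conj g).toMonoidHom) s := hg ▸ D.ctx.conj g

theorem Pre.card_farR (hs : s ∈ Q) (hne : s ≠ z) : Nat.card ↥(D.farR g) = 2 ^ 12 := by
  obtain ⟨p, hp, e⟩ := D.ctx.mem_symm (g := g) (hg.symm ▸ hs)
  have e' : g * p * g⁻¹ = z := e
  have hp1 : p ≠ 1 := fun h => D.ctx.ne_one (by rw [← e', h, mul_one, mul_inv_cancel])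
  have hpz : p ≠ z := fun h => hne (by rw [← hg]; conv_rhs => rw [← e', h])
  have hmap : D.farR g = (Q ⊓ Subgroup.centralizer ({p} : Set G)).map (MulAut.conj g).toMonoidHom := by
    ext x
    constructor
    · rintro ⟨⟨a, ha, rfl⟩, hx⟩
      refine ⟨a, ⟨ha, mem_cent_of_commute ((Commute.conj_iff g).1 ?_)⟩, rfl⟩
      rw [e']
      exact commute_of_mem_cent hx
    · rintro ⟨a, ha, rfl⟩
      refine ⟨⟨a, ha.1, rfl⟩, mem_cent_of_commute ?_⟩
      show Commute (g * a * g⁻¹) z
      rw [← e']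
      exact (Commute.conj_iff g).2 (commute_of_mem_cent ha.2)
  have h := D.card_centQ hp hp1 hpz
  rw [hmap, Subgroup.card_map_of_injective (MulAut.conj g).injective]
  omega

theorem Pre.meet_le (hne : s ≠ z) : Nat.card ↥(D.farR g ⊓ Q) ≤ 128 := by
  refine card_abelian_le D.ctx D.cardQ inf_le_right fun a ha b hb => mul_inv_eq_iff_eq_mul.1 (mul_inv_eq_one.1 ?_)
  rcases D.ctx.comm a ha.2 b hb.2 with h | h
  · exact h
  · rcases (D.ctx_far hg).comm a ha.1.1 b hb.1.1 with h' | h'
    · exact h'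
    · exact absurd (h'.symm.trans h) hne

/-- The image of the far part in the model. -/
theorem Pre.exists_far_image (hs : s ∈ Q) :
    ∃ R : Subgroup G6, R = ((D.farR g).subgroupOf D.M).map D.π ∧ R ≤ KM D.c ∧ (∀ r ∈ R, r * r = 1) ∧
      Nat.card ↥(D.farR g ⊓ D.M) = Nat.card ↥R * Nat.card ↥(D.farR g ⊓ Q) := by
  refine ⟨_, rfl, by rintro _ ⟨m, -, rfl⟩; exact D.π_mem m, ?_, ?_⟩
  · rintro _ ⟨m, hm, rfl⟩
    rw [← map_mul, D.π_ker, Subgroup.coe_mul]
    rcases (D.ctx_far hg).sq (m : G) hm.1 with h | h <;> rw [h]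
    exacts [one_mem _, hs]
  · let f := D.π.comp ((D.farR g).subgroupOf D.M).subtype
    have h := f.ker.card_mul_index
    rw [Subgroup.index_ker, show f.range = ((D.farR g).subgroupOf D.M).map D.π by
      rw [MonoidHom.range_comp, Subgroup.range_subtype]] at h
    have hk : Nat.card ↥f.ker = Nat.card ↥(D.farR g ⊓ Q) := Nat.card_congr
      { toFun := fun m => ⟨(((m : ↥((D.farR g).subgroupOf D.M)) : ↥D.M) : G),
          (m : ↥((D.farR g).subgroupOf D.M)).2, (D.π_ker _).1 m.2⟩
        invFun := fun a => ⟨⟨⟨a, D.Q_le a.2.2⟩, a.2.1⟩, (D.π_ker _).2 a.2.2⟩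
        left_inv := fun _ => rfl
        right_inv := fun _ => rfl }
    have e : Nat.card ↥((D.farR g).subgroupOf D.M) = Nat.card ↥(D.farR g ⊓ D.M) := by
      rw [← Subgroup.card_map_of_injective D.M.subtype_injective, Subgroup.subgroupOf_map_subtype]
    rw [← e, ← h, hk, mul_comm]

/-- The unitary part is not the whole centralizer. -/
theorem Pre.ne_of_fused (hs : s ∈ Q) (hne : s ≠ z) : ∃ x, Commute x z ∧ x ∉ D.M := by
  by_contra hall
  push Not at hall
  obtain ⟨R, -, hRK, hRsq, hcard⟩ := D.exists_far_image hg hs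
  rw [inf_eq_left.2 (show D.farR g ≤ D.M from fun x hx => hall x (commute_of_mem_cent hx.2)),
    D.card_farR hg hs hne] at hcard
  have := Nat.mul_le_mul (image_le_sixteen D.c_lt hRK hRsq) (D.meet_le hg hne)
  omega

/-- A conjugate of the involution lies outside the small orbit. -/
theorem Pre.not_in_A (hs : s ∈ Q) (hne : s ≠ z) : D.cl s ∉ (orbA D.c).set := by
  intro hA
  obtain ⟨R, hRdef, hRK, hRsq, hcard⟩ := D.exists_far_image hg hs
  have hs1 : s ≠ 1 := fun e => D.ctx.ne_one (conj_eq_one_iff.1 (hg.trans e))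
  have hRS : R ≤ Sb D.c (D.cl s) := by
    rw [hRdef]
    rintro _ ⟨m, hm, rfl⟩
    refine ⟨D.π_mem m, ?_⟩
    show D.π m • D.cl s = D.cl s
    rw [← D.π_cl m s hs]
    congr 1
    rw [((D.ctx_far hg).central (m : G) hm.1).symm.eq, mul_inv_cancel_right]
  haveI hRn : (R.subgroupOf (Sb D.c (D.cl s))).Normal := ⟨fun r hr t => by
    obtain ⟨k, hk⟩ := D.exists_pre t.2.1
    have hcl : D.cl ((k : G) * s * (k : G)⁻¹) = D.cl s := by
      rw [D.π_cl k s hs, hk]
      exact MulAction.mem_stabilizer_iff.1 t.2.2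
    obtain ⟨y, hy, hye⟩ := D.fuse (conj_mem D.ctx (D.m_comm k) hs) (fun e => hs1 (conj_eq_one_iff.1 e))
      (fun e => hne (by
        have e2 : (k : G) * s * (k : G)⁻¹ = (k : G) * z * (k : G)⁻¹ := by rw [e, (D.m_comm k).eq, mul_inv_cancel_right]
        exact mul_left_cancel (mul_right_cancel e2))) hs hcl
    set k' : ↥D.M := ⟨y, D.Q_le hy⟩ * k with hk'
    have hk's : Commute (k' : G) s := by
      refine mul_inv_eq_iff_eq_mul.1 ?_
      show y * (k : G) * s * (y * (k : G))⁻¹ = s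
      rw [← show y * ((k : G) * s * (k : G)⁻¹) * y⁻¹ = y * k * s * (y * k)⁻¹ by group, hye]
    have hπk : D.π k' = (t : G6) := by rw [hk', map_mul, (D.π_ker ⟨y, D.Q_le hy⟩).2 hy, one_mul, hk]
    have hr' : (r : G6) ∈ R := hr
    show ((t * r * t⁻¹ : ↥(Sb D.c (D.cl s))) : G6) ∈ R
    rw [hRdef] at hr' ⊢
    obtain ⟨m, hm, hmr⟩ := hr'
    refine ⟨k' * m * k'⁻¹, ⟨?_, ?_⟩, ?_⟩
    · exact conj_mem (D.ctx_far hg) hk's hm.1
    · exact (Subgroup.centralizer ({z} : Set G)).mul_mem (mul_mem (D.M_le k'.2) hm.2) (inv_mem (D.M_le k'.2))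
    · rw [map_mul, map_mul, map_inv, hπk, hmr]
      simp⟩
  have hR2 : IsPGroup 2 ↥(R.subgroupOf (Sb D.c (D.cl s))) := fun x =>
    ⟨1, Subtype.ext (Subtype.ext (by rw [pow_one, pow_two]; exact hRsq _ x.2))⟩
  have h4 := (orbFacts D.c_lt).coreA _ hA _ hRn hR2
  rw [Nat.card_congr (Subgroup.subgroupOfEquivOfLe hRS).toEquiv] at h4
  have hidx : D.M.relIndex (D.farR g) ≤ 4 := by
    have h1 : Nat.card ↥D.M * D.M.relIndex (Subgroup.centralizer ({z} : Set G)) =
        Nat.card ↥(Subgroup.centralizer ({z} : Set G)) := by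
      rw [← Nat.card_congr (Subgroup.subgroupOfEquivOfLe D.M_le).toEquiv]
      exact Subgroup.card_mul_index _
    have h2 : D.M.relIndex (Subgroup.centralizer ({z} : Set G)) ≤ 4 := by
      refine Nat.le_of_mul_le_mul_left ?_ (Nat.card_pos (α := ↥D.M))
      rw [h1, mul_comm]
      exact D.card_cent_le
    refine le_trans ?_ h2
    exact Subgroup.relIndex_le_of_le_right inf_le_right Subgroup.index_ne_zero_of_finite
  have h3 := (D.M.subgroupOf (D.farR g)).card_mul_index
  change Nat.card ↥(D.M.subgroupOf (D.farR g)) * D.M.relIndex (D.farR g) = _ at h3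
  rw [show Nat.card ↥(D.M.subgroupOf (D.farR g)) = Nat.card ↥(D.farR g ⊓ D.M) by
    rw [inf_comm, ← Subgroup.subgroupOf_map_subtype, Subgroup.card_map_of_injective (D.farR g).subtype_injective],
    hcard, D.card_farR hg hs hne] at h3
  have := Nat.mul_le_mul (Nat.mul_le_mul h4 (D.meet_le hg hne)) hidx
  omega

end Cfsg.Lib.FischerLarge
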