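import Cfsg.Agent.Lib.FischerLarge.Centralizer.CheckInvol
import Cfsg.Agent.Lib.FischerLarge.UnipFacts

/-!
# The involutions of a model: covering Lagrangians, and no commuting element of order five
-/

set_option autoImplicit false

namespace Cfsg.Lib.FischerLarge

open Cfsg Cfsg.Lib.SUSixU43 Cfsg.Lib.PermAut

/-- An element of order five permuting a finite set fixes as many members modulo five. -/
theorem five_modEq {α : Type*} (f : α → α) (h5 : ∀ x, f (f (f (f (f x)))) = x) (X : Set α)
    (hX : X.Finite) (hinv : ∀ x ∈ X, f x ∈ X) : X.ncard % 5 = (X ∩ {x | f x = x}).ncard % 5 := by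
  classical
  haveI : Fact (Nat.Prime 5) := ⟨by norm_num⟩
  haveI := hX.fintype
  let g : Function.End ↥X := fun x => ⟨f x, hinv x x.2⟩
  have hg : g ^ 5 ^ 1 = 1 := funext fun x => Subtype.ext (by
    show f (f (f (f (f (x : α))))) = _
    rw [h5]; rfl)
  have h := Equiv.Perm.card_fixedPoints_modEq (p := 5) (n := 1) hg
  rw [← Nat.card_eq_fintype_card, ← Nat.card_eq_fintype_card, Nat.card_coe_set_eq] at h
  rw [show (X ∩ {x | f x = x}).ncard = Nat.card ↥(Function.fixedPoints g) from ?_]
  · exact h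
  · rw [← Nat.card_coe_set_eq]
    exact Nat.card_congr
      { toFun := fun x => ⟨⟨x, x.2.1⟩, Subtype.ext x.2.2⟩
        invFun := fun x => ⟨x.1, x.1.2, congrArg Subtype.val x.2⟩
        left_inv := fun _ => rfl
        right_inv := fun _ => rfl }

/-- The facts on one involution of a model. -/
structure InvolFacts (c : ℕ) (a : G6) : Prop where
  cover : ∀ v : V6, a • v = v → hermForm 6 R4 2 v v = 0 →
    ∃ g ∈ KM c, g⁻¹ * a * g ∈ fourSet c ∧ g⁻¹ • v ∈ fixSet c
  some_four : ∃ g ∈ KM c, g⁻¹ * a * g ∈ fourSet c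
  moved_card : {x : V6 | ∃ v, a • v + v = x}.ncard = 16
  moved_fix : ∀ v : V6, a • (a • v + v) = a • v + v ∧ hermForm 6 R4 2 (a • v + v) (a • v + v) = 0
  moved_small : ({x : V6 | ∃ v, a • v + v = x} ∩ (orbA c).set).ncard = 6
  fix_card : {x : V6 | a • x = x}.ncard = 256
  sing_card : {x : V6 | a • x = x ∧ hermForm 6 R4 2 x x = 0}.ncard = 160

theorem countP_ncard (p : ℕ → Bool) (P : V6 → Prop) (h : ∀ v < 4096, p v = true ↔ P (vec v)) :
    {x : V6 | P x}.ncard = (List.range 4096).countP p := by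
  classical
  have e : {x : V6 | P x} = ↑(((List.range 4096).filter p).toFinset.image vec) := by
    ext x
    simp only [Set.mem_setOf_eq, Finset.coe_image, List.coe_toFinset, Set.mem_image, List.mem_filter, List.mem_range]
    constructor
    · intro hx
      obtain ⟨v, hv, rfl⟩ := exists_code x
      exact ⟨v, ⟨hv, (h v hv).2 hx⟩, rfl⟩
    · rintro ⟨v, ⟨hv, hp⟩, rfl⟩
      exact (h v hv).1 hp
  rw [e, Set.ncard_coe_finset, Finset.card_image_of_injOn, List.toFinset_card_of_nodup
    (List.nodup_range.filter p), List.countP_eq_length_filter]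
  intro u hu v hv huv
  simp only [List.coe_toFinset, Set.mem_setOf_eq, List.mem_filter, List.mem_range] at hu hv
  exact vec_inj hu.1 hv.1 huv

theorem singB_iff_invol (v : ℕ) : singB v = true ↔ hermForm 6 R4 2 (vec v) (vec v) = 0 := by
  rw [singB, Nat.beq_eq, herm_vec, el_eq_zero, Nat.mod_eq_of_lt (hermC_lt v v)]

theorem appM_lt (m v : ℕ) : appM m v < 4096 := by
  simp only [appM, pack]
  omega

/-- The certificate gives the facts for the representative. -/
theorem invol_rep {c : ℕ} (hc : c < 3) : InvolFacts c (sy c (involPick c).1) := by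
  classical
  have h0 := involConj_ok c hc
  simp only [involConj, Bool.and_eq_true, Nat.blt, Nat.ble_eq] at h0
  have hlt : (involPick c).1 < 128 := h0.1
  have h1' := invol_ok c hc
  have h2' := moved_ok c hc
  generalize involPick c = t at h1' h2' hlt ⊢
  simp only [involOne, fN_eq, Bool.and_eq_true, List.all_eq_true, Nat.blt, Nat.ble_eq, Bool.not_eq_true',
    allBelowB_iff] at h1'
  obtain ⟨⟨⟨hw, hfour⟩, hcover⟩, hne⟩ := h1'
  have hm := (sy_spec hc hlt).2
  have gw : ∀ w ∈ t.2.1, (w.map (lett c)).prod ∈ KM c ∧ mm (w.map (lett c)).prod = mat (wordC c w) := fun w hw' =>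
    word_spec hc w fun k hk => hw w hw' k hk
  have gfour : ∀ w ∈ t.2.1, (w.map (lett c)).prod⁻¹ * sy c t.1 * (w.map (lett c)).prod ∈ fourSet c := by
    intro w hw'
    obtain ⟨hg, hge⟩ := gw w hw'
    have hex : ∃ i < 16, sameM (mulM (starM (wordC c w)) (mulM ((syl c).el t.1) (wordC c w))) (uMat c i) = true := by
      by_contra hall
      push Not at hall
      have h3 := hfour w hw'
      rw [← Bool.not_eq_true, allBelowB_iff] at h3
      exact h3 fun i hi => by simp [hall i hi]
    obtain ⟨i, hi, hie⟩ := hex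
    rw [sameM_iff] at hie
    have e : (w.map (lett c)).prod⁻¹ * sy c t.1 * (w.map (lett c)).prod = fourEl c i := mm_injective (by
      rw [four_mat hc hi, ← hie, map_mul, map_mul, mm_inv_of hge, hm, hge, mat_mulM, mat_mulM, Matrix.mul_assoc])
    rw [e]
    exact (fourEl_facts hc).2.1 i hi
  simp only [movedOne, fN_eq, Bool.and_eq_true, List.all_eq_true, Nat.blt, Nat.ble_eq, Bool.not_eq_true',
    allBelowB_iff, Nat.beq_eq] at h2'
  obtain ⟨⟨⟨⟨⟨⟨hlen, hnd⟩, hU⟩, himg⟩, h256⟩, h160⟩, hsix⟩ := h2'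
  set U := movedL c t.1 t.2.2 with hUdef
  have hUnd : U.Nodup := by
    rw [List.nodup_iff_injective_get]
    rintro ⟨i, hi⟩ ⟨j, hj⟩ e
    simp only [List.get_eq_getElem] at e
    by_contra hne'
    have hij : i ≠ j := fun e' => hne' (Fin.ext e')
    rcases lt_or_gt_of_ne hij with hl | hl
    · have := hnd j (by omega) i hl
      rw [List.getD_eq_getElem _ _ hi, List.getD_eq_getElem _ _ hj, e, Nat.beq_refl] at this
      exact Bool.noConfusion this
    · have := hnd i (by omega) j hl
      rw [List.getD_eq_getElem _ _ hi, List.getD_eq_getElem _ _ hj, e, Nat.beq_refl] at this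
      exact Bool.noConfusion this
  have hUset : {x : V6 | ∃ v, sy c t.1 • v + v = x} = ↑(U.toFinset.image vec) := by
    ext x
    simp only [Set.mem_setOf_eq, Finset.coe_image, List.coe_toFinset, Set.mem_image]
    constructor
    · rintro ⟨v, rfl⟩
      obtain ⟨v, hv, rfl⟩ := exists_code v
      have := himg v hv
      rw [testBit_maskL] at this
      exact ⟨_, this, by rw [vec_addC, vec_appM_smul hm]⟩
    · rintro ⟨u, hu, rfl⟩
      refine span_ind (P := fun x => ∃ v, sy c t.1 • v + v = x) ⟨0, by rw [smul_def, Matrix.mulVec_zero, add_zero]⟩ ?_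
        _ ?_ u hu
      · rintro _ _ ⟨v, rfl⟩ ⟨w, rfl⟩
        exact ⟨v + w, by rw [g6_add]; abel⟩
      · intro b hb
        obtain ⟨w, -, rfl⟩ := List.mem_map.1 hb
        exact ⟨vec w, by rw [vec_addC, vec_appM_smul hm]⟩
  have hinj : Set.InjOn vec (U.toFinset : Set ℕ) := fun u hu v hv e => by
    simp only [List.coe_toFinset, Set.mem_setOf_eq] at hu hv
    exact vec_inj (hU u hu).1.1 (hU v hv).1.1 e
  refine ⟨fun v hv hs => ?_, ?_, ?_, fun v => ?_, ?_, ?_, ?_⟩
  · obtain ⟨v, hvlt, rfl⟩ := exists_code v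
    have hfix : appM ((syl c).el t.1) v = v := vec_inj (appM_lt _ _) hvlt (by rw [vec_appM_smul hm, hv])
    have h3 := hcover v hvlt
    rw [show (Nat.beq (appM ((syl c).el t.1) v) v && singB v) = true by
      rw [hfix, Nat.beq_refl, (singB_iff_invol v).2 hs]; rfl, cond_true, List.any_eq_true] at h3
    obtain ⟨w, hw', hwv⟩ := h3
    obtain ⟨hg, hge⟩ := gw w hw'
    exact ⟨_, hg, gfour w hw', appM (starM (wordC c w)) v, List.contains_iff_mem.1 hwv,
      vec_appM_smul (mm_inv_of hge) v⟩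
  · obtain ⟨w, hw'⟩ := List.exists_mem_of_ne_nil _ (show t.2.1 ≠ [] by simpa using hne)
    exact ⟨_, (gw w hw').1, gfour w hw'⟩
  · rw [hUset, Set.ncard_coe_finset, Finset.card_image_of_injOn hinj, List.toFinset_card_of_nodup hUnd, hlen]
  · have hmem : sy c t.1 • v + v ∈ {x : V6 | ∃ w, sy c t.1 • w + w = x} := ⟨v, rfl⟩
    rw [hUset] at hmem
    simp only [Finset.coe_image, List.coe_toFinset, Set.mem_image, Set.mem_setOf_eq] at hmem
    obtain ⟨u, hu, e⟩ := hmem
    rw [← e, ← vec_appM_smul hm, (hU u hu).1.2]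
    exact ⟨rfl, (singB_iff_invol u).1 (hU u hu).2⟩
  · have e : {x : V6 | ∃ v, sy c t.1 • v + v = x} ∩ (orbA c).set =
        ↑((U.filter fun u => (orbA c).has u).toFinset.image vec) := by
      rw [hUset]
      ext x
      simp only [Set.mem_inter_iff, Finset.coe_image, List.coe_toFinset, Set.mem_image, Set.mem_setOf_eq,
        List.mem_filter]
      constructor
      · rintro ⟨⟨u, hu, rfl⟩, hx⟩
        exact ⟨u, ⟨hu, (has_iff (orbA_dist hc) (hU u hu).1.1).2 hx⟩, rfl⟩
      · rintro ⟨u, ⟨hu, hh⟩, rfl⟩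
        exact ⟨⟨u, hu, rfl⟩, (has_iff (orbA_dist hc) (hU u hu).1.1).1 hh⟩
    rw [e, Set.ncard_coe_finset, Finset.card_image_of_injOn (hinj.mono (by simp +contextual [Set.subset_def])), List.toFinset_card_of_nodup
      (hUnd.filter _), ← List.countP_eq_length_filter, hsix]
  · rw [countP_ncard (fun v => Nat.beq (appM ((syl c).el t.1) v) v), h256]
    intro v hv
    rw [Nat.beq_eq, ← vec_appM_smul hm]
    exact ⟨fun e => by rw [e], fun e => vec_inj (appM_lt _ _) hv e⟩
  · rw [countP_ncard (fun v => Nat.beq (appM ((syl c).el t.1) v) v && singB v), h160]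
    intro v hv
    rw [Bool.and_eq_true, Nat.beq_eq, singB_iff_invol, ← vec_appM_smul hm]
    exact and_congr_left fun _ => ⟨fun e => by rw [e], fun e => vec_inj (appM_lt _ _) hv e⟩

/-- Every involution of a model is a conjugate of one of the Sylow subgroup. -/
theorem invol_facts {c : ℕ} (hc : c < 3) {a : G6} (ha : a ∈ KM c) (ha1 : a ≠ 1) (ha2 : a * a = 1) :
    ∃ k ∈ KM c, InvolFacts c (k * a * k⁻¹) := by
  have := finite_G6
  have h2 : IsPGroup 2 ↥(Subgroup.zpowers a) := by
    refine IsPGroup.of_card (n := 1) ?_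
    rw [Nat.card_zpowers, pow_one]
    exact orderOf_eq_prime (by rw [pow_two, ha2]) ha1
  obtain ⟨k, hk, hks⟩ := two_le_syl hc (Subgroup.zpowers_le.2 ha) h2
  obtain ⟨i, hi, hie⟩ := hks a (Subgroup.mem_zpowers a)
  have hsq : sy c i * sy c i = 1 := by
    rw [hie, show k * a * k⁻¹ * (k * a * k⁻¹) = k * (a * a) * k⁻¹ by group, ha2]; group
  have hne : sy c i ≠ 1 := by
    rw [hie]
    exact fun e => ha1 (conj_eq_one_iff.1 e)
  have h := sylInv_ok c hc
  simp only [invB, Bool.and_eq_true, allBelowB_iff] at h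
  obtain ⟨hlt, he⟩ := sy_mul hc hi hi
  rw [hsq, ← sy_zero hc] at he
  have h0 := sy_inj hc (by norm_num) hlt he
  have hb : Nat.beq ((syl c).tab i i) 0 = true := by rw [← h0]; rfl
  have h1 := h.1.1 i hi
  rw [hb, cond_true, Bool.or_eq_true, Nat.beq_eq, List.contains_iff_mem] at h1
  rcases h1 with h1 | h1
  · exact absurd (by rw [h1, sy_zero hc]) hne
  · have hcj := involConj_ok c hc
    simp only [involConj, fN_eq, Bool.and_eq_true, List.all_eq_true, List.any_eq_true, Nat.blt, Nat.ble_eq,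
      Nat.beq_eq, sameM_iff] at hcj
    obtain ⟨hlt', t, -, ⟨hta, hw⟩, hte⟩ := And.intro hcj.1 (hcj.2 i h1)
    obtain ⟨hg, hge⟩ := word_spec hc t.2 hw
    refine ⟨(t.2.map (lett c)).prod⁻¹ * k, (KM c).mul_mem ((KM c).inv_mem hg) hk, ?_⟩
    have e : (t.2.map (lett c)).prod⁻¹ * sy c i * (t.2.map (lett c)).prod = sy c (involPick c).1 :=
      mm_injective (by
        rw [(sy_spec hc hlt').2, ← hte, map_mul, map_mul, mm_inv_of hge, (sy_spec hc hi).2, hge, wordC, mat_mulM,
          mat_mulM, Matrix.mul_assoc])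
    rw [show (t.2.map (lett c)).prod⁻¹ * k * a * ((t.2.map (lett c)).prod⁻¹ * k)⁻¹ =
      (t.2.map (lett c)).prod⁻¹ * (k * a * k⁻¹) * (t.2.map (lett c)).prod by group, ← hie, e]
    exact invol_rep hc

/-- The size of a subgroup of a group of exponent two, read off a set. -/
theorem ncard_add_closed (S : Set V6) (h0 : (0 : V6) ∈ S) (hadd : ∀ x ∈ S, ∀ y ∈ S, x + y ∈ S) :
    ∃ j, S.ncard = 2 ^ j := by
  let K : AddSubgroup V6 :=
    { carrier := S
      add_mem' := fun {a b} ha hb => hadd a ha b hb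
      zero_mem' := h0
      neg_mem' := fun {a} ha => by rwa [show -a = a from neg_eq_of_add_eq_zero_left (v6_add_self a)] }
  haveI : Finite (Multiplicative ↥K) := inferInstanceAs (Finite ↥K)
  have hp : IsPGroup 2 (Multiplicative ↥K) := fun g => ⟨1, Multiplicative.toAdd.injective (Subtype.ext (by
    show (((2 : ℕ) ^ 1) • (Multiplicative.toAdd g : ↥K) : ↥K).val = 0
    rw [pow_one, two_nsmul]
    exact v6_add_self _))⟩
  haveI := Fact.mk Nat.prime_two
  obtain ⟨j, hj⟩ := IsPGroup.iff_card.1 hp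
  exact ⟨j, by rw [← hj, ← Nat.card_coe_set_eq]; rfl⟩

theorem two_pow_cases {n j : ℕ} (h : n = 2 ^ j) (hn : n ≤ 256) :
    n = 1 ∨ n = 2 ∨ n = 4 ∨ n = 8 ∨ n = 16 ∨ n = 32 ∨ n = 64 ∨ n = 128 ∨ n = 256 := by
  have : j ≤ 8 := by
    by_contra hlt
    have := Nat.pow_le_pow_right (show 0 < 2 by norm_num) (show 9 ≤ j by omega)
    omega
  interval_cases j <;> simp_all

/-- An element of order five of a model commutes with no involution. -/
theorem five_trivial {c : ℕ} (hc : c < 3) {a f : G6} (I : InvolFacts c a) (hf : f ∈ KM c)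
    (hf5 : f ^ 5 = 1) (hcomm : f * a = a * f) : f = 1 := by
  have h5 : ∀ x : V6, f • f • f • f • f • x = x := fun x => by
    conv_rhs => rw [← one_smul G6 x, ← hf5]
    simp only [pow_succ, pow_zero, one_mul, mul_smul]
  have hc' : ∀ x : V6, f • a • x = a • f • x := fun x => by rw [← mul_smul, hcomm, mul_smul]
  set F := {x : V6 | f • x = x} with hF
  set U := {x : V6 | ∃ v, a • v + v = x} with hU
  set C := {x : V6 | a • x = x} with hC
  set S := {x : V6 | a • x = x ∧ hermForm 6 R4 2 x x = 0} with hS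
  have hUinv : ∀ x ∈ U, f • x ∈ U := by
    rintro _ ⟨v, rfl⟩
    exact ⟨f • v, by rw [g6_add, hc']⟩
  have hCinv : ∀ x ∈ C, f • x ∈ C := fun x hx => by
    show a • f • x = f • x
    rw [← hc', hx]
  have h0 : ∀ g : G6, g • (0 : V6) = 0 := fun g => by rw [smul_def, Matrix.mulVec_zero]
  have hFadd : ∀ x ∈ F, ∀ y ∈ F, x + y ∈ F := fun x hx y hy => by
    show f • (x + y) = x + y
    rw [g6_add, hx, hy]
  have hUF : U ⊆ F := by
    obtain ⟨j, hj⟩ := ncard_add_closed (U ∩ F) ⟨⟨0, by rw [h0, add_zero]⟩, h0 f⟩ fun x hx y hy =>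
      ⟨by
        obtain ⟨v, rfl⟩ := hx.1
        obtain ⟨w, rfl⟩ := hy.1
        exact ⟨v + w, by rw [g6_add]; abel⟩, hFadd x hx.2 y hy.2⟩
    have h1 := five_modEq (fun x : V6 => f • x) h5 U (Set.toFinite _) hUinv
    have h2 := five_modEq (fun x : V6 => f • x) h5 (U ∩ (orbA c).set) (Set.toFinite _) fun x hx =>
      ⟨hUinv x hx.1, (orbFacts hc).invA f hf x hx.2⟩
    rw [← hF, I.moved_card] at h1
    rw [← hF, I.moved_small] at h2
    have h3 : (U ∩ (orbA c).set ∩ F).ncard + 1 ≤ (U ∩ F).ncard := by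
      have hz : (0 : V6) ∉ U ∩ (orbA c).set ∩ F := fun h => ((orbFacts hc).sing 0 (Or.inl h.1.2)).1 rfl
      rw [← Set.ncard_insert_of_notMem hz (Set.toFinite _)]
      refine Set.ncard_le_ncard (Set.insert_subset ⟨⟨0, by rw [h0, add_zero]⟩, h0 f⟩ ?_) (Set.toFinite _)
      exact fun x hx => ⟨hx.1.1, hx.2⟩
    have h4 : (U ∩ F).ncard ≤ 16 := I.moved_card ▸ Set.ncard_le_ncard Set.inter_subset_left (Set.toFinite _)
    have h16 : (U ∩ F).ncard = 16 := by
      rcases two_pow_cases hj (by omega) with e | e | e | e | e | e | e | e | e <;> omega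
    intro x hx
    have := Set.eq_of_subset_of_ncard_le (Set.inter_subset_left (s := U) (t := F)) (by rw [h16, I.moved_card]) (Set.toFinite _)
    rw [← this] at hx
    exact hx.2
  have hCF : C ⊆ F := by
    obtain ⟨j, hj⟩ := ncard_add_closed (C ∩ F) ⟨h0 a, h0 f⟩ fun x hx y hy => ⟨by
      show a • (x + y) = x + y
      rw [g6_add, hx.1, hy.1], hFadd x hx.2 y hy.2⟩
    have hUC : U ⊆ C ∩ F := fun x hx => ⟨by
      obtain ⟨v, rfl⟩ := hx
      exact (I.moved_fix v).1, hUF hx⟩
    have h1 := five_modEq (fun x : V6 => f • x) h5 C (Set.toFinite _) hCinv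
    have h2 := five_modEq (fun x : V6 => f • x) h5 S (Set.toFinite _) fun x hx =>
      ⟨hCinv x hx.1, by rw [herm_smul]; exact hx.2⟩
    rw [← hF, I.fix_card] at h1
    rw [← hF, I.sing_card] at h2
    have h16 : 16 ≤ (C ∩ F).ncard := I.moved_card ▸ Set.ncard_le_ncard hUC (Set.toFinite _)
    have h4 : (C ∩ F).ncard ≤ 256 := I.fix_card ▸ Set.ncard_le_ncard Set.inter_subset_left (Set.toFinite _)
    have h256 : (C ∩ F).ncard = 256 := by
      rcases two_pow_cases hj h4 with e | e | e | e | e | e | e | e | e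
      all_goals try omega
      exfalso
      have hCU : U = C ∩ F := Set.eq_of_subset_of_ncard_le hUC (by rw [e, I.moved_card]) (Set.toFinite _)
      have hSF : S ∩ F = U := Set.Subset.antisymm (fun x hx => hCU ▸ ⟨hx.1.1, hx.2⟩) fun x hx => ⟨by
        obtain ⟨v, rfl⟩ := hx
        exact I.moved_fix v, hUF hx⟩
      rw [hSF, I.moved_card] at h2
      norm_num at h2
    intro x hx
    have := Set.eq_of_subset_of_ncard_le (Set.inter_subset_left (s := C) (t := F)) (by rw [h256, I.fix_card]) (Set.toFinite _)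
    rw [← this] at hx
    exact hx.2
  refine mm_injective (Matrix.ext_of_mulVec_single fun i => ?_)
  rw [map_one, Matrix.one_mulVec, ← smul_def]
  set v : V6 := Pi.single i 1
  have hd : f • v + v ∈ C := by
    show a • (f • v + v) = f • v + v
    have h1 : f • (a • v + v) = a • v + v := hUF ⟨v, rfl⟩
    rw [g6_add, hc', ] at h1
    rw [g6_add]
    calc a • f • v + a • v = (a • f • v + f • v) + (f • v + a • v) := by
          rw [show (a • f • v + f • v) + (f • v + a • v) = a • f • v + (f • v + f • v) + a • v by abel, v6_add_self,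
            add_zero]
      _ = (a • v + v) + (f • v + a • v) := by rw [h1]
      _ = f • v + v + (a • v + a • v) := by abel
      _ = _ := by rw [v6_add_self, add_zero]
  have hdf : f • (f • v + v) = f • v + v := hCF hd
  have h2 : f • f • v = v := by
    rw [g6_add] at hdf
    calc f • f • v = f • f • v + f • v + f • v := by rw [add_assoc, v6_add_self, add_zero]
      _ = f • v + v + f • v := by rw [hdf]
      _ = _ := by rw [add_comm (f • v) v, add_assoc, v6_add_self, add_zero]
  have := h5 v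
  rw [h2, h2] at this
  exact this

/-- An element of order five of a model commutes with no involution. -/
theorem no_five {c : ℕ} (hc : c < 3) {a f : G6} (ha : a ∈ KM c) (ha1 : a ≠ 1) (ha2 : a * a = 1) (hf : f ∈ KM c)
    (hf5 : f ^ 5 = 1) (hcomm : f * a = a * f) : f = 1 := by
  obtain ⟨k, hk, I⟩ := invol_facts hc ha ha1 ha2
  have h := five_trivial hc I ((KM c).mul_mem ((KM c).mul_mem hk hf) ((KM c).inv_mem hk))
    (by rw [conj_pow, hf5, mul_one, mul_inv_cancel]) (by
      rw [show k * f * k⁻¹ * (k * a * k⁻¹) = k * (f * a) * k⁻¹ by group, hcomm]; group)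
  exact conj_eq_one_iff.1 h

end Cfsg.Lib.FischerLarge
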