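import Cfsg.Agent.Lib.FischerLarge.Centralizer.Far
import Cfsg.Agent.Lib.FischerLarge.Centralizer.Invol
import Cfsg.Agent.Lib.FischerLarge.FusionMain
import Cfsg.Agent.Lib.Extra.Structure
import Cfsg.Prelude.Def_TwoFusion

/-!
# The involution is isolated when the unitary part is the whole centralizer
-/

set_option autoImplicit false


namespace Cfsg.Lib.FischerLarge

open Cfsg Cfsg.Lib.SUSixU43 Cfsg.Lib.Extra

attribute [local irreducible] KM T6 N6 C6 phi pnt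

universe u

theorem conj_inv_sq {H : Type*} [Group H] (g a : H) :
    g⁻¹ * a * g * (g⁻¹ * a * g) = g⁻¹ * (a * a) * g := by group

theorem conj_inv_eq {H : Type*} [Group H] (g a : H) (h : g⁻¹ * a * g = 1) : a = 1 := by
  calc a = g * (g⁻¹ * a * g) * g⁻¹ := by group
    _ = 1 := by rw [h]; group

theorem conj_inv_mul {H : Type*} [Group H] (k g a : H) :
    (k⁻¹ * g)⁻¹ * a * (k⁻¹ * g) = g⁻¹ * (k * a * k⁻¹) * g := by group

theorem smul_fix_conj {H α : Type*} [Group H] [MulAction H α] (g u : H) (x : α)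
    (h : (g⁻¹ * u * g) • (g⁻¹ • x) = g⁻¹ • x) : u • x = x := by
  rwa [← mul_smul, mul_inv_cancel_right, mul_smul, smul_left_cancel_iff] at h

theorem g6_fix_conj (g u : G6) (x : V6) (h : (g⁻¹ * u * g) • (g⁻¹ • x) = g⁻¹ • x) : u • x = x :=
  smul_fix_conj g u x h

/-- Covering Lagrangians for every involution of a model. -/
theorem invol_cover {c : ℕ} (hc : c < 3) {a : G6} (ha : a ∈ KM c) (ha1 : a ≠ 1) (ha2 : a * a = 1) :
    (∀ v : V6, a • v = v → hermForm 6 R4 2 v v = 0 → ∃ g ∈ KM c, g⁻¹ * a * g ∈ fourSet c ∧ g⁻¹ • v ∈ fixSet c) ∧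
      (∃ g ∈ KM c, g⁻¹ * a * g ∈ fourSet c) ∧ {x : V6 | a • x = x}.ncard = 256 := by
  obtain ⟨k, hk, I⟩ := invol_facts hc ha ha1 ha2
  refine ⟨fun v hv hs => ?_, ?_, ?_⟩
  · obtain ⟨g, hg, h1, h2⟩ := I.cover (k • v) (by rw [← mul_smul, inv_mul_cancel_right, mul_smul, hv])
      (by rw [herm_smul, hs])
    refine ⟨k⁻¹ * g, mul_mem (inv_mem hk) hg, ?_, ?_⟩
    · rw [conj_inv_mul]
      exact h1
    · rwa [mul_inv_rev, inv_inv, mul_smul]
  · obtain ⟨g, hg, h1⟩ := I.some_four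
    exact ⟨k⁻¹ * g, mul_mem (inv_mem hk) hg, by
      rwa [conj_inv_mul]⟩
  · rw [← I.fix_card, ← Set.ncard_image_of_injective _ (MulAction.injective k)]
    congr 1
    ext x
    simp only [Set.mem_image, Set.mem_setOf_eq]
    constructor
    · rintro ⟨y, hy, rfl⟩
      rw [← mul_smul, inv_mul_cancel_right, mul_smul, hy]
    · intro hx
      refine ⟨k⁻¹ • x, ?_, smul_inv_smul k x⟩
      calc a • k⁻¹ • x = k⁻¹ • ((k * a * k⁻¹) • x) := by
            rw [← mul_smul, ← mul_smul, mul_assoc k a, inv_mul_cancel_left]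
        _ = k⁻¹ • x := by rw [hx]

/-- Two independent vectors moved by an involution of a model, one of them orthogonal to its motion. -/
theorem exists_null {c : ℕ} (hc : c < 3) {a : G6} (ha : a ∈ KM c) (ha1 : a ≠ 1) (ha2 : a * a = 1) :
    ∃ v : V6, a • v ≠ v ∧ hermForm 6 R4 2 v (a • v + v) = 0 := by
  classical
  set F := {x : V6 | a • x = x} with hF
  have hcard : F.ncard = 256 := (invol_cover hc ha ha1 ha2).2.2
  have huniv : (Set.univ : Set V6).ncard = 4096 := by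
    rw [Set.ncard_univ, Nat.card_fun, Nat.card_fin, show Nat.card R4 = 4 by
      rw [Nat.card_eq_fintype_card, card_r4]]
    norm_num
  obtain ⟨v, hv⟩ : ∃ v, a • v ≠ v := by
    by_contra h
    push Not at h
    exact ha1 (g6_ext fun v => by rw [h v, one_smul])
  obtain ⟨w, hw⟩ : ∃ w, ∀ l : R4, a • (w + l • v) ≠ w + l • v := by
    by_contra h
    push Not at h
    have hsub : (Set.univ : Set V6) ⊆ (fun p : V6 × R4 => p.1 + p.2 • v) '' (F ×ˢ Set.univ) := by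
      intro w _
      obtain ⟨l, hl⟩ := h w
      exact ⟨(w + l • v, l), ⟨hl, trivial⟩, by
        show w + l • v + l • v = w
        rw [add_assoc, v6_add_self, add_zero]⟩
    have h1 := (Set.ncard_le_ncard hsub (Set.toFinite _)).trans (Set.ncard_image_le (Set.toFinite _))
    rw [huniv, Set.ncard_prod, hcard, Set.ncard_univ, Nat.card_eq_fintype_card, card_r4] at h1
    omega
  let r : V6 → R4 := fun x => hermForm 6 R4 2 x (a • x + x)
  by_contra hall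
  push Not at hall
  have haa : ∀ x : V6, a • a • x = x := fun x => by rw [← mul_smul, ha2, one_smul]
  have hreal : ∀ x, r x ^ 2 = r x := fun x => by
    show hermForm 6 R4 2 x (a • x + x) ^ 2 = hermForm 6 R4 2 x (a • x + x)
    rw [← herm_conj_unip, herm_add_left_unip, herm_add_right_unip]
    have h1 := herm_smul (g := a) (a • x) x
    rw [haa] at h1
    rw [h1]
  have hone : ∀ x, a • x ≠ x → r x = 1 := fun x hx => by
    have h4 : ∀ t : R4, t ^ 2 = t → t ≠ 0 → t = 1 := by decide +kernel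
    exact h4 _ (hreal x) (hall x hx)
  have hw0 : a • w ≠ w := by simpa using hw 0
  have hexp : ∀ l : R4, r (w + l • v) =
      r w + l ^ 2 * hermForm 6 R4 2 w (a • v + v) + l * hermForm 6 R4 2 v (a • w + w) + l * l ^ 2 * r v := by
    intro l
    show hermForm 6 R4 2 (w + l • v) (a • (w + l • v) + (w + l • v)) = _
    rw [g6_add, g6_scalar, show a • w + l • a • v + (w + l • v) = (a • w + w) + l • (a • v + v) by
      rw [smul_add]; abel]
    simp only [r, herm_add_left_unip, herm_add_right_unip, herm_smul_right, herm_smul_left]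
    ring
  have key : ∀ A B : R4, (∀ l : R4, l ≠ 0 → 1 + l ^ 2 * A + l * B + l * l ^ 2 * 1 = 1) → False := by
    decide +kernel
  refine key (hermForm 6 R4 2 w (a • v + v)) (hermForm 6 R4 2 v (a • w + w)) fun l _ => ?_
  have := hone _ (hw l)
  rw [hexp, hone w hw0, hone v hv] at this
  exact this

variable {G : Type u} [Group G] [Finite G] {z : G} {Q : Subgroup G} (D : Pre z Q)

include D in
/-- Commutation in the coordinates. -/
theorem Pre.commute_of_herm {a b : G} (ha : a ∈ Q) (hb : b ∈ Q)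
    (h : hermForm 6 R4 2 (D.cl a) (D.cl b) + hermForm 6 R4 2 (D.cl b) (D.cl a) = 0) : Commute a b := by
  have hsqv : ∀ x ∈ Q, (x * x = 1 ∧ hermForm 6 R4 2 (D.cl x) (D.cl x) = 0) ∨
      (x * x = z ∧ hermForm 6 R4 2 (D.cl x) (D.cl x) = 1) := by
    intro x hx
    have h01 : ∀ t : R4, t ^ 2 = t → t ≠ 0 → t = 1 := by decide +kernel
    by_cases h0 : hermForm 6 R4 2 (D.cl x) (D.cl x) = 0
    · exact Or.inl ⟨(D.cl_sq x hx).2 h0, h0⟩
    · exact Or.inr ⟨(D.ctx.sq x hx).resolve_left fun e => h0 ((D.cl_sq x hx).1 e),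
        h01 _ (herm_conj_unip _ _).symm h0⟩
  have hval : hermForm 6 R4 2 (D.cl (a * b)) (D.cl (a * b)) =
      hermForm 6 R4 2 (D.cl a) (D.cl a) + hermForm 6 R4 2 (D.cl b) (D.cl b) := by
    rw [D.cl_mul a ha b hb, herm_add_left_unip, herm_add_right_unip, herm_add_right_unip]
    linear_combination h
  have hsq : a * b * (a * b) = a * a * (b * b) := by
    have h11 : (0 : R4) + 0 ≠ 1 ∧ (0 : R4) + 1 ≠ 0 ∧ (1 : R4) + 0 ≠ 0 ∧ (1 : R4) + 1 ≠ 1 := by decide +kernel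
    rcases hsqv a ha with ⟨e1, q1⟩ | ⟨e1, q1⟩ <;> rcases hsqv b hb with ⟨e2, q2⟩ | ⟨e2, q2⟩ <;>
      rcases hsqv _ (mul_mem ha hb) with ⟨e3, q3⟩ | ⟨e3, q3⟩ <;> rw [hval, q1, q2] at q3 <;>
      rw [e1, e2, e3] <;>
      first
        | exact D.ctx.sq_z.symm
        | rfl
        | exact absurd q3 h11.1
        | exact absurd q3 h11.2.1
        | exact absurd q3 h11.2.2.1
        | exact absurd q3 h11.2.2.2
        | simp
  refine (mul_left_cancel (a := a) (mul_right_cancel (b := b) ?_)).symm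
  calc a * (b * a) * b = a * b * (a * b) := by group
    _ = a * a * (b * b) := hsq
    _ = _ := by group

/-- Every involution of the unitary part is conjugate into the elementary abelian subgroup. -/
theorem Pre.invol_into_lag {y : G} (hy : y ∈ D.M) (hy2 : y * y = 1) (hyQ : y ∉ Q) :
    ∃ m ∈ D.M, m * y * m⁻¹ ∈ D.lagC := by
  classical
  obtain ⟨-, hsurj, -⟩ := D.lagC_image
  obtain ⟨-, -, hidx⟩ := fourEl_facts D.c_lt
  set a := D.π ⟨y, hy⟩ with ha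
  have ha1 : a ≠ 1 := fun e => hyQ ((D.π_ker _).1 e)
  have ha2 : a * a = 1 := by
    rw [ha, ← map_mul, show (⟨y, hy⟩ : ↥D.M) * ⟨y, hy⟩ = 1 from Subtype.ext hy2, map_one]
  obtain ⟨-, ⟨g, hg, hg4⟩, -⟩ := invol_cover D.c_lt (D.π_mem _) ha1 ha2
  obtain ⟨m₁, hm₁⟩ := D.exists_pre (inv_mem hg)
  set y₁ := (m₁ : G) * y * (m₁ : G)⁻¹ with hy₁
  set u := g⁻¹ * a * g with hu
  have hy₁M : y₁ ∈ D.M := D.M.mul_mem (D.M.mul_mem m₁.2 hy) (D.M.inv_mem m₁.2)
  have hπy : D.π ⟨y₁, hy₁M⟩ = u := by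
    rw [show (⟨y₁, hy₁M⟩ : ↥D.M) = m₁ * ⟨y, hy⟩ * m₁⁻¹ from rfl, map_mul, map_mul, map_inv, hm₁, inv_inv, hu, ha]
  have hu1 : u ≠ 1 := fun e => ha1 (conj_inv_eq g a e)
  obtain ⟨i, hi, -, hui⟩ := hidx u hg4 hu1
  obtain ⟨x₀, hx₀, hx₀π⟩ := hsurj u hg4
  obtain ⟨x, hx, hxπ, hxfix⟩ := D.exists_fixed hx₀
  have hπx : D.π ⟨x, hx.1⟩ = fourEl D.c i := by rw [hxπ, ← hui]; exact hx₀π
  set q := x * y₁ with hq
  have hqQ : q ∈ Q := (D.π_ker ⟨q, D.M.mul_mem hx.1 hy₁M⟩).1 (by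
    rw [show (⟨q, D.M.mul_mem hx.1 hy₁M⟩ : ↥D.M) = ⟨x, hx.1⟩ * ⟨y₁, hy₁M⟩ from rfl, map_mul, hπx, hπy, ← hui, hu,
      conj_inv_sq, ha2, mul_one, inv_mul_cancel])
  have hy₁2 : y₁ * y₁ = 1 := by
    rw [hy₁, show (m₁ : G) * y * (m₁ : G)⁻¹ * ((m₁ : G) * y * (m₁ : G)⁻¹) = (m₁ : G) * (y * y) * (m₁ : G)⁻¹ by group,
      hy2]; group
  have hxx := D.lagC_elem x hx
  have hyxq : y₁ = x * q := by rw [hq, ← mul_assoc, hxx, one_mul]
  have hqinv : x * q * x⁻¹ = q⁻¹ := by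
    refine eq_inv_of_mul_eq_one_left ?_
    rw [D.lagC_inv hx, show x * q * x * q = (x * q) * (x * q) by group, ← hyxq, hy₁2]
  have hqfix : fourEl D.c i • D.cl q = D.cl q := by
    rw [← (D.cl_commutator hx hπx hqQ).1, hqinv]
    refine ((D.cl_eq q hqQ _ (inv_mem hqQ)).2 ?_).symm
    rcases D.ctx.sq q hqQ with e | e
    · exact Or.inl (inv_eq_of_mul_eq_one_right e)
    · refine Or.inr (inv_eq_of_mul_eq_one_right ?_)
      rw [← mul_assoc, (D.ctx.central q hqQ).symm.eq, mul_assoc, e, D.ctx.sq_z]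
  have hxq : Commute x q := D.commute_of_fixed hx hπx hxfix hqQ hqfix
  have hq2 : q * q = 1 := by
    rw [hxq.eq, mul_inv_cancel_right] at hqinv
    exact mul_eq_one_iff_eq_inv.2 hqinv
  have hsing := (D.cl_sq q hqQ).1 hq2
  have hfourK : fourEl D.c i ∈ KM D.c := by rw [← hπx]; exact D.π_mem _
  obtain ⟨hcov, -, -⟩ := invol_cover D.c_lt hfourK (hui ▸ hu1)
    (by rw [← hπx, ← map_mul, show (⟨x, hx.1⟩ : ↥D.M) * ⟨x, hx.1⟩ = 1 from Subtype.ext hxx, map_one])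
  obtain ⟨g', hg', hg'4, hg'v⟩ := hcov _ hqfix hsing
  obtain ⟨m, hm⟩ := D.exists_pre (inv_mem hg')
  have hW : (m : G) * q * (m : G)⁻¹ ∈ D.lagW :=
    ⟨conj_mem D.ctx (D.m_comm m) hqQ, by rw [D.π_cl m q hqQ, hm]; exact hg'v⟩
  have hX : (m : G) * x * (m : G)⁻¹ ∈ D.lagC := by
    refine ⟨D.M.mul_mem (D.M.mul_mem m.2 hx.1) (D.M.inv_mem m.2), Subgroup.mem_centralizer_iff.2 fun w hw => ?_⟩
    set w' := (m : G)⁻¹ * w * m with hw'
    have hw'Q : w' ∈ Q := by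
      have := conj_mem D.ctx (D.m_comm m).inv_left hw.1
      rwa [inv_inv] at this
    have hclw : D.cl w = g'⁻¹ • D.cl w' := by
      rw [← hm, ← D.π_cl m w' hw'Q, hw']
      congr 1; group
    have hfixw : fourEl D.c i • D.cl w' = D.cl w' := by
      have h1 := (lagFacts D.c_lt).four_fix _ hg'4 _ hw.2
      rw [hclw] at h1
      exact g6_fix_conj g' _ _ h1
    have h2 := (D.commute_of_fixed hx hπx hxfix hw'Q hfixw).map (MulAut.conj (m : G)).toMonoidHom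
    have h3 : (MulAut.conj (m : G)).toMonoidHom w' = w := by
      show (m : G) * ((m : G)⁻¹ * w * m) * (m : G)⁻¹ = w; group
    rw [h3] at h2
    exact h2.symm.eq
  refine ⟨(m : G) * m₁, D.M.mul_mem m.2 m₁.2, ?_⟩
  have := D.lagC.mul_mem hX (D.lagW_le_C hW)
  convert this using 1
  rw [show (m : G) * m₁ * y * ((m : G) * m₁)⁻¹ = (m : G) * y₁ * (m : G)⁻¹ by rw [hy₁]; group, hyxq]
  group

/-- The elementary abelian subgroup is weakly closed. -/
theorem Pre.lag_wc (hidx : ∀ x, Commute x z → x ∈ D.M) : Cfsg.IsWeaklyClosedSubgroup 2 D.lagC := by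
  haveI := Fact.mk Nat.prime_two
  have hnorm : D.lagC ≤ Subgroup.normalizer (Q : Set G) := fun x hx => D.ctx.norm x (D.m_comm ⟨x, hx.1⟩)
  obtain ⟨T, hT⟩ := (D.lagC_two.to_sup_of_normal_right' D.ctx.two hnorm).exists_le_sylow
  have hTM : (T : Subgroup G) ≤ D.M := fun x hx =>
    hidx x (D.ctx.central_of_le T.isPGroup' (le_trans le_sup_right hT) x hx).symm
  obtain ⟨m, hm⟩ := D.eq_conj_lag T.isPGroup'
  refine ⟨T, le_trans le_sup_left hT, fun g hg => ?_⟩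
  have h1 := hm D.lagC (le_trans le_sup_left hT) inf_le_left (fun a ha b hb => D.lagC_comm ha hb)
    D.lagC_elem D.lagC_image.1.ge
  have h2 := hm (D.lagC.map (MulAut.conj g).toMonoidHom) hg (hg.trans hTM)
    (by rintro _ ⟨a, ha, rfl⟩ _ ⟨b, hb, rfl⟩; exact (D.lagC_comm ha hb).map _)
    (by rintro _ ⟨a, ha, rfl⟩; rw [← map_mul, D.lagC_elem a ha, map_one])
    (by rw [Subgroup.card_map_of_injective (MulAut.conj g).injective]; exact D.lagC_image.1.ge)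
  exact h2.trans h1.symm

/-- The involution is isolated. -/
theorem Pre.isolated (hidx : ∀ x, Commute x z → x ∈ D.M) : IsIsolatedInvolution z := by
  classical
  haveI := Fact.mk Nat.prime_two
  refine ⟨orderOf_eq_prime (by rw [pow_two, D.ctx.sq_z]) D.ctx.ne_one, fun g hg => ?_⟩
  by_contra hne
  set w := g * z * g⁻¹ with hw
  have hnoQ : ∀ k, k * z * k⁻¹ ∈ Q → k * z * k⁻¹ = z := fun k hk => by
    by_contra h
    obtain ⟨x, hx, hxM⟩ := D.ne_of_fused rfl hk h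
    exact hxM (hidx x hx)
  have hwQ : w ∉ Q := fun h => hne (hnoQ g h)
  have hw2 : w * w = 1 := by
    rw [hw, show g * z * g⁻¹ * (g * z * g⁻¹) = g * (z * z) * g⁻¹ by group, D.ctx.sq_z]; group
  obtain ⟨m, hm, hmA⟩ := D.invol_into_lag (hidx w hg.symm) hw2 hwQ
  have hzA : z ∈ D.lagC := D.lagW_le_C D.z_lagW
  have hconj : m * w * m⁻¹ = m * g * z * (m * g)⁻¹ := by rw [hw]; group
  obtain ⟨n, hn, hne'⟩ := exists_normalizer_conj_of_wc (p := 2) D.lagC_two (D.lag_wc hidx)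
    (fun a ha b hb => D.lagC_comm ha hb) hzA (g := m * g) (by rw [← hconj]; exact hmA)
  rw [← hconj] at hne'
  have hnz : n * z * n⁻¹ ≠ z := by
    rw [hne']
    intro e
    have hw' : w = m⁻¹ * z * m := by rw [← e]; group
    refine hne ?_
    rw [hw', (D.m_comm ⟨m, hm⟩).inv_left.eq, mul_assoc, inv_mul_cancel, mul_one]
  letI : CommGroup ↥D.lagC :=
    { (inferInstance : Group ↥D.lagC) with mul_comm := fun a b => Subtype.ext (D.lagC_comm a.2 b.2).eq }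
  have hN : ∀ {k : G}, k ∈ Subgroup.normalizer (D.lagC : Set G) → ∀ x ∈ D.lagC, k * x * k⁻¹ ∈ D.lagC :=
    fun {k} hk x hx => (Subgroup.mem_normalizer_iff.1 hk x).1 hx
  set O : Finset ↥D.lagC := (Set.toFinite {a : ↥D.lagC |
    ∃ k ∈ Subgroup.normalizer (D.lagC : Set G), k * z * k⁻¹ = a}).toFinset with hOdef
  have hO : ∀ a : ↥D.lagC, a ∈ O ↔ ∃ k ∈ Subgroup.normalizer (D.lagC : Set G), k * z * k⁻¹ = a := fun a => by
    rw [hOdef, Set.Finite.mem_toFinset]; exact Iff.rfl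
  let pa : ↥D.lagC → G6 := fun a => D.π ⟨a, a.2.1⟩
  have hpick : ∀ u : G6, ∃ q₁ ∈ Q, ∃ q₂ ∈ Q, u ∈ KM D.c → u ≠ 1 → u * u = 1 →
      (u • D.cl q₁ ≠ D.cl q₁ ∧ u • D.cl q₂ ≠ D.cl q₂ ∧ u • (D.cl q₁ + D.cl q₂) ≠ D.cl q₁ + D.cl q₂ ∧
        hermForm 6 R4 2 (D.cl q₁) (u • D.cl q₂ + D.cl q₂) +
          hermForm 6 R4 2 (u • D.cl q₂ + D.cl q₂) (D.cl q₁) = 0) := by
    intro u
    by_cases hu : u ∈ KM D.c ∧ u ≠ 1 ∧ u * u = 1
    · obtain ⟨v, hv, hv0⟩ := exists_null D.c_lt hu.1 hu.2.1 hu.2.2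
      obtain ⟨q₁, hq₁, e₁⟩ := D.cl_surj v
      obtain ⟨q₂, hq₂, e₂⟩ := D.cl_surj (om • v)
      refine ⟨q₁, hq₁, q₂, hq₂, fun _ _ _ => ?_⟩
      rw [e₁, e₂]
      have hscal : ∀ a : R4, a ≠ 0 → u • (a • v) ≠ a • v := fun a ha e => hv (by
        rw [g6_scalar] at e
        exact smul_right_injective V6 ha e)
      refine ⟨hv, hscal om tau_om.2.2.2, ?_, ?_⟩
      · rw [show v + om • v = (1 + om) • v by rw [add_smul, one_smul]]
        exact hscal _ (by rw [add_comm]; exact tau_om.2.2.1)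
      · rw [g6_scalar, ← smul_add, herm_smul_right, herm_smul_left, hv0, mul_zero, zero_add, herm_conj_unip, hv0,
          zero_pow two_ne_zero, mul_zero]
    · exact ⟨1, one_mem _, 1, one_mem _, fun h1 h2 h3 => absurd ⟨h1, h2, h3⟩ hu⟩
  choose q₁ hq₁ q₂ hq₂ hq using hpick
  have hQn : ∀ {q : G}, q ∈ Q → q ∈ Subgroup.normalizer (D.lagC : Set G) := fun {q} hq => by
    refine Subgroup.mem_normalizer_iff.2 fun x => ⟨fun hx => D.Q_norm hq x hx, fun hx => ?_⟩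
    have := D.Q_norm (inv_mem hq) _ hx
    rwa [show q⁻¹ * (q * x * q⁻¹) * q⁻¹⁻¹ = x by group] at this
  let σ : ↥D.lagC → ↥D.lagC := fun a => ⟨q₁ (pa a) * a * (q₁ (pa a))⁻¹, D.Q_norm (hq₁ _) a a.2⟩
  let τ : ↥D.lagC → ↥D.lagC := fun a => ⟨q₂ (pa a) * a * (q₂ (pa a))⁻¹, D.Q_norm (hq₂ _) a a.2⟩
  have hpaQ : ∀ {q : G} (hqQ : q ∈ Q) (a : ↥D.lagC), pa ⟨q * a * q⁻¹, D.Q_norm hqQ a a.2⟩ = pa a := by
    intro q hqQ a
    show D.π ⟨q * a * q⁻¹, _⟩ = D.π ⟨a, _⟩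
    rw [show (⟨q * a * q⁻¹, (D.Q_norm hqQ a a.2).1⟩ : ↥D.M) = ⟨q, D.Q_le hqQ⟩ * ⟨a, a.2.1⟩ * ⟨q, D.Q_le hqQ⟩⁻¹
      from rfl, map_mul, map_mul, map_inv, (D.π_ker ⟨q, D.Q_le hqQ⟩).2 hqQ, one_mul, inv_one, mul_one]
  have hzc : ∀ a : ↥D.lagC, Commute (a : G) z := fun a => D.m_comm ⟨a, a.2.1⟩
  have hcz : ∀ {c : G}, (c = 1 ∨ c = z) → ∀ a : ↥D.lagC, c * a * c⁻¹ = (a : G) := by
    rintro c (rfl | rfl) a
    · group
    · rw [← (hzc a).eq, mul_inv_cancel_right]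
  have hinvol : ∀ {q : G}, q ∈ Q → ∀ a : ↥D.lagC, q * (q * a * q⁻¹) * q⁻¹ = (a : G) := fun {q} hq a => by
    rw [show q * (q * (a : G) * q⁻¹) * q⁻¹ = q * q * a * (q * q)⁻¹ by group]
    exact hcz (D.ctx.sq q hq) a
  have hcommute : ∀ {p q : G}, p ∈ Q → q ∈ Q → ∀ a : ↥D.lagC,
      p * (q * a * q⁻¹) * p⁻¹ = q * (p * a * p⁻¹) * q⁻¹ := fun {p q} hp hq a => by
    have h := hcz (D.ctx.comm (q⁻¹) (inv_mem hq) (p⁻¹) (inv_mem hp)) a
    rw [inv_inv, inv_inv] at h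
    calc p * (q * a * q⁻¹) * p⁻¹ = p * q * (q⁻¹ * p⁻¹ * q * p * a * (q⁻¹ * p⁻¹ * q * p)⁻¹) * (p * q)⁻¹ := by
          rw [h]; group
      _ = _ := by group
  have hmoved : ∀ {q : G} (hqQ : q ∈ Q) (a : ↥D.lagC), q * a * q⁻¹ = (a : G) →
      pa a • D.cl q = D.cl q := fun {q} hqQ a e => by
    rw [← D.π_cl ⟨a, a.2.1⟩ q hqQ]
    congr 1
    have hc : Commute q (a : G) := mul_inv_eq_iff_eq_mul.1 e
    show (a : G) * q * (a : G)⁻¹ = q
    rw [← hc.eq, mul_inv_cancel_right]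
  have hzO : (⟨z, hzA⟩ : ↥D.lagC) ∈ O := (hO _).2 ⟨1, one_mem _, by group⟩
  have hrest : ∏ a ∈ O.erase ⟨z, hzA⟩, a = 1 := by
    refine prod_four id σ τ _ fun a ha => ?_
    obtain ⟨haz, ha⟩ := Finset.mem_erase.1 ha
    obtain ⟨k, hk, hka⟩ := (hO a).1 ha
    have hu1 : pa a ≠ 1 := fun e => haz (Subtype.ext (by
      rw [← hka]
      exact hnoQ k (hka ▸ (D.π_ker _).1 e)))
    have hu2 : pa a * pa a = 1 := by
      show D.π ⟨a, _⟩ * D.π ⟨a, _⟩ = 1
      rw [← map_mul, show (⟨(a : G), a.2.1⟩ : ↥D.M) * ⟨a, a.2.1⟩ = 1 from Subtype.ext (D.lagC_elem a a.2), map_one]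
    obtain ⟨h1, h2, h12, hherm⟩ := hq (pa a) (D.π_mem _) hu1 hu2
    have hmem : ∀ {q : G} (hqQ : q ∈ Q), (⟨q * a * q⁻¹, D.Q_norm hqQ a a.2⟩ : ↥D.lagC) ∈
        O.erase ⟨z, hzA⟩ := fun {q} hqQ => by
      refine Finset.mem_erase.2 ⟨fun e => haz (Subtype.ext ?_), (hO _).2 ⟨q * k, mul_mem (hQn hqQ) hk, ?_⟩⟩
      · have e' : q * a * q⁻¹ = q * z * q⁻¹ := by
          rw [(D.ctx.central q hqQ).symm.eq, mul_inv_cancel_right]
          exact congrArg Subtype.val e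
        exact mul_left_cancel (mul_right_cancel e')
      · show q * k * z * (q * k)⁻¹ = q * a * q⁻¹
        rw [← hka]; group
    have eσ : pa (σ a) = pa a := hpaQ (hq₁ _) a
    have eτ : pa (τ a) = pa a := hpaQ (hq₂ _) a
    refine ⟨hmem (hq₁ _), hmem (hq₂ _), Subtype.ext ?_, Subtype.ext ?_, Subtype.ext ?_, fun e => ?_, fun e => ?_,
      fun e => ?_, Subtype.ext ?_⟩
    · show q₁ (pa (σ a)) * (q₁ (pa a) * a * (q₁ (pa a))⁻¹) * (q₁ (pa (σ a)))⁻¹ = _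
      rw [eσ]; exact hinvol (hq₁ _) a
    · show q₂ (pa (τ a)) * (q₂ (pa a) * a * (q₂ (pa a))⁻¹) * (q₂ (pa (τ a)))⁻¹ = _
      rw [eτ]; exact hinvol (hq₂ _) a
    · show q₁ (pa (τ a)) * (q₂ (pa a) * a * (q₂ (pa a))⁻¹) * (q₁ (pa (τ a)))⁻¹ =
        q₂ (pa (σ a)) * (q₁ (pa a) * a * (q₁ (pa a))⁻¹) * (q₂ (pa (σ a)))⁻¹
      rw [eσ, eτ]; exact hcommute (hq₁ _) (hq₂ _) a
    · exact h1 (hmoved (hq₁ _) a (congrArg Subtype.val e))
    · exact h2 (hmoved (hq₂ _) a (congrArg Subtype.val e))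
    · have e' : q₁ (pa (τ a)) * (q₂ (pa a) * a * (q₂ (pa a))⁻¹) * (q₁ (pa (τ a)))⁻¹ = a := congrArg Subtype.val e
      rw [eτ] at e'
      have h3 := hmoved (mul_mem (hq₁ (pa a)) (hq₂ (pa a))) a (Eq.trans (by group) e')
      rw [D.cl_mul _ (hq₁ _) _ (hq₂ _)] at h3
      exact h12 h3
    · show (a : G) * (q₁ (pa a) * a * (q₁ (pa a))⁻¹) * ((q₂ (pa a) * a * (q₂ (pa a))⁻¹) *
        (q₁ (pa (τ a)) * (q₂ (pa a) * a * (q₂ (pa a))⁻¹) * (q₁ (pa (τ a)))⁻¹)) = 1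
      rw [eτ]
      set p := q₁ (pa a)
      set q := q₂ (pa a)
      set c := (a : G) * q * (a : G)⁻¹ * q⁻¹ with hc
      have hqQ : q ∈ Q := hq₂ _
      have hcQ : c ∈ Q := mul_mem (conj_mem D.ctx (hzc a) hqQ) (inv_mem hqQ)
      have hclinv : D.cl q⁻¹ = D.cl q := by
        refine ((D.cl_eq q hqQ _ (inv_mem hqQ)).2 ?_).symm
        rcases D.ctx.sq q hqQ with e | e
        · exact Or.inl (inv_eq_of_mul_eq_one_right e)
        · refine Or.inr (inv_eq_of_mul_eq_one_right ?_)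
          rw [← mul_assoc, (D.ctx.central q hqQ).symm.eq, mul_assoc, e, D.ctx.sq_z]
      have hclc : D.cl c = pa a • D.cl q + D.cl q := by
        rw [hc, D.cl_mul _ (conj_mem D.ctx (hzc a) hqQ) _ (inv_mem hqQ), hclinv, D.π_cl ⟨a, a.2.1⟩ q hqQ]
      have hpc : Commute p c := D.commute_of_herm (hq₁ _) hcQ (by rw [hclc]; exact hherm)
      have haa : (a : G) * a = 1 := D.lagC_elem a a.2
      have hqa : q * a * q⁻¹ = (a : G) * c := by
        have hcA : c = a * (q * a * q⁻¹) := by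
          rw [hc, D.lagC_inv a.2]; group
        rw [hcA, ← mul_assoc, haa, one_mul]
      have hcl : c ∈ D.lagC := by
        have := D.lagC.mul_mem a.2 (D.Q_norm hqQ a a.2)
        rwa [hqa, ← mul_assoc, haa, one_mul] at this
      rw [hqa, show p * ((a : G) * c) * p⁻¹ = (p * a * p⁻¹) * (p * c * p⁻¹) by group, hpc.eq, mul_inv_cancel_right]
      set b := p * (a : G) * p⁻¹ with hb
      have hbA : b ∈ D.lagC := D.Q_norm (hq₁ _) a a.2
      calc (a : G) * b * (a * c * (b * c)) = a * b * (a * (c * b) * c) := by group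
        _ = a * b * (a * (b * c) * c) := by rw [(D.lagC_comm hcl hbA).eq]
        _ = (a * b) * (a * b) * (c * c) := by group
        _ = 1 := by rw [D.lagC_elem _ (mul_mem a.2 hbA), D.lagC_elem c hcl, one_mul]
  have hprod : ∏ a ∈ O, a = ⟨z, hzA⟩ := by
    rw [← Finset.mul_prod_erase O _ hzO, hrest, mul_one]
  let cn : ↥D.lagC →* ↥D.lagC := MonoidHom.mk' (fun a => ⟨n * a * n⁻¹, hN hn a a.2⟩) fun a b => Subtype.ext (by
    simp only [Subgroup.coe_mul]; group)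
  have hmap : ∏ a ∈ O, cn a = ∏ a ∈ O, a := by
    refine Finset.prod_bij (fun a _ => cn a) (fun a ha => ?_) (fun a _ b _ e => ?_) (fun b hb => ?_) fun _ _ => rfl
    · obtain ⟨k, hk, hka⟩ := (hO a).1 ha
      exact (hO _).2 ⟨n * k, mul_mem hn hk, by
        show n * k * z * (n * k)⁻¹ = n * (a : G) * n⁻¹
        rw [← hka]; group⟩
    · exact Subtype.ext (mul_left_cancel (mul_right_cancel (congrArg Subtype.val e :)))
    · obtain ⟨k, hk, hkb⟩ := (hO b).1 hb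
      have hb' : n⁻¹ * (b : G) * n ∈ D.lagC := by
        have := hN (inv_mem hn) b b.2
        rwa [inv_inv] at this
      refine ⟨⟨_, hb'⟩, (hO _).2 ⟨n⁻¹ * k, mul_mem (inv_mem hn) hk, ?_⟩, Subtype.ext ?_⟩
      · show n⁻¹ * k * z * (n⁻¹ * k)⁻¹ = n⁻¹ * (b : G) * n
        rw [← hkb]; group
      · show n * (n⁻¹ * (b : G) * n) * n⁻¹ = b
        group
  rw [← map_prod, hprod] at hmap
  exact hnz (congrArg Subtype.val hmap)

end Cfsg.Lib.FischerLarge
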