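import Cfsg.Agent.Lib.FischerLarge.Centralizer.PreLag
import Cfsg.Agent.Lib.FischerLarge.Centralizer.Even
import Cfsg.Agent.Lib.FischerLarge.Centralizer.CheckInvol
import Cfsg.Agent.Lib.Extra.LargeFused

/-!
# The four cosets of the unitary part in the centralizer
-/

set_option autoImplicit false
set_option maxRecDepth 8000

namespace Cfsg.Lib.FischerLarge

open Cfsg Matrix Cfsg.Lib.SUSixU43 Cfsg.Lib.Extra Equiv

universe u

theorem g6_ext {g h : G6} (e : ∀ v : V6, g • v = h • v) : g = h :=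
  mm_injective (Matrix.ext_of_mulVec_single fun i => by rw [← smul_def, ← smul_def, e])

theorem smul_zero6 (g : G6) : g • (0 : V6) = 0 := by rw [smul_def, Matrix.mulVec_zero]

theorem smul_dT (e : Exp) (v : V6) : dT e • v = fun i => elE (e.1 i) * v i := by
  funext i
  rw [smul_def, mm_dT, Matrix.mulVec_diagonal]

theorem smul_mono_single (n : ↥N6) (j : Fin 6) (a : R4) :
    (n : G6) • (Pi.single j a : V6) = Pi.single (perN n j) (mm (n : G6) (perN n j) j * a) := by
  funext i
  rw [smul_def, Matrix.mulVec_single]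
  show MulOpposite.op a • mm (n : G6) i j = _
  rw [MulOpposite.smul_eq_mul_unop, MulOpposite.unop_op]
  rcases eq_or_ne i (perN n j) with rfl | h
  · rw [Pi.single_eq_same]
  · rw [Pi.single_eq_of_ne h, perN_spec n i j h, zero_mul]

theorem tau_inv (tw : Bool) : ∀ a : R4, tau tw (tau tw a) = a := by
  have h : ∀ a : R4, (a ^ 2) ^ 2 = a := by decide +kernel
  intro a
  cases tw
  · rfl
  · rw [tau_apply, tau_apply]; exact h a

/-- The standard semilinear maps. -/
noncomputable def stdA (tw : Bool) (p : Perm (Fin 6)) (d : R4) (v : V6) : V6 :=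
  fun i => (if i = 0 then d else 1) * tau tw (v (p i))

theorem stdA_comp (tw : Bool) (p : Perm (Fin 6)) (d : R4) (v : V6) :
    stdA tw p d (stdA tw p d v) =
      fun i => (if i = 0 then d else 1) * tau tw (if p i = 0 then d else 1) * v (p (p i)) := by
  funext i
  simp only [stdA, map_mul, tau_inv, mul_assoc]

/-- A vector in the coordinates. -/
theorem sum_single6 (v : V6) : v = ∑ i, v i • (Pi.single i 1 : V6) := by
  funext k
  simp [Finset.sum_apply, Pi.single_apply]

variable {G : Type u} [Group G] [Finite G] {z : G} {Q : Subgroup G} (D : Pre z Q)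

theorem Pre.sg_sing {h : G} (hh : Commute h z) (v : V6) :
    hermForm 6 R4 2 (D.sg h v) (D.sg h v) = 0 ↔ hermForm 6 R4 2 v v = 0 := by
  obtain ⟨hL, hLc⟩ := D.lift_spec v
  show hermForm 6 R4 2 (D.cl _) (D.cl _) = 0 ↔ _
  rw [← D.cl_sq _ (conj_mem D.ctx hh hL), show h * D.lift v * h⁻¹ * (h * D.lift v * h⁻¹) =
    h * (D.lift v * D.lift v) * h⁻¹ by group, conj_eq_one_iff, D.cl_sq _ hL, hLc]

theorem Pre.sg_injective {h : G} (hh : Commute h z) : Function.Injective (D.sg h) := fun x y e => by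
  have e2 := congrArg (D.sg h⁻¹) e
  rwa [← D.sg_mul hh.inv_left hh, ← D.sg_mul hh.inv_left hh, inv_mul_cancel, D.sg_one, D.sg_one] at e2

theorem Pre.sg_surjective {h : G} (hh : Commute h z) : Function.Surjective (D.sg h) :=
  fun y => ⟨D.sg h⁻¹ y, D.sg_inv hh y⟩

/-- The centralizer keeps the small orbit. -/
theorem Pre.sg_orbA {h : G} (hh : Commute h z) {v : V6} (hv : v ∈ (orbA D.c).set) :
    D.sg h v ∈ (orbA D.c).set := by
  have O := orbFacts D.c_lt
  by_contra hnot
  have hinv : ∀ g ∈ KM D.c, ∀ x ∈ D.sg h '' (orbA D.c).set, g • x ∈ D.sg h '' (orbA D.c).set := by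
    rintro g hg _ ⟨x, hx, rfl⟩
    obtain ⟨m, rfl⟩ := D.exists_pre hg
    set k : ↥D.M := ⟨h⁻¹ * m * h, by
      simpa using D.M_normal h⁻¹ (mem_cent_of_commute hh.inv_left) m m.2⟩ with hk
    refine ⟨D.π k • x, O.invA _ (D.π_mem k) _ hx, ?_⟩
    rw [D.sg_conj hh, show (⟨h * k * h⁻¹, D.M_normal h (mem_cent_of_commute hh) k k.2⟩ : ↥D.M) = m from
      Subtype.ext (by simp only [hk]; group)]
  have hB : D.sg h v ∈ (orbBig D.c).set := by
    obtain ⟨hv0, hvs⟩ := O.sing v (Or.inl hv)
    exact (O.cover _ (fun e => hv0 (D.sg_injective hh (e.trans (D.sg_zero hh).symm)))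
      ((D.sg_sing hh v).2 hvs)).resolve_left hnot
  have hsub : (orbBig D.c).set ⊆ D.sg h '' (orbA D.c).set := fun y hy => by
    obtain ⟨g, hg, rfl⟩ := O.transB _ hB _ hy
    exact hinv g hg _ ⟨v, hv, rfl⟩
  have := Set.ncard_le_ncard hsub (Set.toFinite _)
  rw [Set.ncard_image_of_injective _ (D.sg_injective hh), O.cardA, O.cardB] at this
  omega

/-- The permutation of the diagonal elements by a semilinear map. -/
theorem Pre.exists_twisted {h : G} (hh : Commute h z) :
    ∃ φ : ↥(KM D.c) →* G6, Function.Injective φ ∧ φ.range ≤ KM D.c ∧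
      ∀ (g : ↥(KM D.c)) v, D.sg h ((g : G6) • v) = φ g • D.sg h v := by
  have key : ∀ g : ↥(KM D.c), ∃ g' ∈ KM D.c, ∀ v, D.sg h ((g : G6) • v) = g' • D.sg h v := by
    intro g
    obtain ⟨m, hm⟩ := D.exists_pre g.2
    exact ⟨_, D.π_mem _, fun v => by rw [← hm]; exact D.sg_conj hh m v⟩
  choose f hfK hf using key
  let φ : ↥(KM D.c) →* G6 := MonoidHom.mk' f fun a b => g6_ext fun v => by
    obtain ⟨w, rfl⟩ := D.sg_surjective hh v
    rw [← hf, Subgroup.coe_mul, mul_smul, hf, hf, mul_smul]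
  refine ⟨φ, (injective_iff_map_eq_one φ).2 fun a ha => Subtype.ext (g6_ext fun v => D.sg_injective hh ?_), ?_, hf⟩
  · rw [hf, show f a = 1 from ha, one_smul, Subgroup.coe_one, one_smul]
  · rintro _ ⟨g, rfl⟩
    exact hfK g

/-- Up to the unitary part every element permutes the coordinate lines. -/
theorem Pre.exists_monomial {h : G} (hh : Commute h z) :
    ∃ m : ↥D.M, ∃ p : Perm (Fin 6), ∃ a : Fin 6 → R4, (∀ i, a i ≠ 0) ∧
      ∀ i, D.sg ((m : G) * h) (Pi.single i 1) = Pi.single (p i) (a i) := by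
  classical
  haveI := finite_G6
  haveI : Fact (Nat.Prime 3) := ⟨Nat.prime_three⟩
  obtain ⟨φ, hφi, hφK, hφ⟩ := D.exists_twisted hh
  set E := (T6.subgroupOf (KM D.c)).map φ with hE
  have gT0 : GoodSub (3 ^ 5) (T6.subgroupOf (KM D.c)) :=
    ⟨fun a ha b hb => Subtype.ext (T6_comm ha hb),
      (Nat.card_congr (Subgroup.subgroupOfEquivOfLe (T6_le_KM D.c_lt)).toEquiv).trans good_T6.2⟩
  have gE : GoodSub (3 ^ 5) E := by
    refine ⟨?_, (Subgroup.card_map_of_injective hφi).trans gT0.2⟩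
    rintro _ ⟨a, ha, rfl⟩ _ ⟨b, hb, rfl⟩
    rw [← map_mul, ← map_mul, gT0.1 a ha b hb]
  obtain ⟨k, hk, he⟩ := exists_conj_in_sub syl6 uniq_S6 ((Subgroup.map_le_range _ _).trans hφK)
    (T6_le_KM D.c_lt) gE good_T6
  obtain ⟨m, hm⟩ := D.exists_pre hk
  have hmh : Commute ((m : G) * h) z := (D.m_comm m).mul_left hh
  obtain ⟨tw, htw⟩ := D.exists_twist hmh
  have hnorm : ∀ t ∈ T6, ∃ t₀ ∈ T6, ∀ v, D.sg ((m : G) * h) (t₀ • v) = t • D.sg ((m : G) * h) v := by
    intro t ht
    rw [← he] at ht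
    obtain ⟨_, ⟨t₀, ht₀, rfl⟩, rfl⟩ := ht
    refine ⟨t₀, ht₀, fun v => ?_⟩
    show _ = (k * φ t₀ * k⁻¹) • _
    rw [D.sg_mul (D.m_comm m) hh, D.sg_mul (D.m_comm m) hh, D.sg_M, D.sg_M, hm, hφ, mul_smul, mul_smul,
      inv_smul_smul]
  have hcol : ∀ i, ∃ j a, a ≠ 0 ∧ D.sg ((m : G) * h) (Pi.single i 1) = Pi.single j a := by
    intro i
    set x := D.sg ((m : G) * h) (Pi.single i 1) with hx
    have hx0 : x ≠ 0 := fun e => by
      have := congrFun (D.sg_injective hmh (e.trans (D.sg_zero hmh).symm)) i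
      rw [Pi.single_eq_same] at this
      exact one_ne_zero this
    obtain ⟨j, hj⟩ : ∃ j, x j ≠ 0 := Function.ne_iff.1 hx0
    refine ⟨j, x j, hj, funext fun l => ?_⟩
    rcases eq_or_ne l j with rfl | hl
    · rw [Pi.single_eq_same]
    rw [Pi.single_eq_of_ne hl]
    by_contra hl0
    let e : Exp := ⟨Pi.single j 1 + Pi.single l 2, by
      rw [Finset.sum_congr rfl fun k _ => Pi.add_apply _ _ k, Finset.sum_add_distrib,
        Finset.sum_pi_single', Finset.sum_pi_single']
      simp only [Finset.mem_univ, if_true]; rfl⟩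
    obtain ⟨t₀, ht₀, hh0⟩ := hnorm _ (dT_mem e)
    obtain ⟨e₀, rfl⟩ := mem_T6_iff.1 ht₀
    have hsc : dT e₀ • (Pi.single i 1 : V6) = elE (e₀.1 i) • Pi.single i 1 := by
      rw [smul_dT]
      funext r
      rcases eq_or_ne r i with rfl | hr
      · simp
      · simp [hr]
    have h1 := hh0 (Pi.single i 1)
    rw [hsc, htw, ← hx, smul_dT] at h1
    have ej := mul_right_cancel₀ hj (congrFun h1 j : tau tw (elE (e₀.1 i)) * x j = elE (e.1 j) * x j)
    have el' := mul_right_cancel₀ hl0 (congrFun h1 l : tau tw (elE (e₀.1 i)) * x l = elE (e.1 l) * x l)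
    have h2 := elE_facts.2.2.2.1 _ _ (ej.symm.trans el')
    simp only [e, Pi.add_apply, Pi.single_eq_same, Pi.single_eq_of_ne hl, Pi.single_eq_of_ne hl.symm, add_zero,
      zero_add] at h2
    exact absurd h2 (show (1 : ZMod 3) ≠ 2 from fun h => by cases h)
  choose p a ha hpa using hcol
  have hp : Function.Injective p := fun i j e => by
    by_contra hij
    have h1 : D.sg ((m : G) * h) (tau tw (a i * (a j)⁻¹) • Pi.single j 1) =
        D.sg ((m : G) * h) (Pi.single i 1) := by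
      rw [htw, tau_inv, hpa, hpa, ← e]
      funext r
      rcases eq_or_ne r (p i) with rfl | hr
      · simp [mul_assoc, inv_mul_cancel₀ (ha j)]
      · simp [hr]
    have := congrFun (D.sg_injective hmh h1) i
    simp [Pi.single_eq_of_ne hij] at this
  exact ⟨m, Equiv.ofBijective p (Finite.injective_iff_bijective.1 hp), a, ha, hpa⟩

/-- Up to the unitary part every element acts as a standard map. -/
theorem Pre.exists_std {h : G} (hh : Commute h z) :
    ∃ m : ↥D.M, ∃ tw : Bool, ∃ p : Perm (Fin 6), ∃ d : R4, (p = 1 ∨ p = swap 0 1) ∧ d ≠ 0 ∧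
      ∀ v, D.sg ((m : G) * h) v = stdA tw p d v := by
  classical
  obtain ⟨m, p, a, ha, hpa⟩ := D.exists_monomial hh
  obtain ⟨q, hq, hev⟩ : ∃ q : Perm (Fin 6), (q = 1 ∨ q = swap 0 1) ∧ q * p⁻¹ ∈ alternatingGroup (Fin 6) := by
    by_cases hp : p ∈ alternatingGroup (Fin 6)
    · exact ⟨1, Or.inl rfl, by rw [one_mul]; exact inv_mem hp⟩
    · refine ⟨swap 0 1, Or.inr rfl, ?_⟩
      rw [Perm.mem_alternatingGroup] at hp ⊢
      rw [Perm.sign_mul, Perm.sign_inv, Perm.sign_swap (by decide), (Int.units_eq_one_or _).resolve_left hp]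
      decide
  obtain ⟨n, hnK, hnp⟩ := even_cover D.c_lt hev
  let b : Fin 6 → R4 := fun i => mm (n : G6) (perN n (p i)) (p i) * a i
  have hb : ∀ i, b i ≠ 0 := fun i => mul_ne_zero (perN_entry n _) (ha i)
  choose β hβ using fun i => elE_facts.2.2.2.2.1 _ (hb i)
  let f : Fin 6 → ZMod 3 := fun r => -β (q⁻¹ r)
  let e : Exp := ⟨Function.update f 0 (f 0 - ∑ i, f i), by
    rw [Finset.sum_update_of_mem (Finset.mem_univ 0), ← Finset.sum_sdiff (Finset.subset_univ ({0} : Finset (Fin 6))),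
      Finset.sum_singleton]
    abel⟩
  obtain ⟨m₂, hm₂⟩ := D.exists_pre (mul_mem (T6_le_KM D.c_lt (dT_mem e)) hnK)
  have hmh : Commute (((m₂ * m : ↥D.M) : G) * h) z := (D.m_comm _).mul_left hh
  obtain ⟨tw, htw⟩ := D.exists_twist hmh
  have hd : elE (e.1 0) * b (q⁻¹ 0) ≠ 0 := mul_ne_zero (elE_facts.2.1 _) (hb _)
  refine ⟨m₂ * m, tw, q, elE (e.1 0) * b (q⁻¹ 0), hq, hd, fun v => ?_⟩
  have hqq : q⁻¹ = q := by rcases hq with rfl | rfl <;> simp
  have hbasis : ∀ i, D.sg (((m₂ * m : ↥D.M) : G) * h) (Pi.single i 1) =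
      Pi.single (q i) (elE (e.1 (q i)) * b i) := by
    intro i
    have hpq : perN n (p i) = q i := by rw [hnp, Perm.mul_apply, Perm.coe_inv, symm_apply_apply]
    rw [Subgroup.coe_mul, mul_assoc, D.sg_mul (D.m_comm m₂) ((D.m_comm m).mul_left hh), hpa, D.sg_M, hm₂, mul_smul,
      smul_mono_single, smul_dT]
    funext r
    rcases eq_or_ne r (q i) with rfl | hr
    · simp [hpq, b]
    · simp [hpq, hr]
  have hcoef : ∀ r, elE (e.1 r) * b (q⁻¹ r) = if r = 0 then elE (e.1 0) * b (q⁻¹ 0) else 1 := by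
    intro r
    rcases eq_or_ne r 0 with rfl | hr
    · rw [if_pos rfl]
    · rw [if_neg hr, ← hβ, ← elE_facts.1, show e.1 r = f r from Function.update_of_ne hr (f 0 - ∑ i, f i) f]
      simp only [f, neg_add_cancel]
      exact elE_facts.2.2.1
  let σ : V6 →+ V6 := AddMonoidHom.mk' _ (D.sg_add hmh)
  conv_lhs => rw [sum_single6 v]
  show σ _ = _
  rw [map_sum]
  funext r
  rw [Finset.sum_apply, stdA, ← hcoef]
  rw [Finset.sum_eq_single (q⁻¹ r)]
  · show D.sg _ _ r = _
    rw [htw, Pi.smul_apply, hbasis, Perm.coe_inv, apply_symm_apply, Pi.single_eq_same, smul_eq_mul, mul_comm,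
      ← Perm.coe_inv, hqq]
  · intro i _ hi
    show D.sg _ _ r = _
    rw [htw, Pi.smul_apply, hbasis, Pi.single_eq_of_ne, smul_zero]
    intro e'
    exact hi (by rw [e', Perm.coe_inv, symm_apply_apply])
  · intro h1
    exact absurd (Finset.mem_univ _) h1

/-- A linear standard map has no scaling. -/
theorem Pre.scal_one {h : G} (hh : Commute h z) {d : R4} (hd : d ≠ 0)
    (hs : ∀ v, D.sg h v = stdA false 1 d v) : d = 1 := by
  have hb := scal_ok D.c D.c_lt
  simp only [scalB, Bool.and_eq_true, Nat.blt, Nat.ble_eq, Bool.not_eq_true'] at hb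
  obtain ⟨⟨⟨hw, hA⟩, h2⟩, h3⟩ := hb
  have hmem := D.sg_orbA hh ((has_iff (orbA_dist D.c_lt) hw).1 hA)
  rw [hs] at hmem
  have e : ∀ k, stdA false 1 (el k) (vec (scalWit D.c)) = vec (scal0 k (scalWit D.c)) := by
    intro k
    funext i
    show (if i = 0 then el k else 1) * vec (scalWit D.c) i =
      el (vdig (pack 6 fun j => bif Nat.beq j 0 then muC k (vdig (scalWit D.c) j) else vdig (scalWit D.c) j) i)
    rw [vdig_pack i.isLt, el_mod]
    rcases eq_or_ne i 0 with rfl | hi
    · rw [if_pos rfl]; exact (el_mu _ _).symm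
    · rw [if_neg hi, one_mul, show Nat.beq (i : ℕ) 0 = false from Bool.eq_false_iff.2 fun e' => hi (Fin.ext (Nat.eq_of_beq_eq_true e')), cond_false]
      rfl
  have hlt : ∀ k, scal0 k (scalWit D.c) < 4096 := fun k => by simp only [scal0, pack]; omega
  have h123 : ∀ x : R4, x ≠ 0 → x = 1 ∨ x = el 2 ∨ x = el 3 := by decide +kernel
  rcases h123 d hd with r | r | r
  · exact r
  all_goals
    exfalso
    rw [r, e, ← has_iff (orbA_dist D.c_lt) (hlt _)] at hmem
    simp_all

/-- The square of every element lies in the unitary part. -/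
theorem Pre.sq_mem {h : G} (hh : Commute h z) : h * h ∈ D.M := by
  obtain ⟨m, tw, p, d, hp, hd, hs⟩ := D.exists_std hh
  set k := (m : G) * h with hk
  have hkz : Commute k z := (D.m_comm m).mul_left hh
  suffices hkk : k * k ∈ D.M by
    have e : h * h = h * (m : G)⁻¹ * h⁻¹ * ((m : G)⁻¹ * (k * k)) := by rw [hk]; group
    rw [e]
    exact D.M.mul_mem (D.M_normal h (mem_cent_of_commute hh) _ (D.M.inv_mem m.2))
      (D.M.mul_mem (D.M.inv_mem m.2) hkk)
  have hsq : ∀ v i, D.sg (k * k) v i = (if i = 0 then d else 1) * tau tw (if p i = 0 then d else 1) * v i := by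
    intro v i
    rw [D.sg_mul hkz hkz, hs, hs, stdA_comp]
    simp only [show p (p i) = i by rcases hp with rfl | rfl <;> simp]
  have hdi : ∀ a : R4, a ≠ 0 → a ^ 2 * a = 1 := by decide +kernel
  have hfin : ∀ t : G6, t ∈ KM D.c → (∀ v, D.sg (k * k) v = t • v) → k * k ∈ D.M := by
    intro t ht h2
    obtain ⟨m', hm'⟩ := D.exists_pre ht
    have hq : (m' : G)⁻¹ * (k * k) ∈ Q := by
      refine D.mem_of_sg ((D.m_comm m').inv_left.mul_left (hkz.mul_left hkz)) fun v => ?_
      rw [D.sg_mul (D.m_comm m').inv_left (hkz.mul_left hkz), h2, ← hm', ← D.sg_M,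
        ← D.sg_mul (D.m_comm m').inv_left (D.m_comm m'), inv_mul_cancel, D.sg_one]
    have := D.M.mul_mem m'.2 (D.Q_le hq)
    rwa [mul_inv_cancel_left] at this
  rcases hp with rfl | rfl
  · obtain rfl | htw : tw = true ∨ tw = false := by cases tw <;> simp
    · refine hfin 1 (one_mem _) fun v => funext fun i => ?_
      rw [one_smul, hsq, Perm.one_apply, tau_apply, cond_true]
      split_ifs
      · rw [mul_comm d, hdi d hd, one_mul]
      · simp
    · subst htw
      have := D.scal_one hkz hd hs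
      refine hfin 1 (one_mem _) fun v => funext fun i => ?_
      rw [one_smul, hsq, this]
      split_ifs <;> simp [tau_apply]
  · have hdd : d * tau tw 1 ≠ 0 ∧ tau tw d ≠ 0 := ⟨by simpa using hd, by simpa using hd⟩
    obtain ⟨β₀, hβ₀⟩ := elE_facts.2.2.2.2.1 _ hdd.1
    obtain ⟨β₁, hβ₁⟩ := elE_facts.2.2.2.2.1 _ hdd.2
    by_cases hsum : β₀ + β₁ = 0
    · let e : Exp := ⟨Pi.single 0 β₀ + Pi.single 1 β₁, by
        rw [Finset.sum_congr rfl fun k _ => Pi.add_apply _ _ k, Finset.sum_add_distrib,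
          Finset.sum_pi_single', Finset.sum_pi_single']
        simpa using hsum⟩
      refine hfin _ (T6_le_KM D.c_lt (dT_mem e)) fun v => funext fun i => ?_
      rw [hsq, smul_dT]
      show _ = elE (e.1 i) * v i
      congr 1
      fin_cases i <;> simp [e, hβ₀, hβ₁, elE_facts.2.2.1, swap_apply_def]
    · exfalso
      cases tw
      · rw [tau_apply, cond_false, mul_one] at hβ₀
        rw [tau_apply, cond_false] at hβ₁
        have he : β₁ = β₀ := elE_facts.2.2.2.1 _ _ (hβ₁.trans hβ₀.symm)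
        let e : Exp := ⟨Pi.single 0 β₀ + Pi.single 1 (-β₀), by
          rw [Finset.sum_congr rfl fun k _ => Pi.add_apply _ _ k, Finset.sum_add_distrib,
            Finset.sum_pi_single', Finset.sum_pi_single']
          simp⟩
        obtain ⟨m', hm'⟩ := D.exists_pre (T6_le_KM D.c_lt (dT_mem e))
        have h1 : d * d = 1 := by
          refine D.scal_one (h := (m' : G) * (k * k)) ((D.m_comm m').mul_left (hkz.mul_left hkz))
            (mul_ne_zero hd hd) fun v => funext fun i => ?_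
          rw [D.sg_mul (D.m_comm m') (hkz.mul_left hkz), D.sg_M, hm', smul_dT]
          show elE (e.1 i) * D.sg (k * k) v i = _
          rw [hsq]
          fin_cases i <;>
            simp [e, stdA, tau_apply, swap_apply_def, elE_facts.2.2.1, ← elE_facts.2.2.2.2.2, hβ₀, ← mul_assoc] <;>
            rw [hdi d hd, one_mul]
        have hd1 : d = 1 := by
          have hall : ∀ a : R4, a * a = 1 → a = 1 := by decide +kernel
          exact hall d h1
        refine hsum ?_
        have h0 : β₀ = 0 := elE_facts.2.2.2.1 _ _ (hβ₀.trans (hd1.trans elE_facts.2.2.1.symm))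
        rw [he, h0, add_zero]
      · rw [tau_apply, cond_true, one_pow, mul_one] at hβ₀
        rw [tau_apply, cond_true, ← hβ₀, elE_facts.2.2.2.2.2] at hβ₁
        exact hsum (by rw [elE_facts.2.2.2.1 _ _ hβ₁, add_neg_cancel])

/-- The linear elements outside the unitary part act as one transposition. -/
theorem Pre.exists_swap {h : G} (hh : Commute h z) (hlin : ∀ (a : R4) v, D.sg h (a • v) = a • D.sg h v)
    (hM : h ∉ D.M) : ∃ m : ↥D.M, ∀ v, D.sg ((m : G) * h) v = stdA false (swap 0 1) 1 v := by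
  obtain ⟨m, tw, p, d, hp, hd, hs⟩ := D.exists_std hh
  set k := (m : G) * h with hk
  have hkz : Commute k z := (D.m_comm m).mul_left hh
  have hklin : ∀ (a : R4) v, D.sg k (a • v) = a • D.sg k v := fun a v => by
    rw [hk, D.sg_mul (D.m_comm m) hh, D.sg_mul (D.m_comm m) hh, hlin, D.sg_M, D.sg_M, g6_scalar]
  have htw : tw = false := by
    cases tw
    · rfl
    exfalso
    have h1 := congrFun (hklin om (Pi.single (p 1) 1)) 1
    rw [Pi.smul_apply, hs, hs] at h1
    simp [stdA, tau_apply] at h1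
    have h2 : om ^ 2 ≠ om := by simp only [om]; decide +kernel
    exact h2 h1
  subst htw
  have hd1 : d = 1 := by
    rcases hp with rfl | rfl
    · exact D.scal_one hkz hd hs
    obtain ⟨β₀, hβ₀⟩ := elE_facts.2.2.2.2.1 _ hd
    let e : Exp := ⟨Pi.single 0 β₀ + Pi.single 1 (-β₀), by
      rw [Finset.sum_congr rfl fun k _ => Pi.add_apply _ _ k, Finset.sum_add_distrib,
        Finset.sum_pi_single', Finset.sum_pi_single']
      simp⟩
    obtain ⟨m', hm'⟩ := D.exists_pre (T6_le_KM D.c_lt (dT_mem e))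
    have h1 : d * d = 1 := by
      refine D.scal_one (h := (m' : G) * (k * k)) ((D.m_comm m').mul_left (hkz.mul_left hkz))
        (mul_ne_zero hd hd) fun v => funext fun i => ?_
      rw [D.sg_mul (D.m_comm m') (hkz.mul_left hkz), D.sg_mul hkz hkz, hs, hs, D.sg_M, hm', smul_dT, stdA_comp]
      fin_cases i <;>
        simp [e, stdA, tau_apply, swap_apply_def, elE_facts.2.2.1, ← elE_facts.2.2.2.2.2, hβ₀, ← mul_assoc] <;>
        rw [show d ^ 2 * d = 1 from (show ∀ a : R4, a ≠ 0 → a ^ 2 * a = 1 by decide +kernel) d hd, one_mul]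
    have hall : ∀ a : R4, a * a = 1 → a = 1 := by decide +kernel
    exact hall d h1
  subst hd1
  rcases hp with rfl | rfl
  · exfalso
    refine hM ?_
    have hq : k ∈ Q := D.mem_of_sg hkz fun v => funext fun i => by rw [hs, stdA]; simp [tau_apply]
    have := D.M.mul_mem (D.M.inv_mem m.2) (D.Q_le hq)
    rwa [hk, inv_mul_cancel_left] at this
  · exact ⟨m, hs⟩

/-- The subgroup of linear elements. -/
noncomputable def Pre.linC : Subgroup G where
  carrier := {h | Commute h z ∧ ∀ (a : R4) v, D.sg h (a • v) = a • D.sg h v}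
  one_mem' := ⟨Commute.one_left z, fun a v => by rw [D.sg_one, D.sg_one]⟩
  mul_mem' := fun {x y} hx hy => ⟨hx.1.mul_left hy.1, fun a v => by
    rw [D.sg_mul hx.1 hy.1, D.sg_mul hx.1 hy.1, hy.2, hx.2]⟩
  inv_mem' := fun {x} hx => ⟨hx.1.inv_left, fun a v => by
    refine D.sg_injective hx.1 ?_
    rw [D.sg_inv hx.1, hx.2, D.sg_inv hx.1]⟩

theorem Pre.M_le_lin : D.M ≤ D.linC := fun m hm =>
  ⟨D.m_comm ⟨m, hm⟩, fun a v => by rw [D.sg_M ⟨m, hm⟩, D.sg_M ⟨m, hm⟩, g6_scalar]⟩

/-- Linear elements fill at most two cosets. -/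
theorem Pre.lin_mul {x y : G} (hx : x ∈ D.linC) (hy : y ∈ D.linC) (hxM : x ∉ D.M) (hyM : y ∉ D.M) :
    x * y ∈ D.M := by
  obtain ⟨m₁, h₁⟩ := D.exists_swap hx.1 hx.2 hxM
  obtain ⟨m₂, h₂⟩ := D.exists_swap hy.1 hy.2 hyM
  have hq : ((m₁ : G) * x) * ((m₂ : G) * y) ∈ Q := by
    refine D.mem_of_sg (((D.m_comm m₁).mul_left hx.1).mul_left ((D.m_comm m₂).mul_left hy.1)) fun v => ?_
    rw [D.sg_mul ((D.m_comm m₁).mul_left hx.1) ((D.m_comm m₂).mul_left hy.1), h₂, h₁, stdA_comp]
    funext i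
    simp
  have e : x * y = (x * (m₂ : G)⁻¹ * x⁻¹) * ((m₁ : G)⁻¹ * (((m₁ : G) * x) * ((m₂ : G) * y))) := by group
  rw [e]
  exact D.M.mul_mem (D.M_normal x (mem_cent_of_commute hx.1) _ (D.M.inv_mem m₂.2))
    (D.M.mul_mem (D.M.inv_mem m₁.2) (D.Q_le hq))

/-- The linear elements have index at most two. -/
theorem Pre.semi_mul {x y : G} (hx : Commute x z) (hy : Commute y z) (hxl : x ∉ D.linC) (hyl : y ∉ D.linC) :
    x * y ∈ D.linC := by
  obtain ⟨t₁, h₁⟩ := D.exists_twist hx
  obtain ⟨t₂, h₂⟩ := D.exists_twist hy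
  cases t₁
  · exact absurd ⟨hx, fun a v => by rw [h₁, tau_apply, cond_false]⟩ hxl
  cases t₂
  · exact absurd ⟨hy, fun a v => by rw [h₂, tau_apply, cond_false]⟩ hyl
  exact ⟨hx.mul_left hy, fun a v => by
    rw [D.sg_mul hx hy, D.sg_mul hx hy, h₂, h₁, tau_inv]⟩

/-- The unitary part has index at most four. -/
theorem Pre.card_cent_le : Nat.card ↥(Subgroup.centralizer ({z} : Set G)) ≤ 4 * Nat.card ↥D.M := by
  have hlinC : D.linC ≤ Subgroup.centralizer ({z} : Set G) := fun x hx => mem_cent_of_commute hx.1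
  have h1 : Nat.card ↥(Subgroup.centralizer ({z} : Set G)) ≤ 2 * Nat.card ↥D.linC := by
    by_cases hall : ∀ x ∈ Subgroup.centralizer ({z} : Set G), x ∈ D.linC
    · exact (Subgroup.card_le_of_le hall).trans (Nat.le_mul_of_pos_left _ (by norm_num))
    push Not at hall
    obtain ⟨x, hx, hxl⟩ := hall
    refine card_le_double hlinC hx fun y hy => ?_
    by_cases hyl : y ∈ D.linC
    · exact Or.inl hyl
    · exact Or.inr (D.semi_mul (commute_of_mem_cent hx) (commute_of_mem_cent hy) hxl hyl)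
  have h2 : Nat.card ↥D.linC ≤ 2 * Nat.card ↥D.M := by
    by_cases hall : ∀ x ∈ D.linC, x ∈ D.M
    · exact (Subgroup.card_le_of_le hall).trans (Nat.le_mul_of_pos_left _ (by norm_num))
    push Not at hall
    obtain ⟨x, hx, hxM⟩ := hall
    refine card_le_double D.M_le_lin hx fun y hy => ?_
    by_cases hyM : y ∈ D.M
    · exact Or.inl hyM
    · exact Or.inr (D.lin_mul hx hy hxM hyM)
  omega

/-- The transposition is realised when all four cosets occur. -/
theorem Pre.exists_swap_four (h4 : Nat.card ↥(Subgroup.centralizer ({z} : Set G)) = 4 * Nat.card ↥D.M) :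
    (∃ d : G, Commute d z ∧ d ∉ D.M ∧ ∀ v, D.sg d v = stdA false (swap 0 1) 1 v) ∧
      ∃ x, Commute x z ∧ x ∉ D.linC := by
  have hM0 : 0 < Nat.card ↥D.M := Nat.card_pos
  have hlinC : D.linC ≤ Subgroup.centralizer ({z} : Set G) := fun x hx => mem_cent_of_commute hx.1
  have h2 : Nat.card ↥D.linC ≤ 2 * Nat.card ↥D.M := by
    by_cases hall : ∀ x ∈ D.linC, x ∈ D.M
    · exact (Subgroup.card_le_of_le hall).trans (Nat.le_mul_of_pos_left _ (by norm_num))
    push Not at hall
    obtain ⟨x, hx, hxM⟩ := hall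
    refine card_le_double D.M_le_lin hx fun y hy => ?_
    by_cases hyM : y ∈ D.M
    · exact Or.inl hyM
    · exact Or.inr (D.lin_mul hx hy hxM hyM)
  obtain ⟨x, hx, hxl⟩ : ∃ x, Commute x z ∧ x ∉ D.linC := by
    by_contra h
    push Not at h
    have := Subgroup.card_le_of_le (show Subgroup.centralizer ({z} : Set G) ≤ D.linC from
      fun y hy => h y (commute_of_mem_cent hy))
    omega
  refine ⟨?_, x, hx, hxl⟩
  obtain ⟨y, hy, hyM⟩ : ∃ y ∈ D.linC, y ∉ D.M := by
    by_contra h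
    push Not at h
    have h3 := Subgroup.card_le_of_le (show D.linC ≤ D.M from h)
    have h4' : Nat.card ↥(Subgroup.centralizer ({z} : Set G)) ≤ 2 * Nat.card ↥D.linC :=
      card_le_double hlinC (mem_cent_of_commute hx) fun w hw => by
        by_cases hwl : w ∈ D.linC
        · exact Or.inl hwl
        · exact Or.inr (D.semi_mul hx (commute_of_mem_cent hw) hxl hwl)
    omega
  obtain ⟨m, hm⟩ := D.exists_swap hy.1 hy.2 hyM
  refine ⟨(m : G) * y, (D.m_comm m).mul_left hy.1, fun h => hyM ?_, hm⟩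
  have := D.M.mul_mem (D.M.inv_mem m.2) h
  rwa [inv_mul_cancel_left] at this

/-- The vectors fixed by a semilinear element are few. -/
theorem Pre.semi_fixed {h : G} (hh : Commute h z) (hl : h ∉ D.linC) (U : Set V6)
    (hU : ∀ x ∈ U, D.sg h x = x) : U.ncard * U.ncard ≤ 4096 := by
  obtain ⟨tw, htw⟩ := D.exists_twist hh
  cases tw
  · exact absurd ⟨hh, fun a v => by rw [htw, tau_apply, cond_false]⟩ hl
  have hinj : Set.InjOn (fun p : V6 × V6 => p.1 + om • p.2) (U ×ˢ U) := by
    rintro ⟨x, y⟩ ⟨hx, hy⟩ ⟨x', y'⟩ ⟨hx', hy'⟩ (e : x + om • y = x' + om • y')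
    have e2 := congrArg (D.sg h) e
    rw [D.sg_add hh, D.sg_add hh, htw, htw, hU x hx, hU y hy, hU x' hx', hU y' hy', tau_om.1, add_smul,
      add_smul, one_smul, one_smul, ← add_assoc, ← add_assoc, e] at e2
    have ey : y = y' := add_left_cancel e2
    subst ey
    exact Prod.ext (add_right_cancel e) rfl
  have h1 := Set.ncard_le_ncard_of_injOn (t := (Set.univ : Set V6)) _ (fun _ _ => Set.mem_univ _) hinj
    (Set.toFinite _)
  rw [Set.ncard_prod, Set.ncard_univ, Nat.card_fun, Nat.card_fin] at h1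
  refine h1.trans (le_of_eq ?_)
  rw [show Nat.card R4 = 4 by rw [Nat.card_eq_fintype_card, card_r4]]
  norm_num

/-- A linear element fixing a hyperplane is the identity or the transposition on it. -/
theorem Pre.lin_hyper {h : G} (hh : h ∈ D.linC) (hfix : ∀ v : V6, v 0 = v 1 → D.sg h v = v) :
    (∀ v, D.sg h v = v) ∨ ∀ v, D.sg h v = stdA false (swap 0 1) 1 v := by
  set x := D.sg h (Pi.single 0 1) with hx
  have hdec : ∀ v : V6, D.sg h v = (v + (v 0 + v 1) • (Pi.single 0 1 : V6)) + (v 0 + v 1) • x := by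
    intro v
    have e : v = (v + (v 0 + v 1) • (Pi.single 0 1 : V6)) + (v 0 + v 1) • Pi.single 0 1 := by
      rw [add_assoc, v6_add_self, add_zero]
    conv_lhs => rw [e]
    rw [D.sg_add hh.1, hh.2, hfix _ (by
      have h3 : ∀ a b : R4, a + (a + b) * 1 = b := by decide +kernel
      simp only [Pi.add_apply, Pi.smul_apply, smul_eq_mul, Pi.single_eq_same,
        Pi.single_eq_of_ne (show (1 : Fin 6) ≠ 0 by decide), mul_zero, add_zero]
      exact h3 _ _), ← hx]
  have hq : ∀ v, hermForm 6 R4 2 (D.sg h v) (D.sg h v) = 0 ↔ hermForm 6 R4 2 v v = 0 := D.sg_sing hh.1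
  have hform : ∀ v : V6, hermForm 6 R4 2 v v =
      v 0 ^ 3 + v 1 ^ 3 + v 2 ^ 3 + v 3 ^ 3 + v 4 ^ 3 + v 5 ^ 3 := fun v => by
    simp only [hermForm, Fin.sum_univ_six]; ring
  have hupd : ∀ (y : V6) (j : Fin 6) (l : R4), hermForm 6 R4 2 (y + Pi.single j l) (y + Pi.single j l) =
      hermForm 6 R4 2 y y + y j ^ 3 + (y j + l) ^ 3 := by
    intro y j l
    have hf : ∀ w : V6, hermForm 6 R4 2 w w = ∑ i, w i ^ 3 := fun w =>
      Finset.sum_congr rfl fun i _ => by ring
    rw [hf, hf, ← Finset.add_sum_erase _ _ (Finset.mem_univ j), ← Finset.add_sum_erase _ _ (Finset.mem_univ j),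
      Finset.sum_congr rfl (show ∀ i ∈ Finset.univ.erase j, ((y + Pi.single j l : V6) i) ^ 3 = y i ^ 3 from fun i hi => by
        simp [(Finset.mem_erase.1 hi).1]), Pi.add_apply, Pi.single_eq_same]
    have h7 : ∀ a b c : R4, a + b = c + b + c + a := by decide +kernel
    exact h7 _ _ _
  have h100 : hermForm 6 R4 2 (Pi.single 0 1 : V6) (Pi.single 0 1) = 1 := by
    rw [hform]; simp
  have htail : ∀ j : Fin 6, j ≠ 0 → j ≠ 1 → x j = 0 := by
    intro j hj0 hj1
    have h4 : ∀ s xj : R4, (∀ l : R4, l ≠ 0 → (s + xj ^ 3 + (xj + l) ^ 3 = 0)) → ¬ s = 0 → xj = 0 := by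
      decide +kernel
    refine h4 (hermForm 6 R4 2 x x) (x j) (fun l hl => ?_) fun e => one_ne_zero (h100.symm.trans ((hq _).1 e))
    have hv0 : hermForm 6 R4 2 ((Pi.single 0 1 : V6) + Pi.single j l) (Pi.single 0 1 + Pi.single j l) = 0 := by
      have h5 : ∀ l : R4, l ≠ 0 → (1 : R4) + 0 ^ 3 + (0 + l) ^ 3 = 0 := by decide +kernel
      rw [hupd, h100, Pi.single_eq_of_ne hj0]
      exact h5 l hl
    have h6 := (hq _).2 hv0
    rw [D.sg_add hh.1, ← hx, hfix (Pi.single j l) (by simp [hj0.symm, hj1.symm]), hupd] at h6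
    exact h6
  have h01 : (x 0 = 1 ∧ x 1 = 0) ∨ (x 0 = 0 ∧ x 1 = 1) := by
    have h8 : ∀ a b : R4, ¬ (a ^ 3 + b ^ 3 = 0) → ¬ ((a + 1) ^ 3 + (b + 1) ^ 3 = 0) →
        (a = 1 ∧ b = 0) ∨ (a = 0 ∧ b = 1) := by decide +kernel
    refine h8 _ _ (fun e => ?_) fun e => ?_
    · have := (hq (Pi.single 0 1)).1 (by
        rw [← hx, hform]; simp only [htail 2 (by decide) (by decide), htail 3 (by decide) (by decide),
          htail 4 (by decide) (by decide), htail 5 (by decide) (by decide)]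
        simpa using e)
      rw [hform] at this
      simp at this
    · have := (hq (Pi.single 1 1)).1 (by
        have e2 : (Pi.single 1 1 : V6) = Pi.single 0 1 + (Pi.single 0 1 + Pi.single 1 1) := by
          rw [← add_assoc, v6_add_self, zero_add]
        rw [e2, D.sg_add hh.1, ← hx, hfix (Pi.single 0 1 + Pi.single 1 1) (by simp), hform]
        simp [Pi.single_apply, htail 2 (by decide) (by decide), htail 3 (by decide) (by decide),
          htail 4 (by decide) (by decide), htail 5 (by decide) (by decide), e])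
      rw [hform] at this
      simp at this
  rcases h01 with ⟨h0, h1⟩ | ⟨h0, h1⟩
  · left
    intro v
    have : x = Pi.single 0 1 := funext fun j => by fin_cases j <;> simp [h0, h1, htail, Pi.single_apply]
    rw [hdec, this, add_assoc, v6_add_self, add_zero]
  · right
    intro v
    have : x = Pi.single 1 1 := funext fun j => by fin_cases j <;> simp [h0, h1, htail, Pi.single_apply]
    rw [hdec, this]
    have h9 : ∀ a b : R4, a + (a + b) = b ∧ b + (a + b) = a := by decide +kernel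
    funext j
    fin_cases j <;> simp [stdA, tau_apply, swap_apply_def, Pi.single_apply, h9]

end Cfsg.Lib.FischerLarge
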