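import Cfsg.Agent.Lib.FischerLarge.Centralizer.Far
import Cfsg.Agent.Lib.FischerLarge.Centralizer.Invol
import Cfsg.Agent.Lib.Extra.LargeFour

/-!
# Without a quotient of order two the linear elements lie in the unitary part
-/

set_option autoImplicit false
set_option maxRecDepth 20000

namespace Cfsg.Lib.FischerLarge

open Cfsg Cfsg.Lib.SUSixU43 Cfsg.Lib.Extra Equiv MulAction

universe u

attribute [local irreducible] KM T6 N6 C6 phi pnt

/-- The hyperplane fixed by the transposition. -/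
def hyp6 : Set V6 := {v | v 0 = v 1}

theorem card_hyp6 : hyp6.ncard = 1024 := by
  rw [← Nat.card_coe_set_eq]
  let e : ↥hyp6 ≃ (Fin 5 → R4) :=
    { toFun := fun v i => (v : V6) i.succ
      invFun := fun w => ⟨Fin.cons (w 0) w, by
        show (Fin.cons (w 0) w : V6) 0 = (Fin.cons (w 0) w : V6) (Fin.succ 0)
        rw [Fin.cons_zero, Fin.cons_succ]⟩
      left_inv := fun v => Subtype.ext (funext fun i => by
        refine Fin.cases ?_ (fun j => ?_) i
        · show (v : V6) (Fin.succ 0) = _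
          exact v.2.symm
        · show (v : V6) j.succ = _
          rfl)
      right_inv := fun w => funext fun i => by simp }
  rw [Nat.card_congr e]
  rw [Nat.card_fun, Nat.card_fin, Nat.card_eq_fintype_card, card_r4]
  norm_num

theorem vec_five : vec 5 = Pi.single 0 1 + Pi.single 1 1 := by
  have h : ∀ i : Fin 6, el (vdig 5 i) = (Pi.single 0 1 + Pi.single 1 1 : V6) i := by decide +kernel
  exact funext h

theorem five_orbA : ∀ c < 3, (orbA c).has 5 = true := by decide +kernel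

/-- The scalar multiples of the base of the small orbit lie in it. -/
theorem scal_orbA {c : ℕ} (hc : c < 3) {l : R4} (hl : l ≠ 0) : l • vec 5 ∈ (orbA c).set := by
  have h5 := (has_iff (orbA_dist hc) (show 5 < 4096 by norm_num)).1 (five_orbA c hc)
  have hi := (orbFacts hc).invA Zc (Zc_mem c)
  have h3 : ∀ a : R4, a ≠ 0 → a = 1 ∨ a = om ∨ a = om * om := by simp only [om]; decide +kernel
  rcases h3 l hl with rfl | rfl | rfl
  · rwa [one_smul]
  · rw [← Zc_smul]; exact hi _ h5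
  · rw [mul_smul, ← Zc_smul, ← Zc_smul]; exact hi _ (hi _ h5)

theorem odd_pow_commute {H : Type*} [Group H] {f r z : H} (hz : z ≠ 1) (hz2 : z * z = 1) (hfz : Commute f z)
    (hf5 : f ^ 5 = 1) (h : f * r * f⁻¹ = r ∨ f * r * f⁻¹ = z * r) : Commute f r := by
  rcases h with h | h
  · exact mul_inv_eq_iff_eq_mul.1 h
  exfalso
  have h2 : ∀ k : ℕ, f ^ k * r * (f ^ k)⁻¹ = z ^ k * r := by
    intro k
    induction k with
    | zero => simp
    | succ k ih =>
      calc f ^ (k + 1) * r * (f ^ (k + 1))⁻¹ = f * (f ^ k * r * (f ^ k)⁻¹) * f⁻¹ := by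
            rw [pow_succ']; group
        _ = f * z ^ k * f⁻¹ * (f * r * f⁻¹) := by rw [ih]; group
        _ = z ^ (k + 1) * r := by rw [(hfz.pow_right k).eq, mul_inv_cancel_right, h, ← mul_assoc, ← pow_succ]
  have := h2 5
  rw [hf5, one_mul, inv_one, mul_one, show z ^ 5 = (z * z) * (z * z) * z by simp [pow_succ, mul_assoc], hz2,
    one_mul, one_mul] at this
  exact hz (mul_eq_right.1 this.symm)

theorem coe_pow_one (S : Subgroup G6) (t : ↥S) (k : ℕ) (h : t ^ k = 1) : (t : G6) ^ k = 1 := by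
  rw [← SubgroupClass.coe_pow, h, Subgroup.coe_one]

theorem conj_inv_pow5 {H : Type*} [Group H] (a f : H) : (a⁻¹ * f * a) ^ 5 = a⁻¹ * f ^ 5 * a := by
  simp only [pow_succ, pow_zero, one_mul]; group

variable {G : Type u} [Group G] [Finite G] {z : G} {Q : Subgroup G} (D : Pre z Q)

/-- Commutators in the centralizer lie in the unitary part. -/
theorem Pre.comm_mem {x y : G} (hx : Commute x z) (hy : Commute y z) : x * y * x⁻¹ * y⁻¹ ∈ D.M := by
  have e : x * y * x⁻¹ * y⁻¹ = (x * y) * (x * y) * (y⁻¹ * (x⁻¹ * x⁻¹) * y) * (y⁻¹ * y⁻¹) := by group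
  rw [e]
  refine D.M.mul_mem (D.M.mul_mem (D.sq_mem (hx.mul_left hy)) ?_) (D.sq_mem hy.inv_left)
  have := D.M_normal y⁻¹ (mem_cent_of_commute hy.inv_left) _ (D.sq_mem hx.inv_left)
  rwa [inv_inv] at this

include D in
theorem Pre.herm_of_commute {a b : G} (ha : a ∈ Q) (hb : b ∈ Q) (h : Commute a b) :
    hermForm 6 R4 2 (D.cl a) (D.cl b) + hermForm 6 R4 2 (D.cl b) (D.cl a) = 0 := by
  have h01 : ∀ t : R4, t ^ 2 = t → t ≠ 0 → t = 1 := by decide +kernel
  have hsqv : ∀ x ∈ Q, (x * x = 1 ∧ hermForm 6 R4 2 (D.cl x) (D.cl x) = 0) ∨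
      (x * x = z ∧ hermForm 6 R4 2 (D.cl x) (D.cl x) = 1) := by
    intro x hx
    by_cases h0 : hermForm 6 R4 2 (D.cl x) (D.cl x) = 0
    · exact Or.inl ⟨(D.cl_sq x hx).2 h0, h0⟩
    · exact Or.inr ⟨(D.ctx.sq x hx).resolve_left fun e => h0 ((D.cl_sq x hx).1 e),
        h01 _ (herm_conj_unip _ _).symm h0⟩
  have hval : hermForm 6 R4 2 (D.cl (a * b)) (D.cl (a * b)) = hermForm 6 R4 2 (D.cl a) (D.cl a) +
      (hermForm 6 R4 2 (D.cl a) (D.cl b) + hermForm 6 R4 2 (D.cl b) (D.cl a)) +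
      hermForm 6 R4 2 (D.cl b) (D.cl b) := by
    rw [D.cl_mul a ha b hb, herm_add_left_unip, herm_add_right_unip, herm_add_right_unip]
    ring
  obtain ⟨t, ht⟩ : ∃ t, t = hermForm 6 R4 2 (D.cl a) (D.cl b) + hermForm 6 R4 2 (D.cl b) (D.cl a) := ⟨_, rfl⟩
  rw [← ht] at hval ⊢
  have hsq : a * b * (a * b) = a * a * (b * b) := by
    calc a * b * (a * b) = a * (b * a) * b := by group
      _ = a * (a * b) * b := by rw [h.eq]
      _ = _ := by group
  have h0 : ∀ t : R4, ((0 : R4) + t + 0 = 0 → t = 0) ∧ ((1 : R4) + t + 1 = 0 → t = 0) ∧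
      ((0 : R4) + t + 1 = 1 → t = 0) ∧ ((1 : R4) + t + 0 = 1 → t = 0) := by decide +kernel
  have hz1 := D.ctx.ne_one
  rcases hsqv a ha with ⟨e1, q1⟩ | ⟨e1, q1⟩ <;> rcases hsqv b hb with ⟨e2, q2⟩ | ⟨e2, q2⟩ <;>
    rcases hsqv _ (mul_mem ha hb) with ⟨e3, q3⟩ | ⟨e3, q3⟩ <;> rw [hval, q1, q2] at q3 <;>
    rw [hsq, e1, e2] at e3 <;> simp only [one_mul, mul_one, D.ctx.sq_z] at e3 <;>
    first
      | exact absurd e3 hz1
      | exact absurd e3.symm hz1
      | exact (h0 _).1 q3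
      | exact (h0 _).2.1 q3
      | exact (h0 _).2.2.1 q3
      | exact (h0 _).2.2.2 q3

/-- An element of the extraspecial subgroup fixed by the element of order three is central. -/
theorem Pre.fixed_three {a : G} (ha : a ∈ Q) (h : Commute (D.three : G) a) : a = 1 ∨ a = z := by
  have h1 := D.cl_three ha
  rw [h.eq, mul_inv_cancel_right] at h1
  have h0 : D.cl a = 0 := by
    have h2 : (om + 1) • D.cl a = 0 := by rw [add_smul, one_smul, ← h1, v6_add_self]
    exact (smul_eq_zero.1 h2).resolve_left tau_om.2.2.1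
  rw [← D.cl_one] at h0
  rcases (D.cl_eq 1 (one_mem _) a ha).1 h0.symm with e | e
  · exact Or.inl e
  · exact Or.inr (e.trans (mul_one z))

/-- A linear element is moved by the extraspecial subgroup to commute with the element of order three. -/
theorem Pre.exists_comm_three {h : G} (hh : h ∈ D.linC) : ∃ q ∈ Q, Commute (q * h) (D.three : G) := by
  set n := (D.three : G) with hn
  have hnz : Commute n z := D.m_comm D.three
  set q₀ := h * n * h⁻¹ * n⁻¹ with hq₀
  have hq₀Q : q₀ ∈ Q := by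
    refine D.mem_of_sg (((hh.1.mul_left hnz).mul_left hh.1.inv_left).mul_left hnz.inv_left) fun v => ?_
    have hn1 : ∀ v, D.sg n v = om • v := fun v => by rw [hn, D.sg_M, D.three_spec.1, Zc_smul]
    rw [hq₀, D.sg_mul ((hh.1.mul_left hnz).mul_left hh.1.inv_left) hnz.inv_left,
      D.sg_mul (hh.1.mul_left hnz) hh.1.inv_left, D.sg_mul hh.1 hnz, hn1, hh.2, D.sg_inv hh.1, ← hn1,
      D.sg_inv hnz]
  obtain ⟨q, hq, hqc⟩ := D.cl_surj (om • D.cl q₀)
  refine ⟨q, hq, mul_inv_eq_iff_eq_mul.1 ?_⟩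
  have hni : n * q⁻¹ * n⁻¹ ∈ Q := conj_mem D.ctx hnz (inv_mem hq)
  have hclinv : D.cl q⁻¹ = D.cl q := by
    have h1 := D.cl_mul q hq _ (inv_mem hq)
    rw [mul_inv_cancel, D.cl_one] at h1
    calc D.cl q⁻¹ = D.cl q⁻¹ + (D.cl q + D.cl q⁻¹) := by rw [← h1, add_zero]
      _ = _ := by rw [add_comm (D.cl q), ← add_assoc, v6_add_self, zero_add]
  have hu : q * q₀ * (n * q⁻¹ * n⁻¹) ∈ Q := mul_mem (mul_mem hq hq₀Q) hni
  have h0 : D.cl (q * q₀ * (n * q⁻¹ * n⁻¹)) = 0 := by
    rw [D.cl_mul _ (mul_mem hq hq₀Q) _ hni, D.cl_mul q hq q₀ hq₀Q, hn, D.cl_three (inv_mem hq), hclinv, hqc,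
      smul_smul]
    have h3 : ∀ x : R4, om * x + x + om * om * x = 0 := by simp only [om]; decide +kernel
    funext i
    exact h3 _
  have e : q * h * n * (q * h)⁻¹ = (q * q₀ * (n * q⁻¹ * n⁻¹)) * n := by rw [hq₀]; group
  rw [← D.cl_one] at h0
  rcases (D.cl_eq 1 (one_mem _) _ hu).1 h0.symm with e1 | e1
  · rw [e, e1, one_mul]
  · exfalso
    rw [e1, mul_one] at e
    have h3 : q * h * n * (q * h)⁻¹ * (q * h * n * (q * h)⁻¹) * (q * h * n * (q * h)⁻¹) = 1 := by
      calc _ = q * h * (n * n * n) * (q * h)⁻¹ := by group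
        _ = 1 := by rw [D.three_spec.2]; group
    rw [e, show z * n * (z * n) * (z * n) = z * (n * z) * (n * z) * n by group, hnz.eq,
      show z * (z * n) * (z * n) * n = (z * z) * (n * z) * (n * n) by group, hnz.eq, D.ctx.sq_z, one_mul,
      mul_assoc z n, ← mul_assoc n n, D.three_spec.2, mul_one] at h3
    exact D.ctx.ne_one h3

/-- The preimage of the hyperplane. -/
noncomputable def Pre.hypP : Subgroup G where
  carrier := {a | a ∈ Q ∧ D.cl a ∈ hyp6}
  one_mem' := ⟨one_mem _, by rw [D.cl_one]; exact rfl⟩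
  mul_mem' := fun {a b} ha hb => ⟨mul_mem ha.1 hb.1, by
    show D.cl (a * b) 0 = D.cl (a * b) 1
    rw [D.cl_mul a ha.1 b hb.1, Pi.add_apply, Pi.add_apply, show D.cl a 0 = D.cl a 1 from ha.2,
      show D.cl b 0 = D.cl b 1 from hb.2]⟩
  inv_mem' := fun {a} ha => ⟨inv_mem ha.1, by
    have h := D.cl_mul a ha.1 _ (inv_mem ha.1)
    rw [mul_inv_cancel, D.cl_one] at h
    have h0 : D.cl a 0 + D.cl a⁻¹ 0 = D.cl a 1 + D.cl a⁻¹ 1 := by
      rw [← Pi.add_apply, ← Pi.add_apply, ← h]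
      rfl
    rw [show D.cl a 0 = D.cl a 1 from ha.2] at h0
    exact add_left_cancel h0⟩

theorem Pre.card_hypP : Nat.card ↥D.hypP = 2 ^ 11 := by
  have hz : z ∈ D.hypP := ⟨D.ctx.mem, by
    have := D.cl_z_mul (one_mem Q)
    rw [mul_one, D.cl_one] at this
    rw [this]
    exact rfl⟩
  rw [(D.card_le_image (A := D.hypP) fun a ha => ha.1).2 hz]
  have e : D.cl '' (D.hypP : Set G) = hyp6 := by
    refine Set.Subset.antisymm (fun x ⟨a, ha, e⟩ => e ▸ ha.2) fun x hx => ?_
    obtain ⟨a, ha, rfl⟩ := D.cl_surj x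
    exact ⟨a, ⟨ha, hx⟩, rfl⟩
  rw [e, card_hyp6]
  norm_num

/-- A transposition commuting with the element of order three centralizes the hyperplane. -/
theorem Pre.hypP_comm {d : G} (hdz : Commute d z) (hd : ∀ v, D.sg d v = stdA false (swap 0 1) 1 v)
    (hdn : Commute d (D.three : G)) {a : G} (ha : a ∈ D.hypP) : Commute d a := by
  set n := (D.three : G) with hn
  have hnz : Commute n z := D.m_comm D.three
  have hdfix : D.sg d (D.cl a) = D.cl a := by
    rw [hd]
    have h01 : D.cl a 0 = D.cl a 1 := ha.2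
    funext i
    rcases eq_or_ne i 0 with rfl | h0
    · simp [stdA, tau_apply, h01]
    rcases eq_or_ne i 1 with rfl | h1
    · simp [stdA, tau_apply, h01]
    · simp [stdA, tau_apply, swap_apply_of_ne_of_ne h0 h1]
  have hzc : ∀ k, Commute k z → k * z * k⁻¹ = z := fun k hk => by rw [hk.eq, mul_inv_cancel_right]
  rcases (D.cl_eq a ha.1 _ (conj_mem D.ctx hdz ha.1)).1 ((D.cl_conj hdz ha.1).trans hdfix).symm with h | h
  · exact mul_inv_eq_iff_eq_mul.1 h
  exfalso
  have hb : n * a * n⁻¹ ∈ Q := conj_mem D.ctx hnz ha.1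
  have hc : n * (n * a * n⁻¹) * n⁻¹ ∈ Q := conj_mem D.ctx hnz hb
  have hdn' : ∀ x, d * (n * x * n⁻¹) * d⁻¹ = n * (d * x * d⁻¹) * n⁻¹ := fun x => by
    calc d * (n * x * n⁻¹) * d⁻¹ = (d * n) * x * (d * n)⁻¹ := by group
      _ = (n * d) * x * (n * d)⁻¹ := by rw [hdn.eq]
      _ = _ := by group
  set b := n * a * n⁻¹ with hbdef
  set c := n * b * n⁻¹ with hcdef
  have hdb : d * b * d⁻¹ = z * b := by
    rw [hbdef, hdn', h, show n * (z * a) * n⁻¹ = (n * z * n⁻¹) * (n * a * n⁻¹) by group, hzc n hnz]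
  have hdc : d * c * d⁻¹ = z * c := by
    rw [hcdef, hdn', hdb, show n * (z * b) * n⁻¹ = (n * z * n⁻¹) * (n * b * n⁻¹) by group, hzc n hnz]
  have habc : a * b * c = 1 ∨ a * b * c = z := by
    have h0 : D.cl (a * b * c) = D.cl 1 := by
      rw [D.cl_mul _ (mul_mem ha.1 hb) c hc, D.cl_mul a ha.1 b hb, hcdef, hn, D.cl_three hb, hbdef, hn,
        D.cl_three ha.1, D.cl_one, smul_smul]
      have h3 : ∀ x : R4, x + om * x + om * om * x = 0 := by simp only [om]; decide +kernel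
      funext i
      exact h3 _
    rcases (D.cl_eq 1 (one_mem _) _ (mul_mem (mul_mem ha.1 hb) hc)).1 h0.symm with e | e
    · exact Or.inl e
    · exact Or.inr (e.trans (mul_one z))
  have hfix : d * (a * b * c) * d⁻¹ = a * b * c := by
    rcases habc with e | e <;> rw [e]
    · group
    · exact hzc d hdz
  rw [show d * (a * b * c) * d⁻¹ = (d * a * d⁻¹) * (d * b * d⁻¹) * (d * c * d⁻¹) by group, h, hdb, hdc] at hfix
  refine D.ctx.ne_one ?_
  have e : z * a * (z * b) * (z * c) = z * (a * b * c) := by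
    calc z * a * (z * b) * (z * c) = z * (a * z) * (b * z) * c := by group
      _ = z * (z * a) * (z * b) * c := by rw [(D.ctx.central a ha.1).eq, (D.ctx.central b hb).eq]
      _ = (z * z) * (a * z) * b * c := by group
      _ = z * (a * b * c) := by rw [D.ctx.sq_z, one_mul, ← (D.ctx.central a ha.1).eq]; group
  rw [e] at hfix
  exact mul_eq_right.1 hfix

/-- What commutes with the hyperplane inside the extraspecial subgroup lies on its line. -/
theorem Pre.cl_of_hyp_comm {x : G} (hx : x ∈ Q) (hc : ∀ a ∈ D.hypP, Commute x a) :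
    ∃ l : R4, D.cl x = l • vec 5 := by
  have key : ∀ y ∈ hyp6, hermForm 6 R4 2 (D.cl x) y = 0 := by
    intro y hy
    have htr : ∀ l : R4, hermForm 6 R4 2 (D.cl x) (l • y) + hermForm 6 R4 2 (D.cl x) (l • y) ^ 2 = 0 := by
      intro l
      obtain ⟨a, ha, hay⟩ := D.cl_surj (l • y)
      have haP : a ∈ D.hypP := ⟨ha, by
        show D.cl a 0 = D.cl a 1
        rw [hay, Pi.smul_apply, Pi.smul_apply, show y 0 = y 1 from hy]⟩
      have := D.herm_of_commute hx ha (hc a haP)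
      rwa [hay, herm_conj_unip (D.cl x) (l • y)] at this
    have h2 : ∀ t : R4, t + t ^ 2 = 0 → om ^ 2 * t + (om ^ 2 * t) ^ 2 = 0 → t = 0 := by
      simp only [om]; decide +kernel
    refine h2 _ (by have := htr 1; rwa [one_smul] at this) ?_
    have := htr om
    rwa [herm_smul_right] at this
  have hj : ∀ j : Fin 6, j ≠ 0 → j ≠ 1 → D.cl x j = 0 := fun j h0 h1 => by
    have := key (Pi.single j 1) (by show (Pi.single j 1 : V6) 0 = _; simp [h0.symm, h1.symm])
    simpa [hermForm, Pi.single_apply] using this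
  have h01 : D.cl x 1 = D.cl x 0 := by
    have := key (vec 5) (by show vec 5 0 = vec 5 1; rw [vec_five]; simp)
    rw [vec_five] at this
    have h3 : ∀ a b : R4, a + b = 0 → b = a := by decide +kernel
    refine h3 _ _ ?_
    simpa [hermForm, Pi.single_apply, Fin.sum_univ_six] using this
  refine ⟨D.cl x 0, funext fun i => ?_⟩
  rw [vec_five]
  rcases eq_or_ne i 0 with rfl | h0
  · simp
  rcases eq_or_ne i 1 with rfl | h1
  · simp [h01]
  · simp [h0, h1, hj i h0 h1]

/-- An element of order five fixing the base of the small orbit, commuting with the element of order three. -/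
theorem Pre.exists_five : ∃ f : ↥D.M, (f : G) ^ 5 = 1 ∧ D.π f ≠ 1 ∧ D.π f • vec 5 = vec 5 ∧
    Commute (f : G) (D.three : G) := by
  haveI := finite_G6
  haveI : Fact (Nat.Prime 5) := ⟨by norm_num⟩
  have O := orbFacts D.c_lt
  have h5 := (has_iff (orbA_dist D.c_lt) (show 5 < 4096 by norm_num)).1 (five_orbA D.c D.c_lt)
  have hS : Nat.card ↥(Sb D.c (vec 5)) * (orbA D.c).set.ncard = Nat.card ↥(KM D.c) :=
    card_inf_stab (KM D.c) h5 O.invA fun y hy => O.transA _ h5 y hy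
  rw [O.cardA, card_KM D.c_lt] at hS
  obtain ⟨t, ht⟩ := exists_prime_orderOf_dvd_card' (G := ↥(Sb D.c (vec 5))) 5
    ⟨5184, by omega⟩
  obtain ⟨m, hm⟩ := D.exists_pre t.2.1
  have hml : (m : G) ∈ D.linC := D.M_le_lin m.2
  obtain ⟨q, hq, hqn⟩ := D.exists_comm_three hml
  set f0 : ↥D.M := ⟨q, D.Q_le hq⟩ * m with hf0
  have hπ : D.π f0 = (t : G6) := by rw [hf0, map_mul, (D.π_ker ⟨q, D.Q_le hq⟩).2 hq, one_mul, hm]
  have hfn : Commute (f0 : G) (D.three : G) := hqn
  have ht5 : (t : G6) ^ 5 = 1 := by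
    have h : t ^ orderOf t = 1 := pow_orderOf_eq_one t
    rw [ht] at h
    exact coe_pow_one _ t 5 h
  have ht1 : (t : G6) ≠ 1 := fun e => by
    have h1 : t = 1 := Subtype.ext e
    rw [h1, orderOf_one] at ht
    norm_num at ht
  have h5Q : (f0 : G) ^ 5 ∈ Q := by
    rw [← SubgroupClass.coe_pow]
    exact (D.π_ker _).1 (by rw [map_pow, hπ, ht5])
  have hstab : (t : G6) • vec 5 = vec 5 := MulAction.mem_stabilizer_iff.1 t.2.2
  rcases D.fixed_three h5Q (hfn.symm.pow_right 5) with e | e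
  · exact ⟨f0, e, by rw [hπ]; exact ht1, by rw [hπ]; exact hstab, hfn⟩
  · refine ⟨⟨z, D.Q_le D.ctx.mem⟩ * f0, ?_, ?_, ?_, ?_⟩
    · show (z * (f0 : G)) ^ 5 = 1
      rw [(D.m_comm f0).symm.mul_pow, e, show z ^ 5 = (z * z) * (z * z) * z by simp [pow_succ, mul_assoc],
        D.ctx.sq_z, one_mul, one_mul, D.ctx.sq_z]
    · rw [map_mul, (D.π_ker ⟨z, _⟩).2 D.ctx.mem, one_mul, hπ]; exact ht1
    · rw [map_mul, (D.π_ker ⟨z, _⟩).2 D.ctx.mem, one_mul, hπ]; exact hstab
    · exact (D.m_comm D.three).symm.mul_left hfn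

/-- A centralizing involution conjugate to the centre is no transposition. -/
theorem Pre.fixed_coset {d : G} (hdz : Commute d z) (hd : ∀ v, D.sg d v = stdA false (swap 0 1) 1 v)
    (hdn : Commute d (D.three : G)) {a : G}
    (hwd : Commute (a * z * a⁻¹) d) (hwP : ∀ p ∈ D.hypP, Commute (a * z * a⁻¹) p) : a * z * a⁻¹ = z := by
  classical
  by_contra hne
  set w := a * z * a⁻¹ with hw
  have hw1 : w ≠ 1 := fun e => D.ctx.ne_one (conj_eq_one_iff.1 e)
  have hw2 : w * w = 1 := by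
    rw [hw, show a * z * a⁻¹ * (a * z * a⁻¹) = a * (z * z) * a⁻¹ by group, D.ctx.sq_z]; group
  have hzP : z ∈ D.hypP := ⟨D.ctx.mem, by
    have := D.cl_z_mul (one_mem Q)
    rw [mul_one, D.cl_one] at this
    rw [this]
    exact rfl⟩
  have hwz : Commute w z := hwP z hzP
  have hfix : ∀ v ∈ hyp6, D.sg w v = v := fun v hv => by
    obtain ⟨p, hp, rfl⟩ := D.cl_surj v
    rw [← D.cl_conj hwz hp, (hwP p ⟨hp, hv⟩).eq, mul_inv_cancel_right]
  have hwlin : w ∈ D.linC := by
    by_contra h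
    have := D.semi_fixed hwz h hyp6 hfix
    rw [card_hyp6] at this
    omega
  have hdP : ∀ p ∈ D.hypP, Commute d p := fun p hp => D.hypP_comm hdz hd hdn hp
  have hinA : ∀ l : R4, ∀ x ∈ Q, x * x = 1 → D.cl x = l • vec 5 → w = x → False := by
    intro l x hx _ he hwx
    subst hwx
    refine D.not_in_A hw.symm hx hne ?_
    rw [he]
    refine scal_orbA D.c_lt fun h0 => ?_
    rw [h0, zero_smul, ← D.cl_one] at he
    rcases (D.cl_eq 1 (one_mem _) _ hx).1 he.symm with e | e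
    · exact hw1 e
    · exact hne (e.trans (mul_one z))
  have hwQ : w ∉ Q := fun hx => by
    obtain ⟨l, hl⟩ := D.cl_of_hyp_comm hx hwP
    exact hinA l w hx hw2 hl rfl
  rcases D.lin_hyper hwlin hfix with h | h
  · exact hwQ (D.mem_of_sg hwz h)
  set r := d⁻¹ * w with hr
  have hrQ : r ∈ Q := by
    refine D.mem_of_sg (hdz.inv_left.mul_left hwz) fun v => D.sg_injective hdz ?_
    rw [← D.sg_mul hdz (hdz.inv_left.mul_left hwz), mul_inv_cancel_left, h, hd]
  obtain ⟨l, hl⟩ := D.cl_of_hyp_comm hrQ fun p hp => (hdP p hp).inv_left.mul_left (hwP p hp)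
  have hrP : r ∈ D.hypP := ⟨hrQ, by
    show D.cl r 0 = D.cl r 1
    rw [hl, vec_five]; simp⟩
  have hwr : w = d * r := by rw [hr, mul_inv_cancel_left]
  have hr2 : r * r = 1 := by
    refine (D.cl_sq r hrQ).2 ?_
    rw [hl, herm_smul_left, show hermForm 6 R4 2 (vec 5) (l • vec 5) = l ^ 2 * hermForm 6 R4 2 (vec 5) (vec 5)
      from herm_smul_right _ _ _]
    have h55 : hermForm 6 R4 2 (vec 5) (vec 5) = 0 :=
      ((orbFacts D.c_lt).sing _ (Or.inl ((has_iff (orbA_dist D.c_lt) (show 5 < 4096 by norm_num)).1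
        (five_orbA D.c D.c_lt)))).2
    rw [h55, mul_zero, mul_zero]
  have hd2 : d * d = 1 := by
    calc d * d = d * d * (r * r) := by rw [hr2, mul_one]
      _ = d * (d * r) * r := by group
      _ = d * (r * d) * r := by rw [(hdP r hrP).eq]
      _ = d * r * (d * r) := by group
      _ = 1 := by rw [← hwr, hw2]
  obtain ⟨f, hf5, hfne, hffix, hfn⟩ := D.exists_five
  have hfz : Commute (f : G) z := D.m_comm f
  have hfd : Commute (f : G) d := by
    refine odd_pow_commute D.ctx.ne_one D.ctx.sq_z hfz hf5 ?_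
    have hq : (f : G) * d * (f : G)⁻¹ * d⁻¹ ∈ Q := by
      refine D.mem_of_sg (((hfz.mul_left hdz).mul_left hfz.inv_left).mul_left hdz.inv_left) fun v => ?_
      rw [D.sg_mul ((hfz.mul_left hdz).mul_left hfz.inv_left) hdz.inv_left,
        D.sg_mul (hfz.mul_left hdz) hfz.inv_left, D.sg_mul hfz hdz]
      set x := D.sg (f : G)⁻¹ (D.sg d⁻¹ v) with hx
      have hswap : ∀ y : V6, stdA false (swap 0 1) 1 y = y + (hermForm 6 R4 2 y (vec 5)) • vec 5 := by
        intro y
        have e : hermForm 6 R4 2 y (vec 5) = y 0 + y 1 := by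
          rw [vec_five]
          simp [hermForm, Pi.single_apply, Fin.sum_univ_six]
        rw [e, vec_five]
        funext i
        have h4 : ∀ a b : R4, a + (a + b) = b ∧ b + (a + b) = a := by decide +kernel
        rcases eq_or_ne i 0 with rfl | h0
        · simp [stdA, tau_apply, h4]
        rcases eq_or_ne i 1 with rfl | h1
        · simp [stdA, tau_apply, h4]
        · simp [stdA, tau_apply, swap_apply_of_ne_of_ne h0 h1, h0, h1]
      have hcomm : D.sg (f : G) (D.sg d x) = D.sg d (D.sg (f : G) x) := by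
        rw [hd, hd, D.sg_M, D.sg_M, hswap, hswap, g6_add, g6_scalar, hffix]
        congr 2
        conv_rhs => rw [← hffix]
        rw [herm_smul]
      rw [hcomm, hx, D.sg_inv hfz, D.sg_inv hdz]
    have hqn : Commute (D.three : G) ((f : G) * d * (f : G)⁻¹ * d⁻¹) :=
      ((hfn.symm.mul_right hdn.symm).mul_right hfn.symm.inv_right).mul_right hdn.symm.inv_right
    rcases D.fixed_three hq hqn with e | e
    · exact Or.inl (mul_inv_eq_one.1 e)
    · exact Or.inr (mul_inv_eq_iff_eq_mul.1 e)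
  have hfr : Commute (f : G) r := by
    refine odd_pow_commute D.ctx.ne_one D.ctx.sq_z hfz hf5 ?_
    refine (D.cl_eq r hrQ _ (conj_mem D.ctx hfz hrQ)).1 ?_
    rw [D.π_cl f r hrQ, hl, g6_scalar, hffix]
  have hfw : Commute (f : G) w := hwr ▸ hfd.mul_right hfr
  have hH : ∀ {k : G}, Commute k w → Commute (a⁻¹ * k * a) z := fun {k} hk => by
    rw [← Commute.conj_iff a, show a * (a⁻¹ * k * a) * a⁻¹ = k by group]
    exact hk
  set z' := a⁻¹ * z * a with hz'
  set f' := a⁻¹ * (f : G) * a with hf'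
  have hf'5 : f' ^ 5 = 1 := by rw [hf', conj_inv_pow5 a (f : G), hf5]; group
  have hf'M : f' ∈ D.M := by
    have h6 := D.M.mul_mem (D.sq_mem ((hH hfw).pow_left 3)) (D.M.one_mem)
    rwa [mul_one, ← pow_add, show 3 + 3 = 5 + 1 by rfl, pow_succ, hf'5, one_mul] at h6
  have hnc : ∃ u ∈ D.hypP, ∃ v ∈ D.hypP, ¬ Commute u v := by
    by_contra hc
    push Not at hc
    have := card_abelian_le D.ctx D.cardQ (A := D.hypP) (fun x hx => hx.1) hc
    rw [D.card_hypP] at this
    omega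
  obtain ⟨u, hu, v, hv, huv⟩ := hnc
  have hz'M : z' ∈ D.M := by
    have e : z = u * v * u⁻¹ * v⁻¹ :=
      ((D.ctx.comm u hu.1 v hv.1).resolve_left fun e => huv (mul_inv_eq_iff_eq_mul.1 (mul_inv_eq_one.1 e))).symm
    rw [hz', show a⁻¹ * z * a = a⁻¹ * (u * v * u⁻¹ * v⁻¹) * a from congrArg (fun x => a⁻¹ * x * a) e,
      show a⁻¹ * (u * v * u⁻¹ * v⁻¹) * a =
      (a⁻¹ * u * a) * (a⁻¹ * v * a) * (a⁻¹ * u * a)⁻¹ * (a⁻¹ * v * a)⁻¹ by group]
    exact D.comm_mem (hH (hwP u hu).symm) (hH (hwP v hv).symm)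
  have hfz' : Commute f' z' := by
    have h1 := hfz.map (MulAut.conj a⁻¹).toMonoidHom
    simpa [hf', hz'] using h1
  have hz'1 : z' * z' = 1 := by
    rw [hz', show a⁻¹ * z * a * (a⁻¹ * z * a) = a⁻¹ * (z * z) * a by group, D.ctx.sq_z]; group
  have hz'Q : z' ∉ Q := fun h' => hwQ (by
    obtain ⟨b, hb, e⟩ := D.ctx.mem_symm (g := a⁻¹) (by rw [inv_inv]; exact h')
    have e' : a⁻¹ * b * a⁻¹⁻¹ = z := e
    have hbw : w = b := by rw [hw, ← e']; group
    exact hbw ▸ hb)
  have hπz : D.π ⟨z', hz'M⟩ ≠ 1 := fun e => hz'Q ((D.π_ker _).1 e)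
  have hf0 : D.π ⟨f', hf'M⟩ = 1 := by
    refine no_five D.c_lt (D.π_mem ⟨z', hz'M⟩) hπz ?_ (D.π_mem _) ?_ ?_
    · rw [← map_mul, show (⟨z', hz'M⟩ : ↥D.M) * ⟨z', hz'M⟩ = 1 from Subtype.ext hz'1, map_one]
    · rw [← map_pow, show (⟨f', hf'M⟩ : ↥D.M) ^ 5 = 1 from Subtype.ext hf'5, map_one]
    · rw [← map_mul, ← map_mul]
      exact congrArg D.π (Subtype.ext hfz'.eq)
  obtain ⟨k, hk⟩ := D.ctx.two ⟨f', (D.π_ker _).1 hf0⟩
  have hk' : f' ^ 2 ^ k = 1 := congrArg Subtype.val hk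
  have hf'1 : f' = 1 := by
    have := Nat.Coprime.pow_left k (show Nat.Coprime 2 5 by norm_num)
    have h1 := (pow_gcd_eq_one (a := f') (m := 2 ^ k) (n := 5)).2 ⟨hk', hf'5⟩
    rwa [this.gcd_eq_one, pow_one] at h1
  refine hfne ?_
  have hf1 : (f : G) = 1 := by
    calc (f : G) = a * f' * a⁻¹ := by rw [hf']; group
      _ = 1 := by rw [hf'1]; group
  rw [show f = 1 from Subtype.ext hf1, map_one]

end Cfsg.Lib.FischerLarge
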