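import Cfsg.Agent.Lib.FischerLarge.Centralizer.Linear
import Cfsg.Agent.Lib.Extra.LargeTransfer

/-!
# The transfer at a transposition
-/

set_option autoImplicit false
set_option maxRecDepth 20000

namespace Cfsg.Lib.FischerLarge

open Cfsg Cfsg.Lib.SUSixU43 Cfsg.Lib.Extra MulAction

universe u

attribute [local irreducible] KM T6 N6 C6 phi pnt

variable {G : Type u} [Group G] [Finite G] {z : G} {Q : Subgroup G} (D : Pre z Q)

/-- In a group without a quotient of order two the linear elements lie in the unitary part. -/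
theorem Pre.no_linear (hres : Cfsg.pResidual 2 G = ⊤) : ∀ h ∈ D.linC, h ∈ D.M := by
  classical
  by_contra hall
  push Not at hall
  obtain ⟨h, hh, hhM⟩ := hall
  obtain ⟨m, hm⟩ := D.exists_swap hh.1 hh.2 hhM
  have hlin : (m : G) * h ∈ D.linC := D.linC.mul_mem (D.M_le_lin m.2) hh
  obtain ⟨q, hq, hqn⟩ := D.exists_comm_three hlin
  set d := q * ((m : G) * h) with hd
  have hdz : Commute d z := ((D.ctx.central q hq).symm).mul_left hlin.1
  have hsg : ∀ v, D.sg d v = stdA false (Equiv.swap 0 1) 1 v := fun v => by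
    rw [hd, D.sg_mul (D.ctx.central q hq).symm hlin.1, D.sg_Q hq, hm]
  have hdn : Commute d (D.three : G) := hqn
  have hdM : d ∉ D.M := fun h' => hhM (by
    have := D.M.mul_mem (D.M.inv_mem m.2) (D.M.mul_mem (D.M.inv_mem (D.Q_le hq)) h')
    rwa [hd, inv_mul_cancel_left, inv_mul_cancel_left] at this)
  have hd2 : d * d = 1 ∨ d * d = z := by
    refine D.fixed_three (D.mem_of_sg (hdz.mul_left hdz) fun v => ?_) (hdn.symm.mul_right hdn.symm)
    rw [D.sg_mul hdz hdz, hsg, hsg, stdA_comp]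
    funext i
    simp
  set H := Subgroup.centralizer ({z} : Set G) with hH
  haveI : (D.M.subgroupOf H).Normal := ⟨fun x hx k => D.M_normal k k.2 x hx⟩
  have hsq : ∀ x : ↥H ⧸ D.M.subgroupOf H, x * x = 1 := by
    intro x
    obtain ⟨x, rfl⟩ := QuotientGroup.mk_surjective x
    rw [← QuotientGroup.mk_mul, QuotientGroup.eq_one_iff]
    exact D.sq_mem (commute_of_mem_cent x.2)
  letI : CommGroup (↥H ⧸ D.M.subgroupOf H) :=
    { (inferInstance : Group (↥H ⧸ D.M.subgroupOf H)) with
      mul_comm := fun x y => by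
        have hi : ∀ w : ↥H ⧸ D.M.subgroupOf H, w⁻¹ = w := fun w => inv_eq_of_mul_eq_one_left (hsq w)
        calc x * y = (x * y)⁻¹ := (hi _).symm
          _ = y * x := by rw [_root_.mul_inv_rev, hi, hi] }
  set φ : ↥H →* ↥H ⧸ D.M.subgroupOf H := QuotientGroup.mk' _ with hφ
  have hA2 : IsPGroup 2 (↥H ⧸ D.M.subgroupOf H) := fun x => ⟨1, by rw [pow_one, pow_two]; exact hsq x⟩
  have key := transfer_eq_one hres hA2 φ d
  letI := H.fintypeQuotientOfFiniteIndex
  letI : Fintype (Quotient (orbitRel (Subgroup.zpowers d) (G ⧸ H))) := Fintype.ofFinite _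
  rw [MonoidHom.transfer_eq_prod_quotient_orbitRel_zpowers_quot] at key
  let per : G ⧸ H → ℕ := fun c => Function.minimalPeriod (d • ·) c
  let T : G ⧸ H → ↥H ⧸ D.M.subgroupOf H := fun c =>
    φ ⟨c.out⁻¹ * d ^ per c * c.out, QuotientGroup.out_conj_pow_minimalPeriod_mem H d c⟩
  let Ω := Quotient (orbitRel (Subgroup.zpowers d) (G ⧸ H))
  change ∏ x : Ω, T x.out = 1 at key
  have hperC : ∀ a : G, a⁻¹ * d ^ per (a : G ⧸ H) * a ∈ H := fun a => by
    have h1 : d ^ per (a : G ⧸ H) • (a : G ⧸ H) = a := MulAction.pow_smul_eq_iff_minimalPeriod_dvd.2 dvd_rfl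
    rw [MulAction.Quotient.smul_coe, smul_eq_mul, QuotientGroup.eq] at h1
    have := inv_mem h1
    simpa [mul_assoc] using this
  have hTrep : ∀ (a : G), T (a : G ⧸ H) = φ ⟨a⁻¹ * d ^ per (a : G ⧸ H) * a, hperC a⟩ := by
    intro a
    obtain ⟨s, hs⟩ := QuotientGroup.mk_out_eq_mul H a
    have he : (⟨(a : G ⧸ H).out⁻¹ * d ^ per (a : G ⧸ H) * (a : G ⧸ H).out,
        QuotientGroup.out_conj_pow_minimalPeriod_mem H d _⟩ : ↥H) =
        s⁻¹ * ⟨a⁻¹ * d ^ per (a : G ⧸ H) * a, hperC a⟩ * s := by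
      apply Subtype.ext
      simp only [hs, Subgroup.coe_mul, Subgroup.coe_inv]
      group
    show φ _ = _
    rw [he, map_mul, map_mul, map_inv, mul_comm, mul_inv_cancel_left]
  have hperinv : ∀ g : G, Commute g d → ∀ c : G ⧸ H, per (g • c) = per c := fun g hg c => by
    refine Function.minimalPeriod_eq_minimalPeriod_iff.2 fun n => ?_
    simp only [Function.IsPeriodicPt, Function.IsFixedPt, smul_iterate]
    show d ^ n • g • c = g • c ↔ d ^ n • c = c
    rw [smul_smul, ← (hg.pow_right n).eq, ← smul_smul, smul_left_cancel_iff]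
  have hTinv : ∀ g : G, Commute g d → ∀ c : G ⧸ H, T (g • c) = T c := by
    intro g hg c
    obtain ⟨a, rfl⟩ := QuotientGroup.mk_surjective c
    rw [MulAction.Quotient.smul_coe, smul_eq_mul, hTrep, hTrep]
    refine congrArg φ (Subtype.ext ?_)
    show (g * a)⁻¹ * d ^ per ((g * a : G) : G ⧸ H) * (g * a) = a⁻¹ * d ^ per (a : G ⧸ H) * a
    have hp := hperinv g hg (a : G ⧸ H)
    rw [MulAction.Quotient.smul_coe, smul_eq_mul] at hp
    rw [hp]
    calc (g * a)⁻¹ * d ^ per (a : G ⧸ H) * (g * a) = a⁻¹ * (g⁻¹ * (d ^ per (a : G ⧸ H) * g)) * a := by group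
      _ = _ := by rw [← (hg.pow_right _).eq, inv_mul_cancel_left]
  have hcd : ∀ p ∈ D.hypP, Commute p d := fun p hp => (D.hypP_comm hdz hsg hdn hp).symm
  letI : MulAction ↥D.hypP Ω :=
    { smul := fun p => Quotient.map (fun c => (p : G) • c) fun c c' hcc => by
        obtain ⟨⟨k, i, rfl⟩, rfl⟩ := hcc
        refine ⟨⟨d ^ i, i, rfl⟩, ?_⟩
        show d ^ i • (p : G) • c' = (p : G) • d ^ i • c'
        rw [smul_smul, smul_smul, ((hcd p p.2).zpow_right i).eq]
      one_smul := fun x => Quotient.inductionOn x fun c => congrArg Quotient.mk'' (one_smul G c)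
      mul_smul := fun p p' x => Quotient.inductionOn x fun c => congrArg Quotient.mk'' (mul_smul (p : G) (p' : G) c) }
  have hTq : ∀ c : G ⧸ H, T (⟦c⟧ : Ω).out = T c := fun c => by
    obtain ⟨⟨u, i, rfl⟩, hu⟩ := Quotient.mk_out (s := orbitRel (Subgroup.zpowers d) (G ⧸ H)) c
    rw [← hu]
    exact hTinv (d ^ i) (Commute.zpow_self d i) c
  have hinv : ∀ (p : ↥D.hypP) (x : Ω), T (p • x).out = T x.out := by
    intro p x
    induction x using Quotient.inductionOn with
    | h c =>
      show T (⟦(p : G) • c⟧ : Ω).out = _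
      rw [hTq, hTq, hTinv _ (hcd p p.2)]
  have hP2 : IsPGroup 2 ↥D.hypP := D.ctx.two.to_le fun a ha => ha.1
  letI : Fintype (fixedPoints ↥D.hypP Ω) := Fintype.ofFinite _
  rw [prod_eq_prod_fixed (U := ↥D.hypP) hP2 (fun x : Ω => T x.out) hinv fun x => hsq _] at key
  have hmemH : ∀ {g : G}, g ∈ H ↔ Commute g z := Subgroup.mem_centralizer_singleton_iff
  have hfixiff : ∀ (g a : G), g • (a : G ⧸ H) = a ↔ Commute g (a * z * a⁻¹) := fun g a => by
    rw [MulAction.Quotient.smul_coe, smul_eq_mul, QuotientGroup.eq, ← inv_mem_iff, hmemH,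
      ← Commute.conj_iff a]
    simp [mul_assoc]
  have hzP : z ∈ D.hypP := ⟨D.ctx.mem, by
    have := D.cl_z_mul (one_mem Q)
    rw [mul_one, D.cl_one] at this
    rw [this]
    exact rfl⟩
  have hone : (⟦((1 : G) : G ⧸ H)⟧ : Ω) ∈ fixedPoints ↥D.hypP Ω := fun p => by
    refine congrArg Quotient.mk'' ?_
    show (p : G) • ((1 : G) : G ⧸ H) = _
    rw [hfixiff, one_mul, inv_one, mul_one]
    exact (D.ctx.central p p.2.1).symm
  rw [Finset.prod_eq_single (⟨_, hone⟩ : fixedPoints ↥D.hypP Ω)] at key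
  · have h1 : T (⟦((1 : G) : G ⧸ H)⟧ : Ω).out = 1 := key
    rw [hTq, hTrep] at h1
    have hp1 : per ((1 : G) : G ⧸ H) = 1 := Function.minimalPeriod_eq_one_iff_isFixedPt.2 (by
      show d • ((1 : G) : G ⧸ H) = _
      rw [hfixiff, one_mul, inv_one, mul_one]
      exact hdz)
    rw [hφ, QuotientGroup.mk'_apply, QuotientGroup.eq_one_iff, Subgroup.mem_subgroupOf] at h1
    have h2 : (1 : G)⁻¹ * d ^ per ((1 : G) : G ⧸ H) * 1 = d := by rw [hp1]; simp
    exact hdM (by rw [← h2]; exact h1)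
  · rintro ⟨x, hx⟩ - hne
    show T x.out = 1
    obtain ⟨a, ha⟩ := QuotientGroup.mk_surjective x.out
    set c : G ⧸ H := x.out with hc
    have horb : ∀ p ∈ D.hypP, ∃ i : ℤ, d ^ i • c = p • c := by
      intro p hp
      have h1 : (⟦p • c⟧ : Ω) = ⟦c⟧ := by
        show (⟨p, hp⟩ : ↥D.hypP) • (⟦c⟧ : Ω) = ⟦c⟧
        rw [hc, Quotient.out_eq]
        exact hx _
      obtain ⟨⟨u, i, rfl⟩, hu⟩ := Quotient.eq''.1 h1
      exact ⟨i, hu⟩
    have hd4 : d ^ 4 = 1 := by
      rw [show d ^ 4 = (d * d) * (d * d) by simp [pow_succ, mul_assoc]]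
      rcases hd2 with e | e <;> rw [e]
      · rw [one_mul]
      · exact D.ctx.sq_z
    have hdvd : per c ∣ 4 := MulAction.pow_smul_eq_iff_minimalPeriod_dvd.1 (by rw [hd4, one_smul])
    have hper := Nat.le_of_dvd (by norm_num) hdvd
    rw [← ha, hTrep]
    have hperc : d ^ per c • c = c := MulAction.pow_smul_eq_iff_minimalPeriod_dvd.2 dvd_rfl
    interval_cases hk : per c
    · simp at hdvd
    · -- fixed by the transposition
      exfalso
      rw [pow_one] at hperc
      have hcP : ∀ p ∈ D.hypP, p • c = c := fun p hp => by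
        obtain ⟨i, hi⟩ := horb p hp
        rw [← hi]
        exact mem_stabilizer_iff.1 ((stabilizer G c).zpow_mem (mem_stabilizer_iff.2 hperc) i)
      have hw := D.fixed_coset hdz hsg hdn (a := a) ((hfixiff d a).1 (by rw [ha]; exact hperc)).symm
        fun p hp => ((hfixiff p a).1 (by rw [ha]; exact hcP p hp)).symm
      refine hne (Subtype.ext ?_)
      show x = ⟦((1 : G) : G ⧸ H)⟧
      rw [← Quotient.out_eq x, ← hc, ← ha]
      refine congrArg _ ?_
      rw [QuotientGroup.eq, mul_one]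
      exact inv_mem (hmemH.2 (mul_inv_eq_iff_eq_mul.1 hw))
    · -- a pair exchanged by the transposition
      rcases hd2 with e | e
      · simp only [ha, hk, pow_two, e, mul_one, inv_mul_cancel]
        exact map_one φ
      let S : Subgroup ↥D.hypP := (stabilizer G c).subgroupOf D.hypP
      have hidx : S.index ≤ 2 := by
        letI : MulAction ↥D.hypP (G ⧸ H) := MulAction.compHom _ D.hypP.subtype
        have es : S = stabilizer ↥D.hypP c := Subgroup.ext fun _ => Iff.rfl
        rw [es, MulAction.index_stabilizer]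
        have hsub : orbit ↥D.hypP c ⊆ {c, d • c} := by
          rintro _ ⟨p, rfl⟩
          obtain ⟨i, hi⟩ := horb p p.2
          show (p : G) • c = c ∨ (p : G) • c = d • c
          rw [← hi]
          have h2 : ∀ j : ℤ, d ^ (2 * j) • c = c := fun j => by
            rw [_root_.zpow_mul]
            refine mem_stabilizer_iff.1 ((stabilizer G c).zpow_mem (mem_stabilizer_iff.2 ?_) j)
            exact_mod_cast hperc
          rcases Int.even_or_odd' i with ⟨j, rfl | rfl⟩
          · exact Or.inl (h2 j)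
          · refine Or.inr ?_
            rw [show (2 * j + 1 : ℤ) = 1 + 2 * j by ring, _root_.zpow_add, zpow_one, ← smul_smul, h2]
        exact (Set.ncard_le_ncard hsub (Set.toFinite _)).trans
          ((Set.ncard_insert_le _ _).trans (by rw [Set.ncard_singleton]))
      have hbig : 1024 ≤ Nat.card ↥(S.map D.hypP.subtype) := by
        have h1 := S.card_mul_index
        rw [D.card_hypP] at h1
        rw [Subgroup.card_map_of_injective D.hypP.subtype_injective]
        by_contra hlt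
        have := Nat.mul_le_mul (Nat.le_of_lt_succ (not_le.1 hlt : Nat.card ↥S < 1024)) hidx
        omega
      have hnc : ∃ u ∈ S.map D.hypP.subtype, ∃ v ∈ S.map D.hypP.subtype, ¬ Commute u v := by
        by_contra hcon
        push Not at hcon
        have := card_abelian_le D.ctx D.cardQ (A := S.map D.hypP.subtype)
          (by rintro _ ⟨p, -, rfl⟩; exact p.2.1) hcon
        omega
      obtain ⟨_, ⟨u, hu, rfl⟩, _, ⟨v, hv, rfl⟩, huv⟩ := hnc
      have hu' : Commute (u : G) (a * z * a⁻¹) := (hfixiff _ a).1 (by rw [ha]; exact mem_stabilizer_iff.1 hu)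
      have hv' : Commute (v : G) (a * z * a⁻¹) := (hfixiff _ a).1 (by rw [ha]; exact mem_stabilizer_iff.1 hv)
      have hcj : ∀ {k : G}, Commute k (a * z * a⁻¹) → Commute (a⁻¹ * k * a) z := fun {k} hk' => by
        rw [← Commute.conj_iff a, show a * (a⁻¹ * k * a) * a⁻¹ = k by group]
        exact hk'
      have hz : z = (u : G) * v * (u : G)⁻¹ * (v : G)⁻¹ :=
        ((D.ctx.comm (u : G) u.2.1 (v : G) v.2.1).resolve_left
          fun e' => huv (mul_inv_eq_iff_eq_mul.1 (mul_inv_eq_one.1 e'))).symm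
      rw [hφ, QuotientGroup.mk'_apply, QuotientGroup.eq_one_iff, Subgroup.mem_subgroupOf]
      show a⁻¹ * d ^ per (a : G ⧸ H) * a ∈ D.M
      rw [ha, hk, pow_two, e, show a⁻¹ * z * a = a⁻¹ * ((u : G) * v * (u : G)⁻¹ * (v : G)⁻¹) * a from
          congrArg (fun y => a⁻¹ * y * a) hz,
        show a⁻¹ * ((u : G) * v * (u : G)⁻¹ * (v : G)⁻¹) * a =
          (a⁻¹ * u * a) * (a⁻¹ * v * a) * (a⁻¹ * u * a)⁻¹ * (a⁻¹ * v * a)⁻¹ by group]
      exact D.comm_mem (hcj hu') (hcj hv')
    · norm_num at hdvd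
    · simp only [ha, hk, hd4, mul_one, inv_mul_cancel]
      exact map_one φ
  · intro h'
    exact absurd (Finset.mem_univ _) h'

end Cfsg.Lib.FischerLarge
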