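import Cfsg.Agent.Lib.FischerLarge.Coord

/-!
# Coordinates without a bound on the index of the unitary part
-/

set_option autoImplicit false
set_option maxRecDepth 4000

namespace Cfsg.Lib.FischerLarge

open Cfsg Matrix Cfsg.Lib Cfsg.Lib.PermAut Cfsg.Lib.SUSixU43 Cfsg.Lib.Extra

universe u

/-- The centralizer of the involution in coordinates, the index of the unitary part being arbitrary. -/
structure Pre {G : Type u} [Group G] (z : G) (Q : Subgroup G) where
  /-- The model. -/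
  c : ℕ
  c_lt : c < 3
  ctx : Ctx Q z
  cardQ : Nat.card ↥Q = 2 ^ 13
  /-- The coordinates of an element of `Q`. -/
  cl : G → V6
  cl_mul : ∀ a ∈ Q, ∀ b ∈ Q, cl (a * b) = cl a + cl b
  cl_surj : ∀ v, ∃ a ∈ Q, cl a = v
  cl_eq : ∀ a ∈ Q, ∀ b ∈ Q, cl a = cl b ↔ b = a ∨ b = z * a
  cl_sq : ∀ a ∈ Q, a * a = 1 ↔ hermForm 6 R4 2 (cl a) (cl a) = 0
  /-- The unitary part of the centralizer. -/
  M : Subgroup G
  M_le : M ≤ Subgroup.centralizer {z}
  Q_le : Q ≤ M
  M_normal : ∀ h ∈ Subgroup.centralizer ({z} : Set G), ∀ m ∈ M, h * m * h⁻¹ ∈ M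
  /-- The action on the coordinates. -/
  π : ↥M →* G6
  π_range : π.range = KM c
  π_ker : ∀ m, π m = 1 ↔ (m : G) ∈ Q
  π_cl : ∀ (m : ↥M), ∀ a ∈ Q, cl ((m : G) * a * (m : G)⁻¹) = π m • cl a

/-- The coordinates when the index of the unitary part is two. -/
def Pre.toCoord {G : Type u} [Group G] {z : G} {Q : Subgroup G} (P : Pre z Q)
    (h : 2 * Nat.card ↥P.M = Nat.card ↥(Subgroup.centralizer ({z} : Set G))) : Coord z Q where
  c := P.c
  A := (orbA P.c).set
  B := (orbBig P.c).set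
  orb := orbFacts P.c_lt
  c_lt := P.c_lt
  A_eq := rfl
  B_eq := rfl
  card_model := card_KM P.c_lt
  ctx := P.ctx
  cardQ := P.cardQ
  cl := P.cl
  cl_mul := P.cl_mul
  cl_surj := P.cl_surj
  cl_eq := P.cl_eq
  cl_sq := P.cl_sq
  M := P.M
  M_le := P.M_le
  Q_le := P.Q_le
  M_normal := P.M_normal
  M_index := h
  π := P.π
  π_range := P.π_range
  π_ker := P.π_ker
  π_cl := P.π_cl

/-- The coordinates exist for every index of the unitary part. -/
theorem exists_pre_coord {G : Type u} [Group G] [Finite G] (z : G)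
    (Q : Subgroup (Subgroup.centralizer ({z} : Set G))) [Q.Normal]
    (hctx : Ctx (Q.map (Subgroup.centralizer ({z} : Set G)).subtype) z) (hQc : Nat.card ↥Q = 2 ^ 13)
    (N M : Subgroup (Subgroup.centralizer ({z} : Set G))) [hNn : N.Normal] [hMn : M.Normal]
    (hQN : Q ≤ N) (hNM : N ≤ M) (hNc : Nat.card ↥N = 3 * Nat.card ↥Q)
    {K : Type} [Field K] [Fintype K] (hK9 : Fintype.card K = 9)
    (eP : (↥M ⧸ N.subgroupOf M) ≃* Cfsg.PSU 4 K 3) :
    ∃ P : Pre z (Q.map (Subgroup.centralizer ({z} : Set G)).subtype),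
      P.M = M.map (Subgroup.centralizer ({z} : Set G)).subtype := by
  classical
  set Q₀ := Q.map (Subgroup.centralizer ({z} : Set G)).subtype with hQ₀
  have hQ₀c : Nat.card ↥Q₀ = 2 ^ 13 := by
    rw [hQ₀, Subgroup.card_map_of_injective (Subgroup.centralizer ({z} : Set G)).subtype_injective, hQc]
  obtain ⟨V, iA, iM, iF, cl, act, B, q, hV, cl_mul, cl_surj, cl_eq, hq0, hB, hq, hsymm, hnd, act_cl, act_ker⟩ :=
    exists_module hctx hQ₀c
  have hcz : ∀ h : ↥(Subgroup.centralizer ({z} : Set G)), Commute (h : G) z := fun h => Subgroup.mem_centralizer_singleton_iff.1 h.2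
  have memQ₀ : ∀ h : ↥(Subgroup.centralizer ({z} : Set G)), (h : G) ∈ Q₀ ↔ h ∈ Q := fun h =>
    ⟨fun ⟨y, hy, e⟩ => Subtype.ext e ▸ hy, fun hh => ⟨h, hh, rfl⟩⟩
  have act_mul : ∀ h k : ↥(Subgroup.centralizer ({z} : Set G)), act ((h * k : ↥(Subgroup.centralizer ({z} : Set G))) : G) = act (h : G) * act (k : G) := fun h k => LinearMap.ext fun v => by
    obtain ⟨a, ha, rfl⟩ := cl_surj v
    rw [Module.End.mul_apply, act_cl _ (hcz (h * k)) a ha, act_cl _ (hcz k) a ha,
      act_cl _ (hcz h) _ (conj_mem hctx (hcz k) ha), Subgroup.coe_mul]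
    congr 1
    group
  let ρ : ↥M →* Module.End (ZMod 2) V :=
    { toFun := fun m => act ((m : ↥(Subgroup.centralizer ({z} : Set G))) : G)
      map_one' := (act_ker _ (hcz _)).2 (one_mem _)
      map_mul' := fun a b => act_mul _ _ }
  set Q' := Q.subgroupOf M with hQ'
  set N' := N.subgroupOf M with hN'
  have hQM : Q ≤ M := hQN.trans hNM
  have hker : ∀ m, ρ m = 1 ↔ m ∈ Q' := fun m => (act_ker _ (hcz _)).trans (memQ₀ _)
  have hQN' : Q' ≤ N' := fun m hm => hQN hm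
  have hN'c : Nat.card ↥N' = 3 * Nat.card ↥Q' := by
    rw [Nat.card_congr (Subgroup.subgroupOfEquivOfLe hNM).toEquiv,
      Nat.card_congr (Subgroup.subgroupOfEquivOfLe hQM).toEquiv, hNc]
  obtain ⟨eR⟩ := Cfsg.Lib.MinusSix.psu_congr
    (FiniteField.ringEquivOfCardEq (hK9.trans MclPsu.card_r9.symm)) 4 3
  obtain ⟨e0⟩ := psu_equiv_Q112
  let e : ↥M ⧸ N' ≃* ↥Q112 := (eP.trans eR).trans e0
  haveI : IsSimpleGroup (↥M ⧸ N') := by
    haveI := simple_psu
    haveI : IsSimpleGroup ↥Q112 := e0.symm.isSimpleGroup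
    exact e.isSimpleGroup
  have hbig : Nat.card (↥M ⧸ N') = 3265920 := by rw [Nat.card_congr e.toEquiv, card_Q112]
  haveI : Fact (Nat.Prime 3) := ⟨Nat.prime_three⟩
  obtain ⟨n0, hn0⟩ := exists_prime_orderOf_dvd_card' (G := ↥N') 3 (hN'c ▸ dvd_mul_right 3 _)
  set n : ↥M := (n0 : ↥M) with hndef
  have hn3 : orderOf n = 3 := by rw [hndef, Subgroup.orderOf_coe, hn0]
  have hnQ : n ∉ Q' := fun h => by
    have hd : orderOf ((n : ↥(Subgroup.centralizer ({z} : Set G))) : G) ∣ Nat.card ↥Q₀ := by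
      have hm : ((n : ↥(Subgroup.centralizer ({z} : Set G))) : G) ∈ Q₀ := (memQ₀ _).2 h
      rw [← Subgroup.orderOf_mk _ hm]
      exact orderOf_dvd_natCard _
    rw [Subgroup.orderOf_coe, Subgroup.orderOf_coe, hn3, hQ₀c] at hd
    norm_num at hd
  have hpow : n ^ 3 ∈ Q' := by rw [← hn3, pow_orderOf_eq_one]; exact one_mem _
  haveI : Q'.Normal := Subgroup.normal_subgroupOf
  have hcomm : ∀ m, Commute (ρ m) (ρ n) := fun m => by
    have h := commutator_mem Q' N' (by rw [hbig]; norm_num) hQN' hN'c n0.2 m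
    have h1 : ρ (m * n * m⁻¹ * n⁻¹) = 1 := (hker _).2 h
    show ρ m * ρ n = ρ n * ρ m
    rw [← map_mul, ← map_mul]
    calc ρ (m * n) = ρ (m * n * m⁻¹ * n⁻¹ * (n * m)) := by congr 1; group
      _ = _ := by rw [map_mul, h1, one_mul]
  have hT := quad_eq_zero hV ρ Q' N' hker hQN' hN'c e n0.2 hnQ hpow hcomm
  have hact_q : ∀ (m : ↥M) v, q (ρ m v) = q v := fun m v => by
    obtain ⟨a, ha, rfl⟩ := cl_surj v
    show q (act ((m : ↥(Subgroup.centralizer ({z} : Set G))) : G) (cl a)) = _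
    rw [act_cl _ (hcz _) a ha]
    have h1 := hq0 _ (conj_mem hctx (hcz (m : ↥(Subgroup.centralizer ({z} : Set G)))) ha)
    have h2 := hq0 a ha
    have h3 : ∀ k : G, k * a * k⁻¹ * (k * a * k⁻¹) = 1 ↔ a * a = 1 := fun k => by
      rw [show k * a * k⁻¹ * (k * a * k⁻¹) = k * (a * a) * k⁻¹ by group, conj_eq_one_iff]
    rw [h3, ← h2] at h1
    rcases bit2 (q (cl a)) with e' | e'
    · rw [e', h1, e']
    · rcases bit2 (q (cl ((((m : ↥(Subgroup.centralizer ({z} : Set G))) : G)) * a * (((m : ↥(Subgroup.centralizer ({z} : Set G))) : G))⁻¹))) with e'' | e''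
      · rw [e''] at h1
        exact (h1.1 rfl).symm ▸ e''
      · rw [e', e'']
  obtain ⟨ψ, hψq, hψω, hψf⟩ := exists_coords hV B q (ρ n) hT hq hsymm hnd (hact_q n)
  choose Am hAu hAc using fun m : ↥M => hψf (ρ m) (hcomm m) (hact_q m)
  have hAuniq : ∀ {A A' : Matrix (Fin 6) (Fin 6) R4}, (∀ x, ψ (A *ᵥ x) = ψ (A' *ᵥ x)) → A = A' :=
    fun {A A'} h => Matrix.ext fun i j => by
      have := congrFun (ψ.injective (h (Pi.single j 1))) i
      rwa [Matrix.mulVec_single_one, Matrix.mulVec_single_one] at this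
  let π0 : ↥M →* Matrix (Fin 6) (Fin 6) R4 :=
    { toFun := Am
      map_one' := hAuniq fun x => by rw [← hAc, map_one, Module.End.one_apply, Matrix.one_mulVec]
      map_mul' := fun a b => hAuniq fun x => by
        rw [← hAc, map_mul, Module.End.mul_apply, hAc, hAc, Matrix.mulVec_mulVec] }
  have hπ0 : ∀ (m : ↥M) x, ρ m (ψ x) = ψ (π0 m *ᵥ x) := hAc
  have hπ0ker : ∀ m, π0 m = 1 ↔ m ∈ Q' := fun m => by
    rw [← hker]
    refine ⟨fun h => LinearMap.ext fun v => ?_, fun h => hAuniq fun x => ?_⟩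
    · obtain ⟨x, rfl⟩ := ψ.surjective v
      rw [hπ0, h, Matrix.one_mulVec, Module.End.one_apply]
    · rw [← hπ0, h, Module.End.one_apply, Matrix.one_mulVec]
  have hπn : π0 n = Matrix.diagonal fun _ => elE 1 := scalar_of_smul fun x => ψ.injective (by
    rw [← hπ0, hψω]
    simp)
  have hnN : ∀ m ∈ N', ∃ i : ℕ, π0 m = π0 n ^ i := by
    intro m hm
    have hcl' : N' = Subgroup.zpowers n ⊔ Q' := by
      refine (Subgroup.eq_of_le_of_card_ge (sup_le (Subgroup.zpowers_le.2 n0.2) hQN') ?_).symm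
      obtain ⟨a, ha⟩ := Subgroup.card_dvd_of_le (le_sup_right : Q' ≤ Subgroup.zpowers n ⊔ Q')
      obtain ⟨b, hb⟩ := Subgroup.card_dvd_of_le (sup_le (Subgroup.zpowers_le.2 n0.2) hQN' :
        Subgroup.zpowers n ⊔ Q' ≤ N')
      rw [hN'c, ha, mul_assoc, mul_comm 3] at hb
      have h3 : a * b = 3 := (Nat.eq_of_mul_eq_mul_left Nat.card_pos hb).symm
      have ha1 : a ≠ 1 := fun h => by
        have hfull := Subgroup.eq_of_le_of_card_ge (le_sup_right : Q' ≤ Subgroup.zpowers n ⊔ Q') (by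
          rw [ha, h, mul_one])
        exact hnQ (hfull.symm ▸ Subgroup.mem_sup_left (Subgroup.mem_zpowers n))
      rw [ha, hN'c, mul_comm 3]
      rcases (Nat.dvd_prime Nat.prime_three).1 (Dvd.intro b h3) with h | h
      · exact absurd h ha1
      · rw [h]
    rw [hcl', ← SetLike.mem_coe, Subgroup.mul_normal, Set.mem_mul] at hm
    obtain ⟨x, hx, y, hy, rfl⟩ := hm
    obtain ⟨i, rfl⟩ := (mem_powers_iff_mem_zpowers.2 hx : x ∈ Submonoid.powers n)
    exact ⟨i, by rw [map_mul, map_pow, (hπ0ker y).2 hy, mul_one]⟩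
  have hdet : ∀ m, (π0 m).det = 1 := by
    let d : ↥M →* R4ˣ := MonoidHom.toHomUnits (Matrix.detMonoidHom.comp π0)
    have hd : ∀ m, ((d m : R4ˣ) : R4) = (π0 m).det := fun m => by rw [MonoidHom.coe_toHomUnits, MonoidHom.comp_apply, Matrix.coe_detMonoidHom]
    have hN0 : N' ≤ d.ker := fun m hm => by
      obtain ⟨i, hi⟩ := hnN m hm
      refine MonoidHom.mem_ker.2 (Units.ext ?_)
      rw [hd, hi, Matrix.det_pow, hπn, Matrix.det_diagonal, Finset.prod_const, Finset.card_fin,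
        elE_six, one_pow]
      rfl
    intro m
    have hc : Nat.card R4ˣ < Nat.card (↥M ⧸ N') := by
      rw [hbig, Nat.card_units, Nat.card_eq_fintype_card, card_r4]
      norm_num
    rw [← hd, hom_trivial N' d hN0 hc m]
    rfl
  let π1 : ↥M →* G6 :=
    { toFun := fun m => ⟨⟨π0 m, hdet m⟩, herm_of (hAu m)⟩
      map_one' := mm_injective (map_one π0)
      map_mul' := fun a b => mm_injective (map_mul π0 a b) }
  have hπ1 : ∀ m, mm (π1 m) = π0 m := fun m => rfl
  have hπ1ker : ∀ m, π1 m = 1 ↔ m ∈ Q' := fun m =>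
    ⟨fun h => (hπ0ker m).1 (by rw [← hπ1, h, map_one]), fun h => mm_injective (by
      rw [hπ1, (hπ0ker m).2 h, map_one])⟩
  have hZ : π1 n = Zc := mm_injective (by rw [hπ1, hπn, mm_Zc, zMat_eq])
  have hCimg : ∀ m, π1 m ∈ C6 ↔ m ∈ N' := by
    intro m
    constructor
    · intro h
      obtain ⟨i, hi⟩ := (mem_powers_iff_mem_zpowers.2 h : π1 m ∈ Submonoid.powers Zc)
      have hi' : Zc ^ i = π1 m := hi
      have hq : m * (n ^ i)⁻¹ ∈ Q' := (hπ1ker _).1 (by
        rw [map_mul, map_inv, map_pow, hZ, hi', mul_inv_cancel])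
      have := N'.mul_mem (hQN' hq) (N'.pow_mem n0.2 i)
      rwa [inv_mul_cancel_right] at this
    · intro h
      obtain ⟨i, hi⟩ := hnN m h
      rw [show π1 m = Zc ^ i from mm_injective (by rw [hπ1, hi, map_pow, mm_Zc, zMat_eq, hπn])]
      exact C6.pow_mem (Subgroup.mem_zpowers Zc) i
  have hcover : IsCover ↥Q112 π1.range := by
    let θ0 : ↥M →* Equiv.Perm (Fin 112) := Q112.subtype.comp (e.toMonoidHom.comp (QuotientGroup.mk' N'))
    have hθker : ∀ m, θ0 m = 1 ↔ m ∈ N' := fun m => by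
      rw [← QuotientGroup.eq_one_iff (N := N') m]
      exact ⟨fun h => e.injective (by rw [map_one]; exact Subtype.ext h), fun h => by
        show ((e (QuotientGroup.mk m) : ↥Q112) : Equiv.Perm (Fin 112)) = 1
        rw [h, map_one]; rfl⟩
    let θ : ↥π1.range →* Equiv.Perm (Fin 112) :=
      (π1.rangeRestrict.liftOfSurjective π1.rangeRestrict_surjective) ⟨θ0, fun m hm => by
        refine MonoidHom.mem_ker.2 ((hθker m).2 (hQN' ((hπ1ker m).1 ?_)))
        exact congrArg Subtype.val (MonoidHom.mem_ker.1 hm)⟩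
    have hθ : ∀ m, θ (π1.rangeRestrict m) = θ0 m := fun m => MonoidHom.liftOfRightInverse_comp_apply ..
    refine @isCover_of_hom G6 ↥Q112 _ _ π1.range _ _ θ Q112 ?_ center_Q112 C6 ?_ (fun x => ?_)
      (fun z hz => C6_comm hz) card_C6 (MulEquiv.refl _)
    · ext p
      constructor
      · rintro ⟨x, rfl⟩
        obtain ⟨m, rfl⟩ := π1.rangeRestrict_surjective x
        rw [hθ]
        exact (e (QuotientGroup.mk m)).2
      · intro hp
        obtain ⟨y, hy⟩ := e.surjective ⟨p, hp⟩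
        obtain ⟨m, rfl⟩ := QuotientGroup.mk_surjective y
        refine ⟨π1.rangeRestrict m, ?_⟩
        rw [hθ]
        exact congrArg Subtype.val hy
    · refine Subgroup.zpowers_le.2 ⟨n, hZ⟩
    · obtain ⟨m, rfl⟩ := π1.rangeRestrict_surjective x
      rw [hθ, hθker]
      exact (hCimg m).symm
  obtain ⟨g, c, hc, hg⟩ := exists_conj_model (MulEquiv.refl _) hcover
  let eM : ↥M ≃* ↥(M.map (Subgroup.centralizer ({z} : Set G)).subtype) := M.equivMapOfInjective _ (Subgroup.centralizer ({z} : Set G)).subtype_injective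
  let π : ↥(M.map (Subgroup.centralizer ({z} : Set G)).subtype) →* G6 := ((MulAut.conj g).toMonoidHom.comp π1).comp eM.symm.toMonoidHom
  have hπ : ∀ m : ↥M, π (eM m) = g * π1 m * g⁻¹ := fun m => by
    show g * π1 (eM.symm (eM m)) * g⁻¹ = _
    rw [eM.symm_apply_apply]
  refine ⟨⟨c, hc, hctx, hQ₀c, fun a => g • ψ.symm (cl a), fun a ha b hb => ?_,
    fun v => ?_, fun a ha b hb => ?_, fun a ha => ?_, M.map (Subgroup.centralizer ({z} : Set G)).subtype, ?_, ?_, ?_, π, ?_, ?_, ?_⟩, rfl⟩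
  · rw [cl_mul a ha b hb, map_add, smul_def, smul_def, smul_def, Matrix.mulVec_add]
  · obtain ⟨a, ha, hav⟩ := cl_surj (ψ (g⁻¹ • v))
    exact ⟨a, ha, by rw [hav, AddEquiv.symm_apply_apply, smul_inv_smul]⟩
  · rw [smul_left_cancel_iff, ψ.symm.injective.eq_iff]
    exact cl_eq a ha b hb
  · rw [herm_smul, ← hψq, AddEquiv.apply_symm_apply, hq0 a ha]
  · rintro _ ⟨m, -, rfl⟩
    exact m.2
  · exact Subgroup.map_mono hQM
  · rintro h hh _ ⟨m, hm, rfl⟩
    exact ⟨_, hMn.conj_mem m hm ⟨h, hh⟩, rfl⟩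
  · ext x
    rw [← hg]
    constructor
    · rintro ⟨m, rfl⟩
      obtain ⟨m, rfl⟩ := eM.surjective m
      exact ⟨π1 m, ⟨m, rfl⟩, (hπ m).symm⟩
    · rintro ⟨_, ⟨m, rfl⟩, rfl⟩
      exact ⟨eM m, hπ m⟩
  · intro m
    obtain ⟨m, rfl⟩ := eM.surjective m
    rw [hπ, conj_eq_one_iff, hπ1ker]
    exact (memQ₀ _).symm
  · intro m a ha
    obtain ⟨m, rfl⟩ := eM.surjective m
    rw [hπ, mul_smul, mul_smul, inv_smul_smul]
    congr 1
    refine ψ.symm_apply_eq.2 ?_
    rw [smul_def, hπ1, ← hπ0, AddEquiv.apply_symm_apply]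
    exact (act_cl _ (hcz _) a ha).symm

end Cfsg.Lib.FischerLarge
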