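import Cfsg.Agent.Lib.FischerLarge.Centralizer.PreSemi
import Cfsg.Agent.Lib.FischerLarge.MaxElem
import Cfsg.Agent.Lib.FischerLarge.UnipFacts
import Cfsg.Agent.Lib.FischerLarge.Fusion

/-!
# The elementary abelian subgroup of order `2 ^ 11`, for every index of the unitary part
-/

set_option autoImplicit false

namespace Cfsg.Lib.FischerLarge

open Cfsg Cfsg.Lib.SUSixU43 Cfsg.Lib.Extra Cfsg.Lib.PermAut

universe u

variable {G : Type u} [Group G] [Finite G] {z : G} {Q : Subgroup G} (D : Pre z Q)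

/-- The coordinates of a subgroup of the extraspecial group determine it up to two. -/
theorem Pre.card_le_image {A : Subgroup G} (hA : A ≤ Q) :
    Nat.card ↥A ≤ 2 * (D.cl '' (A : Set G)).ncard ∧
      (z ∈ A → Nat.card ↥A = 2 * (D.cl '' (A : Set G)).ncard) := by
  classical
  let f : ↥A →* Multiplicative V6 :=
    { toFun := fun a => Multiplicative.ofAdd (D.cl a)
      map_one' := by
        show Multiplicative.ofAdd (D.cl 1) = 1
        rw [D.cl_one, ofAdd_zero]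
      map_mul' := fun a b => by
        show Multiplicative.ofAdd (D.cl ((a : G) * b)) = _
        rw [D.cl_mul _ (hA a.2) _ (hA b.2), ofAdd_add] }
  have hk : ∀ a : ↥A, a ∈ f.ker ↔ (a : G) = 1 ∨ (a : G) = z := by
    intro a
    rw [MonoidHom.mem_ker]
    show Multiplicative.ofAdd (D.cl a) = 1 ↔ _
    rw [ofAdd_eq_one, ← D.cl_one, eq_comm, D.cl_eq 1 (one_mem _) _ (hA a.2), mul_one]
  have hle : Nat.card ↥f.ker ≤ 2 := by
    refine (Nat.card_le_card_of_injective (fun a : ↥f.ker => decide (((a : ↥A) : G) = 1)) ?_).trans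
      (by rw [Nat.card_eq_fintype_card, Fintype.card_bool])
    intro a b e
    simp only [decide_eq_decide] at e
    refine Subtype.ext (Subtype.ext ?_)
    rcases (hk a).1 a.2 with h | h <;> rcases (hk b).1 b.2 with h' | h'
    · rw [h, h']
    · exact h.trans (e.1 h).symm
    · exact (e.2 h').trans h'.symm
    · rw [h, h']
  have hr : Nat.card ↥f.range = (D.cl '' (A : Set G)).ncard := by
    rw [← Nat.card_coe_set_eq]
    exact Nat.card_congr
      { toFun := fun x => ⟨Multiplicative.toAdd (x : Multiplicative V6), by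
          obtain ⟨a, ha⟩ := x.2
          exact ⟨a, a.2, congrArg Multiplicative.toAdd ha⟩⟩
        invFun := fun x => ⟨Multiplicative.ofAdd (x : V6), by
          obtain ⟨a, ha, e⟩ := x.2
          exact ⟨⟨a, ha⟩, congrArg Multiplicative.ofAdd e⟩⟩
        left_inv := fun _ => rfl
        right_inv := fun _ => rfl }
  have h := f.ker.card_mul_index
  rw [Subgroup.index_ker, hr] at h
  refine ⟨h ▸ Nat.mul_le_mul_right _ hle, fun hz => ?_⟩
  have h2 : 2 ≤ Nat.card ↥f.ker := by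
    refine le_trans (by rw [Nat.card_eq_fintype_card, Fintype.card_bool]) (Nat.card_le_card_of_injective
      (fun b : Bool => if b then (1 : ↥f.ker) else ⟨⟨z, hz⟩, (hk _).2 (Or.inr rfl)⟩) ?_)
    intro a b e
    cases a <;> cases b
    · rfl
    · exact absurd (congrArg (fun x : ↥f.ker => ((x : ↥A) : G)) e) (by simpa using D.ctx.ne_one)
    · exact absurd (congrArg (fun x : ↥f.ker => ((x : ↥A) : G)) e) (by simpa using D.ctx.ne_one.symm)
    · rfl
  rw [← h, le_antisymm hle h2]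

/-- The preimage of the fixed space. -/
noncomputable def Pre.lagW : Subgroup G where
  carrier := {a | a ∈ Q ∧ D.cl a ∈ fixSet D.c}
  one_mem' := ⟨one_mem _, by rw [D.cl_one]; exact (lagFacts D.c_lt).zero⟩
  mul_mem' := fun {a b} ha hb => ⟨mul_mem ha.1 hb.1, by
    rw [D.cl_mul a ha.1 b hb.1]; exact (lagFacts D.c_lt).add _ ha.2 _ hb.2⟩
  inv_mem' := fun {a} ha => ⟨inv_mem ha.1, by
    have h := D.cl_mul a ha.1 _ (inv_mem ha.1)
    rw [mul_inv_cancel, D.cl_one] at h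
    have h2 := congrArg (D.cl a + ·) h
    simp only [add_zero, ← add_assoc, v6_add_self, zero_add] at h2
    rw [← h2]
    exact ha.2⟩

theorem Pre.mem_lagW {a : G} : a ∈ D.lagW ↔ a ∈ Q ∧ D.cl a ∈ fixSet D.c := Iff.rfl

theorem Pre.z_lagW : z ∈ D.lagW := by
  refine ⟨D.ctx.mem, ?_⟩
  have := D.cl_z_mul (one_mem Q)
  rw [mul_one, D.cl_one] at this
  rw [this]
  exact (lagFacts D.c_lt).zero

theorem Pre.card_lagW : Nat.card ↥D.lagW = 128 := by
  rw [(D.card_le_image (A := D.lagW) fun a ha => ha.1).2 D.z_lagW]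
  have e : D.cl '' (D.lagW : Set G) = fixSet D.c := by
    refine Set.Subset.antisymm (fun x ⟨a, ha, e⟩ => e ▸ ha.2) fun x hx => ?_
    obtain ⟨a, ha, rfl⟩ := D.cl_surj x
    exact ⟨a, ⟨ha, hx⟩, rfl⟩
  rw [e, (lagFacts D.c_lt).card]

theorem Pre.lagW_sq {a : G} (ha : a ∈ D.lagW) : a * a = 1 :=
  (D.cl_sq a ha.1).2 ((lagFacts D.c_lt).orth _ ha.2 _ ha.2)

theorem Pre.lagW_comm {a b : G} (ha : a ∈ D.lagW) (hb : b ∈ D.lagW) : Commute a b :=
  commute_of_sq (D.lagW_sq ha) (D.lagW_sq hb) (D.lagW_sq (mul_mem ha hb))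

/-- The subgroup of order `2 ^ 11`. -/
noncomputable def Pre.lagC : Subgroup G := D.M ⊓ Subgroup.centralizer (D.lagW : Set G)

theorem Pre.lagC_comm_W {x a : G} (hx : x ∈ D.lagC) (ha : a ∈ D.lagW) : Commute x a :=
  (Subgroup.mem_centralizer_iff.1 hx.2 a ha).symm

theorem Pre.lagW_le_C : D.lagW ≤ D.lagC := fun a ha =>
  ⟨D.Q_le ha.1, Subgroup.mem_centralizer_iff.2 fun b hb => (D.lagW_comm hb ha).eq⟩

theorem Pre.lagC_Q : D.lagC ⊓ Q = D.lagW := by
  refine le_antisymm (fun a ha => ?_) fun a ha => ⟨D.lagW_le_C ha, ha.1⟩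
  set S : Set G := insert a (D.lagW : Set G)
  have hSc : ∀ x ∈ S, ∀ y ∈ S, Commute x y := by
    rintro x (rfl | hx) y (rfl | hy)
    exacts [Commute.refl _, D.lagC_comm_W ha.1 hy, (D.lagC_comm_W ha.1 hx).symm, D.lagW_comm hx hy]
  have hS1 : Subgroup.closure S ≤ Subgroup.centralizer S :=
    (Subgroup.closure_le _).2 fun x hx => Subgroup.mem_centralizer_iff.2 fun y hy => (hSc y hy x hx).eq
  have hcl : ∀ x ∈ Subgroup.closure S, ∀ y ∈ Subgroup.closure S, Commute x y := by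
    have hS2 : Subgroup.closure S ≤ Subgroup.centralizer (Subgroup.closure S : Set G) :=
      (Subgroup.closure_le _).2 fun x hx => Subgroup.mem_centralizer_iff.2 fun y hy =>
        (Subgroup.mem_centralizer_iff.1 (hS1 hy) x hx).symm
    exact fun x hx y hy => (Subgroup.mem_centralizer_iff.1 (hS2 hx) y hy).symm
  have hle : D.lagW ≤ Subgroup.closure S := fun x hx => Subgroup.subset_closure (Or.inr hx)
  have h := card_abelian_le D.ctx D.cardQ (A := Subgroup.closure S)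
    ((Subgroup.closure_le _).2 (by rintro x (rfl | hx); exacts [ha.2, hx.1])) hcl
  rw [← D.card_lagW] at h
  exact (Subgroup.eq_of_le_of_card_ge hle h).symm ▸ Subgroup.subset_closure (Or.inl rfl)

theorem Pre.lag_pointwise {m : ↥D.M} (hm : (m : G) ∈ D.lagC) : ∀ x ∈ fixSet D.c, D.π m • x = x := by
  intro x hx
  obtain ⟨a, ha, rfl⟩ := D.cl_surj x
  rw [← D.π_cl m a ha, (D.lagC_comm_W hm ⟨ha, hx⟩).eq, mul_inv_cancel_right]

/-- The unitary elements fixing the space pointwise. -/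
noncomputable def Pre.lagK : Subgroup ↥D.M where
  carrier := {m | ∀ x ∈ fixSet D.c, D.π m • x = x}
  one_mem' := fun x _ => by rw [map_one, one_smul]
  mul_mem' := fun {a b} ha hb x hx => by rw [map_mul, mul_smul, hb x hx, ha x hx]
  inv_mem' := fun {a} ha x hx => by rw [map_inv, inv_smul_eq_iff, ha x hx]

theorem Pre.lagK_image : ((D.lagK.map D.π : Subgroup G6) : Set G6) = fourSet D.c := by
  have := finite_G6
  have hL := lagFacts D.c_lt
  have hsq : ∀ g ∈ D.lagK.map D.π, g * g = 1 := by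
    rintro _ ⟨m, hm, rfl⟩
    exact fixer_sq D.c_lt hm
  have hsub : fourSet D.c ⊆ ((D.lagK.map D.π : Subgroup G6) : Set G6) := fun g hg => by
    obtain ⟨m, rfl⟩ := D.exists_pre (hL.four_le g hg)
    exact ⟨m, fun x hx => hL.four_fix _ hg x hx, rfl⟩
  have h := image_le_sixteen D.c_lt (E := D.lagK.map D.π) (by rintro _ ⟨m, -, rfl⟩; exact D.π_mem m) hsq
  refine (Set.eq_of_subset_of_ncard_le hsub ?_ (Set.toFinite _)).symm
  rw [hL.four_card]
  exact h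

theorem Pre.card_lagK : Nat.card ↥D.lagK = 2 ^ 17 := by
  let f := D.π.comp D.lagK.subtype
  have h := f.ker.card_mul_index
  rw [Subgroup.index_ker, show f.range = D.lagK.map D.π by rw [MonoidHom.range_comp, Subgroup.range_subtype]] at h
  have hk : Nat.card ↥f.ker = 2 ^ 13 := by
    rw [← D.cardQ]
    exact Nat.card_congr
      { toFun := fun m => ⟨((m : ↥D.lagK) : ↥D.M), (D.π_ker _).1 m.2⟩
        invFun := fun a => ⟨⟨⟨a, D.Q_le a.2⟩, fun x _ => by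
          rw [(D.π_ker ⟨a, D.Q_le a.2⟩).2 a.2, one_smul]⟩, (D.π_ker _).2 a.2⟩
        left_inv := fun _ => rfl
        right_inv := fun _ => rfl }
  have hi : Nat.card ↥(D.lagK.map D.π) = 16 := by
    show ((D.lagK.map D.π : Subgroup G6) : Set G6).ncard = 16
    rw [D.lagK_image, (lagFacts D.c_lt).four_card]
  rw [← h, hk, hi]
  norm_num

theorem Pre.card_lagC_ge : 2 ^ 11 ≤ Nat.card ↥D.lagC := by
  classical
  have hL := lagFacts D.c_lt
  choose a haQ hac using fun i : Fin 6 => D.cl_surj (lagVec D.c i)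
  have haW : ∀ i, a i ∈ D.lagW := fun i => ⟨haQ i, (hac i).symm ▸ hL.basis_mem i⟩
  set S := (D.lagC.subgroupOf D.M).subgroupOf D.lagK
  let χ : ↥D.lagK → Fin 6 → Bool := fun m i => decide ((m : G) * a i * (m : G)⁻¹ = a i)
  have hmv : ∀ (m : ↥D.lagK) {b : G}, b ∈ D.lagW → (m : G) * b * (m : G)⁻¹ = b ∨ (m : G) * b * (m : G)⁻¹ = z * b :=
    fun m b hb => (D.cl_eq b hb.1 _ (conj_mem D.ctx (D.m_comm _) hb.1)).1 (by
      rw [D.π_cl _ _ hb.1]; exact (m.2 _ hb.2).symm)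
  have key : ∀ m m' : ↥D.lagK, χ m = χ m' → ∀ x ∈ fixSet D.c, ∀ b ∈ Q, D.cl b = x →
      (m : G) * b * (m : G)⁻¹ = (m' : G) * b * (m' : G)⁻¹ := by
    intro m m' e
    have hz : ∀ k : ↥D.lagK, (k : G) * z * (k : G)⁻¹ = z := fun k => by
      rw [(D.m_comm (k : ↥D.M)).eq, mul_inv_cancel_right]
    have hzm : ∀ (k : ↥D.lagK) (b : G), (k : G) * (z * b) * (k : G)⁻¹ = z * ((k : G) * b * (k : G)⁻¹) :=
      fun k b => by
        calc (k : G) * (z * b) * (k : G)⁻¹ = (k : G) * z * (k : G)⁻¹ * ((k : G) * b * (k : G)⁻¹) := by group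
          _ = _ := by rw [hz]
    refine hL.basis _ (fun b hb hb0 => ?_) (fun x y hx hy b hb hbxy => ?_) fun i b hb hbi => ?_
    · rcases (D.cl_eq 1 (one_mem _) b hb).1 (by rw [D.cl_one, hb0]) with rfl | rfl
      · simp
      · rw [mul_one, hz, hz]
    · obtain ⟨u, hu, rfl⟩ := D.cl_surj x
      obtain ⟨w, hw, rfl⟩ := D.cl_surj y
      have hm : (m : G) * (u * w) * (m : G)⁻¹ = (m' : G) * (u * w) * (m' : G)⁻¹ := by
        rw [show (m : G) * (u * w) * (m : G)⁻¹ = (m : G) * u * (m : G)⁻¹ * ((m : G) * w * (m : G)⁻¹) by group,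
          hx u hu rfl, hy w hw rfl]
        group
      rcases (D.cl_eq _ (mul_mem hu hw) b hb).1 (by rw [D.cl_mul u hu w hw, hbxy]) with rfl | rfl
      · exact hm
      · rw [hzm, hzm, hm]
    · have hai : (m : G) * a i * (m : G)⁻¹ = (m' : G) * a i * (m' : G)⁻¹ := by
        have h : ((m : G) * a i * (m : G)⁻¹ = a i ↔ (m' : G) * a i * (m' : G)⁻¹ = a i) :=
          decide_eq_decide.1 (congrFun e i)
        rcases hmv m (haW i) with h1 | h1
        · rw [h1, h.1 h1]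
        · rcases hmv m' (haW i) with h2 | h2
          · rw [h2, h.2 h2]
          · rw [h1, h2]
      rcases (D.cl_eq _ (haQ i) b hb).1 (by rw [hac, hbi]) with rfl | rfl
      · exact hai
      · rw [hzm, hzm, hai]
  have hidx : S.index ≤ 64 := by
    let rep : ↥D.lagK ⧸ S → ↥D.lagK := Quotient.out
    refine (Nat.card_le_card_of_injective (fun q => χ (rep q)) fun q q' e => ?_).trans
      (by rw [Nat.card_fun, Nat.card_eq_fintype_card (α := Bool), Nat.card_fin, Fintype.card_bool]; norm_num)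
    rw [← Quotient.out_eq q, ← Quotient.out_eq q']
    refine QuotientGroup.eq.2 ?_
    refine ⟨((rep q)⁻¹ * rep q' : ↥D.lagK).1.2, Subgroup.mem_centralizer_iff.2 fun b hb => ?_⟩
    have h := key _ _ e _ (show D.cl b ∈ fixSet D.c from hb.2) b hb.1 rfl
    show b * (((rep q : ↥D.M) : G)⁻¹ * ((rep q' : ↥D.M) : G)) =
      ((rep q : ↥D.M) : G)⁻¹ * ((rep q' : ↥D.M) : G) * b
    calc b * (((rep q : ↥D.M) : G)⁻¹ * ((rep q' : ↥D.M) : G))
        = ((rep q : ↥D.M) : G)⁻¹ * (((rep q : ↥D.M) : G) * b * ((rep q : ↥D.M) : G)⁻¹) * ((rep q' : ↥D.M) : G) := by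
          group
      _ = _ := by rw [show ((rep q : ↥D.M) : G) * b * ((rep q : ↥D.M) : G)⁻¹ = _ from h]; group
  have hS : Nat.card ↥S ≤ Nat.card ↥D.lagC := Nat.card_le_card_of_injective
    (fun m => (⟨(((m : ↥D.lagK) : ↥D.M) : G), m.2⟩ : ↥D.lagC))
    fun m m' e => Subtype.ext (Subtype.ext (Subtype.ext (congrArg (fun x : ↥D.lagC => (x : G)) e)))
  have h := S.card_mul_index
  rw [D.card_lagK] at h
  have := Nat.mul_le_mul hS hidx
  rw [h] at this
  omega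

theorem Pre.lagC_image : Nat.card ↥D.lagC = 2 ^ 11 ∧
    (∀ g ∈ fourSet D.c, ∃ m : ↥D.M, (m : G) ∈ D.lagC ∧ D.π m = g) ∧
    (∀ m : ↥D.M, (m : G) ∈ D.lagC → D.π m ∈ fourSet D.c) := by
  have := finite_G6
  let C' := D.lagC.subgroupOf D.M
  have hsub : ((C'.map D.π : Subgroup G6) : Set G6) ⊆ fourSet D.c := by
    rw [← D.lagK_image]
    rintro _ ⟨m, hm, rfl⟩
    exact ⟨m, D.lag_pointwise hm, rfl⟩
  let f := D.π.comp C'.subtype
  have h := f.ker.card_mul_index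
  rw [Subgroup.index_ker, show f.range = C'.map D.π by rw [MonoidHom.range_comp, Subgroup.range_subtype]] at h
  have hk : Nat.card ↥f.ker = 128 := by
    rw [← D.card_lagW, ← D.lagC_Q]
    exact Nat.card_congr
      { toFun := fun m => ⟨(((m : ↥C') : ↥D.M) : G), (m : ↥C').2, (D.π_ker _).1 m.2⟩
        invFun := fun a => ⟨⟨⟨a, a.2.1.1⟩, a.2.1⟩, (D.π_ker _).2 a.2.2⟩
        left_inv := fun _ => rfl
        right_inv := fun _ => rfl }
  have hc : Nat.card ↥C' = Nat.card ↥D.lagC := Nat.card_congr (Subgroup.subgroupOfEquivOfLe inf_le_left).toEquiv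
  have h16 : Nat.card ↥(C'.map D.π) ≤ 16 := by
    show ((C'.map D.π : Subgroup G6) : Set G6).ncard ≤ 16
    rw [← (lagFacts D.c_lt).four_card]
    exact Set.ncard_le_ncard hsub (Set.toFinite _)
  have hge := D.card_lagC_ge
  rw [hk, hc] at h
  have e16 : Nat.card ↥(C'.map D.π) = 16 := by omega
  have heq : ((C'.map D.π : Subgroup G6) : Set G6) = fourSet D.c := Set.eq_of_subset_of_ncard_le hsub (by
    rw [(lagFacts D.c_lt).four_card]; exact e16.ge) (Set.toFinite _)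
  refine ⟨by rw [← h, e16]; norm_num, fun g hg => ?_, fun m hm => hsub ⟨m, hm, rfl⟩⟩
  rw [← heq] at hg
  obtain ⟨m, hm, e⟩ := hg
  exact ⟨m, hm, e⟩

theorem Pre.exists_three : ∃ n : ↥D.M, D.π n = Zc ∧ (n : G) * n * n = 1 := by
  obtain ⟨n, hn⟩ := D.exists_pre (Zc_mem D.c)
  have h3 : Zc * Zc * Zc = 1 := by
    rw [← pow_three', show (3 : ℕ) = orderOf Zc by rw [← Nat.card_zpowers]; exact card_C6.symm, pow_orderOf_eq_one]
  have hq : (n : G) * n * n ∈ Q := (D.π_ker (n * n * n)).1 (by rw [map_mul, map_mul, hn, h3])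
  refine ⟨n * n * n * n, by rw [map_mul, map_mul, map_mul, hn, h3, one_mul], ?_⟩
  show (n : G) * n * n * n * ((n : G) * n * n * n) * ((n : G) * n * n * n) = 1
  have h4 : (n : G) * n * n * ((n : G) * n * n) * ((n : G) * n * n * ((n : G) * n * n)) = 1 := by
    rcases D.ctx.sq _ hq with e | e <;> rw [e]
    · exact one_mul 1
    · exact D.ctx.sq_z
  rw [← h4]
  group

theorem Pre.lag_norm {m : ↥D.M} (hm : ∀ x ∈ fixSet D.c, D.π m • x ∈ fixSet D.c) :
    (∀ a ∈ D.lagW, (m : G) * a * (m : G)⁻¹ ∈ D.lagW) ∧ ∀ x ∈ D.lagC, (m : G) * x * (m : G)⁻¹ ∈ D.lagC := by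
  have h1 : ∀ a ∈ D.lagW, (m : G) * a * (m : G)⁻¹ ∈ D.lagW := fun a ha =>
    ⟨conj_mem D.ctx (D.m_comm m) ha.1, by rw [D.π_cl m a ha.1]; exact hm _ ha.2⟩
  have h2 : ∀ a ∈ D.lagW, ∃ b ∈ D.lagW, (m : G) * b * (m : G)⁻¹ = a := by
    intro a ha
    have hinj : Function.Injective fun b : ↥D.lagW => (⟨(m : G) * b * (m : G)⁻¹, h1 b b.2⟩ : ↥D.lagW) :=
      fun b b' e => Subtype.ext (mul_left_cancel (mul_right_cancel (congrArg Subtype.val e)))
    obtain ⟨b, hb⟩ := Finite.surjective_of_injective hinj ⟨a, ha⟩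
    exact ⟨b, b.2, congrArg Subtype.val hb⟩
  refine ⟨h1, fun x hx => ⟨D.M.mul_mem (D.M.mul_mem m.2 hx.1) (D.M.inv_mem m.2),
    Subgroup.mem_centralizer_iff.2 fun a ha => ?_⟩⟩
  obtain ⟨b, hb, rfl⟩ := h2 a ha
  exact ((Commute.conj_iff (m : G)).2 (D.lagC_comm_W hx hb).symm).eq

theorem Pre.lagC_sq01 {x : G} (hx : x ∈ D.lagC) : x * x = 1 ∨ x * x = z := by
  obtain ⟨n, hnπ, hn3⟩ := D.exists_three
  have hnfix : ∀ x ∈ fixSet D.c, D.π n • x ∈ fixSet D.c := fun x hx => by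
    rw [hnπ, Zc_smul]; exact (lagFacts D.c_lt).scal _ x hx
  have hxM := hx.1
  set nx := (n : G) * x * (n : G)⁻¹ with hnx
  set w := x⁻¹ * nx with hw
  have hwW : w ∈ D.lagW := by
    rw [← D.lagC_Q]
    refine ⟨D.lagC.mul_mem (D.lagC.inv_mem hx) ((D.lag_norm hnfix).2 x hx), ?_⟩
    refine (D.π_ker ⟨w, D.M.mul_mem (D.M.inv_mem hxM) ((D.lag_norm hnfix).2 x hx).1⟩).1 ?_
    rw [show (⟨w, D.M.mul_mem (D.M.inv_mem hxM) ((D.lag_norm hnfix).2 x hx).1⟩ : ↥D.M) =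
      ⟨x, hxM⟩⁻¹ * (n * ⟨x, hxM⟩ * n⁻¹) from rfl, map_mul, map_mul, map_mul, map_inv, map_inv, hnπ, Zc_comm,
      mul_inv_cancel_right, inv_mul_cancel]
  set w1 := (n : G) * w * (n : G)⁻¹
  set w2 := (n : G) * w1 * (n : G)⁻¹
  have hw1 : w1 ∈ D.lagW := (D.lag_norm hnfix).1 w hwW
  have hw2 : w2 ∈ D.lagW := (D.lag_norm hnfix).1 w1 hw1
  have hnxw : nx = x * w := by rw [hw, mul_inv_cancel_left]
  have hsum : w * w1 * w2 = 1 := by
    have e2 : (n : G) * (n * x * (n : G)⁻¹) * (n : G)⁻¹ = x * w * w1 := by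
      rw [← hnx, hnxw, show (n : G) * (x * w) * (n : G)⁻¹ = n * x * (n : G)⁻¹ * ((n : G) * w * (n : G)⁻¹) by group,
        ← hnx, hnxw]
    have e3 : (n : G) * ((n : G) * (n * x * (n : G)⁻¹) * (n : G)⁻¹) * (n : G)⁻¹ = x := by
      rw [show (n : G) * ((n : G) * (n * x * (n : G)⁻¹) * (n : G)⁻¹) * (n : G)⁻¹ =
        n * n * n * x * ((n : G) * n * n)⁻¹ by group, hn3, one_mul, inv_one, mul_one]
    rw [e2, show (n : G) * (x * w * w1) * (n : G)⁻¹ =
      n * x * (n : G)⁻¹ * ((n : G) * w * (n : G)⁻¹) * ((n : G) * w1 * (n : G)⁻¹) by group, ← hnx, hnxw] at e3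
    have e4 : x * w * w1 * w2 = x := e3
    exact mul_left_cancel (a := x) (by simpa only [mul_one, mul_assoc] using e4)
  set x' := x * w1
  have hfixx : (n : G) * x' * (n : G)⁻¹ = x' := by
    show (n : G) * (x * w1) * (n : G)⁻¹ = x * w1
    rw [show (n : G) * (x * w1) * (n : G)⁻¹ = n * x * (n : G)⁻¹ * ((n : G) * w1 * (n : G)⁻¹) by group, ← hnx,
      hnxw, mul_assoc]
    congr 1
    show w * w2 = w1
    calc w * w2 = w1 * (w * w1 * w2) := by
          rw [← mul_assoc w1, ← mul_assoc w1, (D.lagW_comm hw1 hwW).eq, mul_assoc w w1 w1, D.lagW_sq hw1, mul_one]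
      _ = w1 := by rw [hsum, mul_one]
  have hsqe : x' * x' = x * x := by
    show x * w1 * (x * w1) = x * x
    rw [mul_assoc, ← mul_assoc w1, ← (D.lagC_comm_W hx hw1).eq, mul_assoc x w1 w1, D.lagW_sq hw1, mul_one]
  have hxx : x * x ∈ D.lagW := by
    rw [← D.lagC_Q]
    refine ⟨mul_mem hx hx, (D.π_ker ⟨x * x, mul_mem hxM hxM⟩).1 ?_⟩
    rw [show (⟨x * x, mul_mem hxM hxM⟩ : ↥D.M) = ⟨x, hxM⟩ * ⟨x, hxM⟩ from rfl, map_mul]
    exact fixer_sq D.c_lt (D.lag_pointwise (m := ⟨x, hxM⟩) hx)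
  have hfix2 : (n : G) * (x * x) * (n : G)⁻¹ = x * x := by
    rw [← hsqe, show (n : G) * (x' * x') * (n : G)⁻¹ = n * x' * (n : G)⁻¹ * ((n : G) * x' * (n : G)⁻¹) by group,
      hfixx]
  have hy : D.cl (x * x) = 0 := by
    have h := D.π_cl n _ hxx.1
    rw [hfix2, hnπ, Zc_smul] at h
    have h2 : (om + 1) • D.cl (x * x) = 0 := by rw [add_smul, one_smul, ← h, v6_add_self]
    exact (smul_eq_zero.1 h2).resolve_left tau_om.2.2.1
  rcases (D.cl_eq 1 (one_mem _) _ hxx.1).1 (by rw [D.cl_one, hy]) with e | e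
  · exact Or.inl e
  · exact Or.inr (e.trans (mul_one z))

theorem Pre.lag_lift {x y : G} (hx : x ∈ D.lagC) (hy : y ∈ D.lagC)
    (e : D.π ⟨x, hx.1⟩ = D.π ⟨y, hy.1⟩) : x * x = y * y := by
  have hw : y⁻¹ * x ∈ D.lagW := by
    rw [← D.lagC_Q]
    refine ⟨D.lagC.mul_mem (D.lagC.inv_mem hy) hx, (D.π_ker ⟨y⁻¹ * x, D.M.mul_mem (D.M.inv_mem hy.1) hx.1⟩).1 ?_⟩
    rw [show (⟨y⁻¹ * x, D.M.mul_mem (D.M.inv_mem hy.1) hx.1⟩ : ↥D.M) = ⟨y, hy.1⟩⁻¹ * ⟨x, hx.1⟩ from rfl,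
      map_mul, map_inv, e, inv_mul_cancel]
  obtain ⟨w, hwW, rfl⟩ : ∃ w ∈ D.lagW, x = y * w := ⟨_, hw, (mul_inv_cancel_left y x).symm⟩
  rw [mul_assoc, ← mul_assoc w, ← (D.lagC_comm_W hy hwW).eq, mul_assoc y w w, D.lagW_sq hwW, mul_one]

theorem Pre.lag_square : ∃ s, (s = 1 ∨ s = z) ∧
    ∀ (x : G) (hx : x ∈ D.lagC), D.π ⟨x, hx.1⟩ ≠ 1 → x * x = s := by
  obtain ⟨-, hsurj, himg⟩ := D.lagC_image
  obtain ⟨hnrm, hcov⟩ := nrm_facts D.c_lt
  obtain ⟨-, hfe, hidx⟩ := fourEl_facts D.c_lt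
  obtain ⟨m1, hm1, hm1e⟩ := hsurj _ (hfe 1 (by norm_num))
  refine ⟨(m1 : G) * m1, D.lagC_sq01 hm1, fun x hx hne => ?_⟩
  obtain ⟨i, hi, hi0, hxe⟩ := hidx _ (himg ⟨x, hx.1⟩ hx) hne
  refine ((hcov (fun j => j < 16 ∧ ∀ (x : G) (hx : x ∈ D.lagC), D.π ⟨x, hx.1⟩ = fourEl D.c j →
    x * x = (m1 : G) * m1) ⟨by norm_num, fun x hx hxe => D.lag_lift hx hm1 (hxe.trans hm1e.symm)⟩
    (fun k hk j hj => ?_) i hi).resolve_left hi0).2 x hx hxe
  obtain ⟨g, hg, hgfix, hperm⟩ := hnrm k hk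
  obtain ⟨j', hj', hje, hcj⟩ := hperm j hj.1
  rw [hje]
  refine ⟨hj', fun y hy hye => ?_⟩
  obtain ⟨x0, hx0, hx0e⟩ := hsurj _ (hfe j hj.1)
  obtain ⟨mg, rfl⟩ := D.exists_pre hg
  have hcC := (D.lag_norm hgfix).2 _ hx0
  have e1 : D.π ⟨(mg : G) * x0 * (mg : G)⁻¹, hcC.1⟩ = fourEl D.c j' := by
    have ej : fourEl D.c j = sy D.c ((syl D.c).four.getD j 0) := by rw [fourEl]
    have ej' : fourEl D.c j' = sy D.c ((syl D.c).four.getD j' 0) := by rw [fourEl]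
    exact hom_conj D.π hx0e ej.symm ej'.symm hcj
  rw [D.lag_lift hy hcC (hye.trans e1.symm),
    show (mg : G) * x0 * (mg : G)⁻¹ * ((mg : G) * x0 * (mg : G)⁻¹) = (mg : G) * ((x0 : G) * x0) * (mg : G)⁻¹ by group,
    hj.2 _ hx0 hx0e]
  rcases D.lagC_sq01 hm1 with e | e <;> rw [e]
  · group
  · rw [(D.m_comm mg).eq, mul_inv_cancel_right]

/-- The subgroup is elementary abelian. -/
theorem Pre.lagC_elem : ∀ x ∈ D.lagC, x * x = 1 := by
  have := finite_G6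
  have hL := lagFacts D.c_lt
  obtain ⟨-, hsurj, himg⟩ := D.lagC_image
  obtain ⟨s, hs, hall⟩ := D.lag_square
  rcases hs with hs | hs <;> rw [hs] at hall
  · intro x hx
    by_cases h : D.π ⟨x, hx.1⟩ = 1
    · rw [D.lag_lift hx (one_mem _) (h.trans (map_one _).symm), one_mul]
    · exact hall x hx h
  · exfalso
    have pick : ∀ S : Finset G6, S.card < 16 → ∃ g ∈ fourSet D.c, g ∉ S := by
      intro S hS
      by_contra hcon
      push Not at hcon
      have := Set.ncard_le_ncard (show fourSet D.c ⊆ ↑S from hcon) S.finite_toSet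
      rw [hL.four_card, Set.ncard_coe_finset] at this
      omega
    classical
    obtain ⟨ga, hga, ha1⟩ := pick {1} (by simp)
    obtain ⟨gb, hgb, hb1⟩ := pick {1, ga} (by have := Finset.card_insert_le (1 : G6) {ga}; simp at this ⊢; omega)
    obtain ⟨gc, hgc, hc1⟩ := pick {1, ga, gb, ga * gb} (by
      have := Finset.card_le_four (a := (1 : G6)) (b := ga) (c := gb) (d := ga * gb)
      omega)
    obtain ⟨⟨a, haM⟩, ha, hae⟩ := hsurj _ hga
    obtain ⟨⟨b, hbM⟩, hb, hbe⟩ := hsurj _ hgb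
    obtain ⟨⟨c, hcM⟩, hc, hce⟩ := hsurj _ hgc
    simp only [Finset.mem_insert, Finset.mem_singleton, not_or] at ha1 hb1 hc1
    have hsqg : ∀ g ∈ fourSet D.c, g * g = 1 := fun g hg => fixer_sq D.c_lt (hL.four_fix g hg)
    have hm : ∀ {x y : G} (hx : x ∈ D.M) (hy : y ∈ D.M),
        D.π ⟨x * y, mul_mem hx hy⟩ = D.π ⟨x, hx⟩ * D.π ⟨y, hy⟩ := fun hx hy => map_mul D.π ⟨_, hx⟩ ⟨_, hy⟩
    refine no_anticommute (G := ↥D.lagC) (z := ⟨z, D.lagW_le_C D.z_lagW⟩)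
      (fun e => D.ctx.ne_one (congrArg Subtype.val e))
      (fun x => Subtype.ext (D.lagC_comm_W x.2 D.z_lagW).symm.eq) (Subtype.ext D.ctx.sq_z)
      (a := ⟨a, ha⟩) (b := ⟨b, hb⟩) (c := ⟨c, hc⟩) fun u hu => Subtype.ext ?_
    refine hall _ u.2 ?_
    simp only [List.mem_cons, List.not_mem_nil, or_false] at hu
    rcases hu with rfl | rfl | rfl | rfl | rfl | rfl | rfl
    · show D.π ⟨a, _⟩ ≠ 1; rw [hae]; exact ha1
    · show D.π ⟨b, _⟩ ≠ 1; rw [hbe]; exact hb1.1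
    · show D.π ⟨c, _⟩ ≠ 1; rw [hce]; exact hc1.1
    · show D.π ⟨a * b, mul_mem ha.1 hb.1⟩ ≠ 1
      rw [hm ha.1 hb.1, hae, hbe]
      exact fun e => hb1.2 (g6_self (hsqg _ hga) e)
    · show D.π ⟨a * c, mul_mem ha.1 hc.1⟩ ≠ 1
      rw [hm ha.1 hc.1, hae, hce]
      exact fun e => hc1.2.1 (g6_self (hsqg _ hga) e)
    · show D.π ⟨b * c, mul_mem hb.1 hc.1⟩ ≠ 1
      rw [hm hb.1 hc.1, hbe, hce]
      exact fun e => hc1.2.2.1 (g6_self (hsqg _ hgb) e)
    · show D.π ⟨a * (b * c), mul_mem ha.1 (mul_mem hb.1 hc.1)⟩ ≠ 1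
      rw [hm ha.1 (mul_mem hb.1 hc.1), hm hb.1 hc.1, hae, hbe, hce]
      intro e
      have e' : gb * gc = ga := g6_self (hsqg _ hga) e
      have hcomm : ga * gb = gb * ga := (commute_of_sq (hsqg _ hga) (hsqg _ hgb) (by
        have hab := himg ⟨a * b, mul_mem ha.1 hb.1⟩ (mul_mem ha hb)
        rw [hm ha.1 hb.1, hae, hbe] at hab
        exact hsqg _ hab)).eq
      exact hc1.2.2.2 (g6_last (hsqg _ hgb) hcomm e')

theorem Pre.lagC_comm {x y : G} (hx : x ∈ D.lagC) (hy : y ∈ D.lagC) : Commute x y :=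
  commute_of_sq (D.lagC_elem x hx) (D.lagC_elem y hy) (D.lagC_elem _ (mul_mem hx hy))

theorem Pre.lagC_inv {x : G} (hx : x ∈ D.lagC) : x⁻¹ = x := inv_eq_of_mul_eq_one_left (D.lagC_elem x hx)

theorem Pre.Q_norm {q : G} (hq : q ∈ Q) : ∀ x ∈ D.lagC, q * x * q⁻¹ ∈ D.lagC :=
  (D.lag_norm (m := ⟨q, D.Q_le hq⟩) fun x hx => by rw [(D.π_ker _).2 hq, one_smul]; exact hx).2

/-- An element of order three fixing every image. -/
noncomputable def Pre.three : ↥D.M := D.exists_three.choose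

theorem Pre.three_spec : D.π D.three = Zc ∧ (D.three : G) * D.three * D.three = 1 := D.exists_three.choose_spec

theorem Pre.three_norm : (∀ a ∈ D.lagW, (D.three : G) * a * (D.three : G)⁻¹ ∈ D.lagW) ∧
    ∀ x ∈ D.lagC, (D.three : G) * x * (D.three : G)⁻¹ ∈ D.lagC :=
  D.lag_norm fun x hx => by rw [D.three_spec.1, Zc_smul]; exact (lagFacts D.c_lt).scal _ x hx

theorem Pre.cl_three {q : G} (hq : q ∈ Q) : D.cl ((D.three : G) * q * (D.three : G)⁻¹) = om • D.cl q := by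
  rw [D.π_cl D.three q hq, D.three_spec.1, Zc_smul]

/-- Each image of the subgroup has a lift fixed by the element of order three. -/
theorem Pre.exists_fixed {a : G} (ha : a ∈ D.lagC) : ∃ x : G, ∃ hx : x ∈ D.lagC,
    D.π ⟨x, hx.1⟩ = D.π ⟨a, ha.1⟩ ∧ (D.three : G) * x * (D.three : G)⁻¹ = x := by
  set n := (D.three : G) with hn
  have h1 : n * a * n⁻¹ ∈ D.lagC := D.three_norm.2 a ha
  have h2 : n * (n * a * n⁻¹) * n⁻¹ ∈ D.lagC := D.three_norm.2 _ h1
  refine ⟨a * (n * a * n⁻¹) * (n * (n * a * n⁻¹) * n⁻¹), mul_mem (mul_mem ha h1) h2, ?_, ?_⟩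
  · have e : (⟨a * (n * a * n⁻¹) * (n * (n * a * n⁻¹) * n⁻¹), (mul_mem (mul_mem ha h1) h2).1⟩ : ↥D.M) =
        ⟨a, ha.1⟩ * (D.three * ⟨a, ha.1⟩ * D.three⁻¹) *
          (D.three * D.three * ⟨a, ha.1⟩ * (D.three * D.three)⁻¹) := by
      refine Subtype.ext ?_
      show a * (n * a * n⁻¹) * (n * (n * a * n⁻¹) * n⁻¹) = a * (n * a * n⁻¹) * (n * n * a * (n * n)⁻¹)
      group
    rw [e]
    simp only [map_mul, map_inv, D.three_spec.1]
    refine g6_three ?_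
    rw [← map_mul, show (⟨a, ha.1⟩ * ⟨a, ha.1⟩ : ↥D.M) = 1 from Subtype.ext (D.lagC_elem a ha), map_one]
  · have e3 : n * (n * (n * a * n⁻¹) * n⁻¹) * n⁻¹ = a := by
      rw [show n * (n * (n * a * n⁻¹) * n⁻¹) * n⁻¹ = n * n * n * a * (n * n * n)⁻¹ by group, hn,
        D.three_spec.2]
      group
    calc n * (a * (n * a * n⁻¹) * (n * (n * a * n⁻¹) * n⁻¹)) * n⁻¹
        = n * a * n⁻¹ * (n * (n * a * n⁻¹) * n⁻¹) * (n * (n * (n * a * n⁻¹) * n⁻¹) * n⁻¹) := by group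
      _ = n * a * n⁻¹ * (n * (n * a * n⁻¹) * n⁻¹) * a := by rw [e3]
      _ = _ := by rw [(D.lagC_comm (mul_mem h1 h2) ha).eq, ← mul_assoc]

/-- Elements of the same image differ by the part in the extraspecial group. -/
theorem Pre.exists_part {a x : G} (ha : a ∈ D.lagC) (hx : x ∈ D.lagC)
    (e : D.π ⟨a, ha.1⟩ = D.π ⟨x, hx.1⟩) : ∃ w ∈ D.lagW, a = x * w := by
  refine ⟨x⁻¹ * a, ?_, (mul_inv_cancel_left x a).symm⟩
  rw [← D.lagC_Q]
  refine ⟨D.lagC.mul_mem (D.lagC.inv_mem hx) ha, (D.π_ker ⟨x⁻¹ * a, D.M.mul_mem (D.M.inv_mem hx.1) ha.1⟩).1 ?_⟩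
  rw [show (⟨x⁻¹ * a, D.M.mul_mem (D.M.inv_mem hx.1) ha.1⟩ : ↥D.M) = ⟨x, hx.1⟩⁻¹ * ⟨a, ha.1⟩ from rfl, map_mul,
    map_inv, e, inv_mul_cancel]

theorem Pre.π_mul_W {x w : G} (hx : x ∈ D.lagC) (hw : w ∈ D.lagW) :
    D.π ⟨x * w, D.M.mul_mem hx.1 (D.Q_le hw.1)⟩ = D.π ⟨x, hx.1⟩ := by
  rw [show (⟨x * w, D.M.mul_mem hx.1 (D.Q_le hw.1)⟩ : ↥D.M) = ⟨x, hx.1⟩ * ⟨w, D.Q_le hw.1⟩ from rfl, map_mul,
    (D.π_ker ⟨w, D.Q_le hw.1⟩).2 hw.1, mul_one]

/-- The unitary part of a two-group moves into the Sylow subgroup of the model. -/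
theorem Pre.exists_move_syl {T : Subgroup G} (hT : IsPGroup 2 ↥T) :
    ∃ m : ↥D.M, ∀ k : ↥D.M, (m : G)⁻¹ * k * m ∈ T → D.π k ∈ sylSub D.c_lt := by
  have := finite_G6
  have h2 : IsPGroup 2 ↥((T.subgroupOf D.M).map D.π) :=
    (hT.comap_of_injective D.M.subtype D.M.subtype_injective).map D.π
  obtain ⟨g, hg, hgk⟩ := two_le_syl D.c_lt (R := (T.subgroupOf D.M).map D.π)
    (by rintro _ ⟨m, -, rfl⟩; exact D.π_mem m) h2
  obtain ⟨m, rfl⟩ := D.exists_pre hg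
  refine ⟨m, fun k hk => ?_⟩
  have h := hgk _ ⟨m⁻¹ * k * m, hk, rfl⟩
  rwa [← map_inv, ← map_mul, ← map_mul, show m * (m⁻¹ * k * m) * m⁻¹ = k by group] at h

theorem Pre.lagC_two : IsPGroup 2 ↥D.lagC := fun x =>
  ⟨1, Subtype.ext (by rw [pow_one, pow_two]; exact D.lagC_elem x x.2)⟩

section

variable {i : ℕ} {x : G} (hx : x ∈ D.lagC) (hπ : D.π ⟨x, hx.1⟩ = fourEl D.c i)
  (hfix : (D.three : G) * x * (D.three : G)⁻¹ = x)

include hx hπ

theorem Pre.cl_commutator {q : G} (hq : q ∈ Q) :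
    D.cl (x * q * x⁻¹) = fourEl D.c i • D.cl q ∧ x * q * x⁻¹ ∈ Q := by
  refine ⟨?_, conj_mem D.ctx (D.m_comm ⟨x, hx.1⟩) hq⟩
  rw [← hπ]
  exact D.π_cl ⟨x, hx.1⟩ q hq

include hfix

/-- Elements with fixed coordinates commute with the fixed lift. -/
theorem Pre.commute_of_fixed {q : G} (hq : q ∈ Q) (hg : fourEl D.c i • D.cl q = D.cl q) : Commute x q := by
  obtain ⟨h1, h2⟩ := D.cl_commutator hx hπ hq
  rcases (D.cl_eq q hq _ h2).1 (h1.trans hg).symm with h | h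
  · exact mul_inv_eq_iff_eq_mul.1 h
  exfalso
  set n := (D.three : G) with hn
  have hnz : Commute n z := D.m_comm D.three
  have hnc : ∀ a : G, x * (n * a * n⁻¹) * x⁻¹ = n * (x * a * x⁻¹) * n⁻¹ := fun a => by
    calc x * (n * a * n⁻¹) * x⁻¹ = n * x * n⁻¹ * (n * a * n⁻¹) * (n * x * n⁻¹)⁻¹ := by rw [hfix]
      _ = _ := by group
  set p := q * (n * q * n⁻¹) with hp
  have hq1 : n * q * n⁻¹ ∈ Q := conj_mem D.ctx hnz hq
  have hp1 : x * p * x⁻¹ = p := by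
    rw [hp, show x * (q * (n * q * n⁻¹)) * x⁻¹ = x * q * x⁻¹ * (x * (n * q * n⁻¹) * x⁻¹) by group, hnc, h,
      show n * (z * q) * n⁻¹ = n * z * n⁻¹ * (n * q * n⁻¹) by group, hnz.eq, mul_inv_cancel_right,
      (D.ctx.central q hq).eq, mul_assoc q z, ← mul_assoc z z, D.ctx.sq_z, one_mul]
  have hpQ : p ∈ Q := mul_mem hq hq1
  set p' := n * p * n⁻¹ with hp'
  have hp'1 : x * p' * x⁻¹ = p' := by rw [hp', hnc, hp1]
  have he : D.cl p' = D.cl q := by
    rw [hp', hn, D.cl_three hpQ, hp, D.cl_mul q hq _ hq1, hn, D.cl_three hq, smul_add, smul_smul, ← pow_two,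
      tau_om.2.1, add_smul, one_smul, ← add_assoc, v6_add_self, zero_add]
  have h3 : x * q * x⁻¹ = q := by
    rcases (D.cl_eq q hq _ (conj_mem D.ctx hnz hpQ)).1 he.symm with e | e
    · rw [← e]; exact hp'1
    · have hxz : Commute x z := D.m_comm ⟨x, hx.1⟩
      have e' : p' = z * q := e
      rw [e', show x * (z * q) * x⁻¹ = x * z * x⁻¹ * (x * q * x⁻¹) by group, hxz.eq, mul_inv_cancel_right]
        at hp'1
      exact mul_left_cancel hp'1
  rw [h3] at h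
  exact D.ctx.ne_one (mul_eq_right.1 h.symm)

end

/-- A two-group in the unitary part whose image lies in the Sylow subgroup of the model. -/
theorem Pre.max_elem {A : Subgroup G} (hAM : A ≤ D.M) (hc : ∀ a ∈ A, ∀ b ∈ A, Commute a b)
    (hsq : ∀ a ∈ A, a * a = 1) (hP : ∀ m : ↥D.M, (m : G) ∈ A → D.π m ∈ sylSub D.c_lt)
    (hcard : 2 ^ 11 ≤ Nat.card ↥A) : A = D.lagC := by
  classical
  have := finite_G6
  have hL := lagFacts D.c_lt
  set A1 := A ⊓ D.M with hA1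
  set Ab := (A.subgroupOf D.M).map D.π with hAb
  have hAbsq : ∀ g ∈ Ab, g * g = 1 := by
    rintro _ ⟨m, hm, rfl⟩
    rw [← map_mul, show m * m = 1 from Subtype.ext (hsq _ hm), map_one]
  have hAbP : Ab ≤ sylSub D.c_lt := by
    rintro _ ⟨m, hm, rfl⟩
    exact hP m hm
  have h16 : Nat.card ↥Ab ≤ 16 := image_le_sixteen D.c_lt (by rintro _ ⟨m, -, rfl⟩; exact D.π_mem m) hAbsq
  have hAQ : Nat.card ↥(A ⊓ Q) ≤ 128 := card_abelian_le D.ctx D.cardQ inf_le_right fun a ha b hb => hc a ha.1 b hb.1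
  have hA1c : Nat.card ↥A1 = Nat.card ↥Ab * Nat.card ↥(A ⊓ Q) := by
    let f := D.π.comp (A.subgroupOf D.M).subtype
    have h := f.ker.card_mul_index
    rw [Subgroup.index_ker, show f.range = Ab by rw [MonoidHom.range_comp, Subgroup.range_subtype]] at h
    have hk : Nat.card ↥f.ker = Nat.card ↥(A ⊓ Q) := Nat.card_congr
      { toFun := fun m => ⟨(((m : ↥(A.subgroupOf D.M)) : ↥D.M) : G), (m : ↥(A.subgroupOf D.M)).2, (D.π_ker _).1 m.2⟩
        invFun := fun a => ⟨⟨⟨a, D.Q_le a.2.2⟩, a.2.1⟩, (D.π_ker _).2 a.2.2⟩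
        left_inv := fun _ => rfl
        right_inv := fun _ => rfl }
    have e : Nat.card ↥(A.subgroupOf D.M) = Nat.card ↥A1 := by
      rw [← Subgroup.card_map_of_injective D.M.subtype_injective, Subgroup.subgroupOf_map_subtype]
    rw [← e, ← h, hk, mul_comm]
  have hcl : ∀ g ∈ Ab, ∀ x ∈ D.cl '' ((A ⊓ Q : Subgroup G) : Set G), g • x = x := by
    rintro _ ⟨m, hm, rfl⟩ _ ⟨a, ha, rfl⟩
    rw [← D.π_cl m a ha.2, (hc (m : G) hm a ha.1).eq, mul_inv_cancel_right]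
  have himg := (D.card_le_image (A := A ⊓ Q) inf_le_right).1
  have e : A1 = A := inf_eq_left.2 hAM
  rw [e] at hA1c
  have h128 : Nat.card ↥(A ⊓ Q) = 128 := by
    by_contra hlt
    have := Nat.mul_le_mul h16 (show Nat.card ↥(A ⊓ Q) ≤ 127 by omega)
    omega
  have h16' : Nat.card ↥Ab = 16 := by
    rw [h128] at hA1c
    omega
  have hfour : fourSet D.c ⊆ (Ab : Set G6) := by
    have hAbn : (Ab : Set G6).ncard = 16 := h16'
    rcases rank_four D.c_lt hAbP (g6_sub_sq hAbsq) hAbsq h16'.ge with h | h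
    · exact (Set.eq_of_subset_of_ncard_le h (by rw [hL.four_card, hAbn]) (Set.toFinite _)).ge
    · exfalso
      obtain ⟨K, hK, hKmem⟩ := hL.alt_small
      have heq : (Ab : Set G6) = altSet D.c :=
        Set.eq_of_subset_of_ncard_le h (by rw [hAbn]; exact hL.alt_card) (Set.toFinite _)
      have hsub : D.cl '' ((A ⊓ Q : Subgroup G) : Set G) ⊆ K := fun x hx => hKmem x fun g hg => by
        rw [← heq] at hg
        exact hcl g hg x hx
      have := Set.ncard_le_ncard hsub (Set.toFinite _)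
      omega
  have hW : A ⊓ Q = D.lagW := by
    refine Subgroup.eq_of_le_of_card_ge (fun a ha => ⟨ha.2, ?_⟩) (by rw [D.card_lagW, h128])
    obtain ⟨-, -, hmem, -⟩ := fix_facts D.c_lt
    exact hmem _ fun g hg => hcl g (hfour hg) _ ⟨a, ha, rfl⟩
  refine Subgroup.eq_of_le_of_card_ge (fun a ha => ⟨hAM ha, Subgroup.mem_centralizer_iff.2 fun w hw => ?_⟩)
    (by rw [D.lagC_image.1]; exact hcard)
  have hw' : w ∈ A ⊓ Q := hW.symm ▸ hw
  exact (hc w hw'.1 a ha).eq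

/-- The elementary abelian subgroups of large order in a two-group of the unitary part agree. -/
theorem Pre.eq_conj_lag {T : Subgroup G} (hT : IsPGroup 2 ↥T) : ∃ m : ↥D.M, ∀ A : Subgroup G, A ≤ T → A ≤ D.M →
    (∀ a ∈ A, ∀ b ∈ A, Commute a b) → (∀ a ∈ A, a * a = 1) → 2 ^ 11 ≤ Nat.card ↥A →
      A = D.lagC.map (MulAut.conj (m : G)⁻¹).toMonoidHom := by
  obtain ⟨m, hm⟩ := D.exists_move_syl hT
  refine ⟨m, fun A hAT hAz hc hsq hcard => ?_⟩
  set B := A.map (MulAut.conj (m : G)).toMonoidHom with hB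
  have key : B = D.lagC := by
    refine D.max_elem ?_ ?_ ?_ (fun k hk => hm k ?_) ?_
    · rintro _ ⟨a, ha, rfl⟩
      exact D.M.mul_mem (D.M.mul_mem m.2 (hAz ha)) (D.M.inv_mem m.2)
    · rintro _ ⟨a, ha, rfl⟩ _ ⟨b, hb, rfl⟩
      exact (hc a ha b hb).map (MulAut.conj (m : G)).toMonoidHom
    · rintro _ ⟨a, ha, rfl⟩
      rw [← map_mul, hsq a ha, map_one]
    · obtain ⟨a, ha, e⟩ := hk
      have e' : (m : G) * a * (m : G)⁻¹ = k := e
      rw [← e', show (m : G)⁻¹ * ((m : G) * a * (m : G)⁻¹) * m = a by group]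
      exact hAT ha
    · rw [hB, Subgroup.card_map_of_injective (MulAut.conj (m : G)).injective]
      exact hcard
  rw [← key, hB, Subgroup.map_map]
  conv_lhs => rw [← A.map_id]
  congr 1
  refine MonoidHom.ext fun a => ?_
  show a = (m : G)⁻¹ * ((m : G) * a * (m : G)⁻¹) * (m : G)⁻¹⁻¹
  group

end Cfsg.Lib.FischerLarge
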