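import Cfsg.Agent.Lib.FischerLarge.Centralizer.Pre
import Cfsg.Agent.Lib.FischerLarge.Semi

/-!
# The semilinear action of the centralizer, for every index of the unitary part
-/

set_option autoImplicit false

namespace Cfsg.Lib.FischerLarge

open Cfsg Matrix Cfsg.Lib.SUSixU43 Cfsg.Lib.Extra

universe u

variable {G : Type u} [Group G] [Finite G] {z : G} {Q : Subgroup G} (D : Pre z Q)

theorem Pre.cl_one : D.cl 1 = 0 := by
  have h := D.cl_mul 1 (one_mem _) 1 (one_mem _)
  rw [mul_one] at h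
  exact left_eq_add.1 h

theorem Pre.m_comm (m : ↥D.M) : Commute (m : G) z := Subgroup.mem_centralizer_singleton_iff.1 (D.M_le m.2)

theorem Pre.exists_pre {g : G6} (hg : g ∈ KM D.c) : ∃ m : ↥D.M, D.π m = g := by
  rw [← D.π_range] at hg
  exact hg

theorem Pre.π_mem (m : ↥D.M) : D.π m ∈ KM D.c := by rw [← D.π_range]; exact ⟨m, rfl⟩

/-- An element with given coordinates. -/
noncomputable def Pre.lift (v : V6) : G := (D.cl_surj v).choose

theorem Pre.lift_spec (v : V6) : D.lift v ∈ Q ∧ D.cl (D.lift v) = v := (D.cl_surj v).choose_spec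

/-- The action on the coordinates. -/
noncomputable def Pre.sg (h : G) (v : V6) : V6 := D.cl (h * D.lift v * h⁻¹)

theorem Pre.cl_z_mul {b : G} (hb : b ∈ Q) : D.cl (z * b) = D.cl b :=
  ((D.cl_eq b hb (z * b) (mul_mem D.ctx.mem hb)).2 (Or.inr rfl)).symm

theorem Pre.cl_conj {h a : G} (hh : Commute h z) (ha : a ∈ Q) : D.cl (h * a * h⁻¹) = D.sg h (D.cl a) := by
  obtain ⟨hL, hLc⟩ := D.lift_spec (D.cl a)
  rcases (D.cl_eq _ hL _ ha).1 hLc with e | e
  · exact congrArg (fun w => D.cl (h * w * h⁻¹)) e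
  · conv_lhs => rw [e]
    rw [show h * (z * D.lift (D.cl a)) * h⁻¹ = z * (h * D.lift (D.cl a) * h⁻¹) by
      rw [← mul_assoc h, hh.eq]; group]
    exact D.cl_z_mul (conj_mem D.ctx hh hL)

theorem Pre.sg_add {h : G} (hh : Commute h z) (x y : V6) : D.sg h (x + y) = D.sg h x + D.sg h y := by
  obtain ⟨hx, ex⟩ := D.lift_spec x
  obtain ⟨hy, ey⟩ := D.lift_spec y
  conv_lhs => rw [← ex, ← ey, ← D.cl_mul _ hx _ hy, ← D.cl_conj hh (mul_mem hx hy)]
  rw [show h * (D.lift x * D.lift y) * h⁻¹ = h * D.lift x * h⁻¹ * (h * D.lift y * h⁻¹) by group,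
    D.cl_mul _ (conj_mem D.ctx hh hx) _ (conj_mem D.ctx hh hy)]
  rfl

theorem Pre.sg_zero {h : G} (hh : Commute h z) : D.sg h 0 = 0 := by
  have := D.sg_add hh 0 0
  rw [add_zero] at this
  exact left_eq_add.1 this

theorem Pre.sg_mul {h k : G} (hh : Commute h z) (hk : Commute k z) (v : V6) :
    D.sg (h * k) v = D.sg h (D.sg k v) := by
  show D.cl _ = D.sg h (D.cl _)
  rw [← D.cl_conj hh (conj_mem D.ctx hk (D.lift_spec v).1)]
  congr 1
  group

theorem Pre.sg_one (v : V6) : D.sg 1 v = v := by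
  show D.cl _ = v
  rw [one_mul, inv_one, mul_one, (D.lift_spec v).2]

theorem Pre.sg_inv {h : G} (hh : Commute h z) (v : V6) : D.sg h (D.sg h⁻¹ v) = v := by
  rw [← D.sg_mul hh hh.inv_left, mul_inv_cancel, D.sg_one]

theorem Pre.sg_M (m : ↥D.M) (v : V6) : D.sg m v = D.π m • v := by
  show D.cl _ = _
  rw [D.π_cl m _ (D.lift_spec v).1, (D.lift_spec v).2]

theorem Pre.sg_Q {a : G} (ha : a ∈ Q) (v : V6) : D.sg a v = v := by
  rw [show a = ((⟨a, D.Q_le ha⟩ : ↥D.M) : G) from rfl, D.sg_M, (D.π_ker _).2 ha, one_smul]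

/-- Only the extraspecial subgroup acts trivially. -/
theorem Pre.mem_of_sg {h : G} (hh : Commute h z) (hid : ∀ v, D.sg h v = v) : h ∈ Q := by
  obtain ⟨V, iA, iM, iF, cl, act, B, q, -, -, cl_surj, cl_eq, -, -, -, -, -, act_cl, act_ker⟩ :=
    exists_module D.ctx D.cardQ
  refine (act_ker h hh).1 (LinearMap.ext fun w => ?_)
  obtain ⟨a, ha, rfl⟩ := cl_surj w
  rw [act_cl h hh a ha, Module.End.one_apply]
  refine ((cl_eq a ha _ (conj_mem D.ctx hh ha)).2 ((D.cl_eq a ha _ (conj_mem D.ctx hh ha)).1 ?_)).symm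
  rw [D.cl_conj hh ha, hid]

theorem Pre.sg_conj {h : G} (hh : Commute h z) (m : ↥D.M) (v : V6) :
    D.sg h (D.π m • v) =
      D.π ⟨h * m * h⁻¹, D.M_normal h (mem_cent_of_commute hh) m m.2⟩ • D.sg h v := by
  rw [← D.sg_M, ← D.sg_M, ← D.sg_mul hh (D.m_comm m),
    ← D.sg_mul (((hh.mul_left (D.m_comm m)).mul_left hh.inv_left)) hh]
  simp

/-- The centralizer acts semilinearly. -/
theorem Pre.exists_twist {h : G} (hh : Commute h z) :
    ∃ tw, ∀ (a : R4) v, D.sg h (a • v) = tau tw a • D.sg h v := by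
  obtain ⟨n, hn⟩ := D.exists_pre (Zc_mem D.c)
  set n' : ↥D.M := ⟨h * n * h⁻¹, D.M_normal h (mem_cent_of_commute hh) n n.2⟩ with hn'
  have hC : D.π n' ∈ C6 := by
    refine center_KM D.c_lt (D.π_mem _) fun g hg => ?_
    obtain ⟨m, rfl⟩ := D.exists_pre hg
    set k : ↥D.M := ⟨h⁻¹ * m * h, by
      simpa using D.M_normal h⁻¹ (mem_cent_of_commute hh.inv_left) m m.2⟩ with hk
    have h1 : D.π (n * k * n⁻¹ * k⁻¹) = 1 := by
      rw [map_mul, map_mul, map_mul, map_inv, map_inv, hn, Zc_comm]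
      group
    have h2 : D.π (n' * m * n'⁻¹ * m⁻¹) = 1 := by
      refine (D.π_ker _).2 ?_
      have h3 := conj_mem D.ctx hh ((D.π_ker _).1 h1)
      convert h3 using 1
      simp only [hn', hk, Subgroup.coe_mul, Subgroup.coe_inv]
      group
    rw [map_mul, map_mul, map_mul, map_inv, map_inv] at h2
    exact mul_inv_eq_iff_eq_mul.1 (mul_inv_eq_one.1 h2)
  have key : ∃ tw, ∀ v, D.sg h (om • v) = tau tw om • D.sg h v := by
    rcases C6_cases hC with e | e | e
    · exfalso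
      have h1 := conj_mem D.ctx hh.inv_left ((D.π_ker _).1 e)
      have hnQ : (n : G) ∈ Q := by
        convert h1 using 1
        simp only [hn']
        group
      have := (D.π_ker n).2 hnQ
      rw [hn] at this
      have h2 : (Zc • (Pi.single 0 1 : V6)) 0 = (Pi.single 0 1 : V6) 0 := by rw [this, one_smul]
      rw [Zc_smul, Pi.smul_apply, Pi.single_eq_same, smul_eq_mul, mul_one] at h2
      exact absurd h2 (by simp only [om]; decide +kernel)
    · refine ⟨false, fun v => ?_⟩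
      rw [tau_apply, cond_false, ← Zc_smul, ← hn, D.sg_conj hh, ← hn', e, Zc_smul]
    · refine ⟨true, fun v => ?_⟩
      rw [← Zc_smul, ← hn, D.sg_conj hh, ← hn', e, mul_smul, Zc_smul, Zc_smul, smul_smul, ← pow_two,
        tau_apply, cond_true]
  obtain ⟨tw, htw⟩ := key
  refine ⟨tw, fun a v => ?_⟩
  rcases r4_cases a with rfl | rfl | rfl | rfl
  · rw [zero_smul, map_zero, zero_smul, D.sg_zero hh]
  · rw [one_smul, map_one, one_smul]
  · exact htw v
  · rw [add_smul, one_smul, D.sg_add hh, show D.sg h (elE 1 • v) = _ from htw v, map_add, map_one, add_smul,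
      one_smul]
    rfl

end Cfsg.Lib.FischerLarge
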