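import Cfsg.Agent.Lib.FischerLarge.Centralizer.LinearMain
import Cfsg.Agent.Lib.FischerLarge.Centralizer.Isolated
import Cfsg.Agent.Lib.Extra.LargeFused
import Cfsg.Agent.Lib.Fusion.Basic

/-!
# The residual of the group for two
-/

set_option autoImplicit false
set_option maxRecDepth 20000

namespace Cfsg.Lib.FischerLarge

open Cfsg Cfsg.Lib.SUSixU43 Cfsg.Lib.Extra Cfsg.Lib.PermAut

universe u

attribute [local irreducible] KM T6 N6 C6 phi pnt

variable {G : Type u} [Group G] [Finite G] {z : G} {Q : Subgroup G} (D : Pre z Q)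

theorem C6_cube {g : G6} (h : g ∈ C6) : g ^ 3 = 1 := by
  unfold C6 at h
  obtain ⟨i, rfl⟩ := Subgroup.mem_zpowers_iff.1 h
  rw [← zpow_natCast, zpow_comm, zpow_natCast]
  rw [show Zc ^ 3 = 1 from Cfsg.Lib.SUSixU43.Zc_cube, _root_.one_zpow]

theorem g6_cube_five (g : G6) (h3 : g ^ 3 = 1) (h5 : g ^ 5 = 1) : g = 1 := by
  have := pow_gcd_eq_one.2 ⟨h3, h5⟩
  rwa [show Nat.gcd 3 5 = 1 from rfl, pow_one] at this

theorem r4_om_sum : ∀ x : R4, om * om * x + om * x = x := by simp only [om]; decide +kernel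

theorem Pre.card_M : Nat.card ↥D.M = 2 ^ 13 * 9797760 := by
  have h := D.π.ker.card_mul_index
  rw [Subgroup.index_ker, D.π_range, card_KM D.c_lt] at h
  have hk : Nat.card ↥D.π.ker = Nat.card ↥Q := Nat.card_congr
    { toFun := fun m => ⟨(m : ↥D.M), (D.π_ker _).1 m.2⟩
      invFun := fun a => ⟨⟨a, D.Q_le a.2⟩, (D.π_ker _).2 a.2⟩
      left_inv := fun _ => rfl
      right_inv := fun _ => rfl }
  rw [hk, D.cardQ] at h
  exact h.symm

/-- A normal subgroup of a model containing its centre and an element outside it is the whole model. -/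
theorem normal_KM {c : ℕ} (hc : c < 3) (L : Subgroup ↥(KM c)) [hL : L.Normal]
    (hC : ∀ g : ↥(KM c), (g : G6) ∈ C6 → g ∈ L) (hne : ∃ g ∈ L, (g : G6) ∉ C6) : L = ⊤ := by
  obtain ⟨e0⟩ := psu_equiv_Q112
  haveI := simple_psu
  haveI : IsSimpleGroup ↥Q112 := e0.symm.isSimpleGroup
  let θ : ↥(KM c) →* ↥Q112 := (phi hc).codRestrict Q112 fun g => (phi_range hc).le ⟨g, rfl⟩
  have hs : Function.Surjective θ := by
    rintro ⟨q, hq⟩
    obtain ⟨g, hg⟩ := (phi_range hc).ge hq
    exact ⟨g, Subtype.ext hg⟩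
  have hk : ∀ g, θ g = 1 → (g : G6) ∈ C6 := fun g h => ker_phi hc (congrArg Subtype.val h)
  rcases (hL.map θ hs).eq_bot_or_eq_top with h | h
  · obtain ⟨g, hg, hgC⟩ := hne
    exact absurd (hk g (Subgroup.mem_bot.1 (h ▸ Subgroup.mem_map_of_mem θ hg))) hgC
  · refine eq_top_iff.2 fun g _ => ?_
    obtain ⟨l, hl, e⟩ : θ g ∈ L.map θ := h ▸ Subgroup.mem_top _
    have h1 := hC (l⁻¹ * g) (hk _ (by rw [map_mul, map_inv, e, inv_mul_cancel]))
    have := L.mul_mem hl h1
    rwa [mul_inv_cancel_left] at this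

/-- The residual contains the unitary part. -/
theorem Pre.M_le_residual : D.M ≤ Cfsg.pResidual 2 G := by
  classical
  haveI : Fact (Nat.Prime 2) := ⟨Nat.prime_two⟩
  haveI : Fact (Nat.Prime 5) := ⟨by norm_num⟩
  haveI := finite_G6
  haveI hN := Lib.Fusion.pResidual_normal 2 G
  set R := Cfsg.pResidual 2 G with hR
  set n := (D.three : G) with hn
  have hodd : ∀ g : G, ∀ k : ℕ, g ^ k = 1 → Odd k → g ∈ R := fun g k hg hk =>
    Lib.Fusion.mem_pResidual_of_coprime
      ((Nat.coprime_two_right.2 (hk.of_dvd_nat (orderOf_dvd_of_pow_eq_one hg))))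
  have hnR : n ∈ R := hodd n 3 (by rw [pow_three, ← mul_assoc]; exact D.three_spec.2) ⟨1, rfl⟩
  have hclR : ∀ v : V6, ∃ x ∈ Q, x ∈ R ∧ D.cl x = v := by
    intro v
    obtain ⟨q, hq, hqv⟩ := D.cl_surj (om • v)
    have hnq : n * q * n⁻¹ ∈ Q := conj_mem D.ctx (D.m_comm D.three) hq
    refine ⟨n * q * n⁻¹ * q⁻¹, mul_mem hnq (inv_mem hq), ?_, ?_⟩
    · rw [mul_assoc n q, mul_assoc n]
      exact R.mul_mem hnR (hN.conj_mem _ (R.inv_mem hnR) q)
    · have h := D.cl_mul q hq _ (inv_mem hq)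
      rw [mul_inv_cancel, D.cl_one] at h
      have hinv : D.cl q⁻¹ = D.cl q := by
        calc D.cl q⁻¹ = D.cl q⁻¹ + (D.cl q + D.cl q⁻¹) := by rw [← h, add_zero]
          _ = _ := by rw [add_comm (D.cl q), ← add_assoc, v6_add_self, zero_add]
      rw [D.cl_mul _ hnq _ (inv_mem hq), hn, D.cl_three hq, hinv, hqv, smul_smul]
      have h3 : ∀ x : R4, om * om * x + om * x = x := r4_om_sum
      funext i
      exact h3 _
  have hzR : z ∈ R := by
    have hnc : ∃ a ∈ Q, ∃ b ∈ Q, ¬ Commute a b := by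
      by_contra h
      push Not at h
      have := card_abelian_le D.ctx D.cardQ le_rfl h
      rw [D.cardQ] at this
      omega
    obtain ⟨a, ha, b, hb, hab⟩ := hnc
    obtain ⟨a', ha', haR, hac⟩ := hclR (D.cl a)
    obtain ⟨b', hb', hbR, hbc⟩ := hclR (D.cl b)
    have hzc : ∀ {x}, x ∈ Q → Commute z x := fun hx => D.ctx.central _ hx
    have hab' : ¬ Commute a' b' := fun h => hab (by
      rcases (D.cl_eq a' ha' a ha).1 hac with e | e <;> rcases (D.cl_eq b' hb' b hb).1 hbc with e' | e' <;>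
        subst e e'
      · exact h
      · exact (hzc ha').symm.mul_right h
      · exact (hzc hb').mul_left h
      · exact ((Commute.refl z).mul_right (hzc hb')).mul_left ((hzc ha').symm.mul_right h))
    have e := (D.ctx.comm a' ha' b' hb').resolve_left
      fun h => hab' (mul_inv_eq_iff_eq_mul.1 (mul_inv_eq_one.1 h))
    exact e ▸ R.mul_mem (R.mul_mem (R.mul_mem haR hbR) (R.inv_mem haR)) (R.inv_mem hbR)
  have hQR : Q ≤ R := fun q hq => by
    obtain ⟨x, hx, hxR, hxc⟩ := hclR (D.cl q)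
    rcases (D.cl_eq x hx q hq).1 hxc with e | e <;> rw [e]
    exacts [hxR, R.mul_mem hzR hxR]
  haveI hmn : (R.subgroupOf D.M).Normal := inferInstance
  set L : Subgroup ↥(KM D.c) := ((R.subgroupOf D.M).map D.π).subgroupOf (KM D.c) with hL
  haveI : L.Normal := ⟨fun l hl k => by
    obtain ⟨x, hx, e⟩ := hl
    obtain ⟨m, hm⟩ := D.exists_pre k.2
    refine ⟨m * x * m⁻¹, hmn.conj_mem x hx m, ?_⟩
    rw [map_mul, map_mul, map_inv, hm, e]
    rfl⟩
  have hCL : ∀ g : ↥(KM D.c), (g : G6) ∈ C6 → g ∈ L := fun g hg => by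
    have h1 : Zc ∈ (R.subgroupOf D.M).map D.π := ⟨D.three, hnR, D.three_spec.1⟩
    have h2 : C6 ≤ (R.subgroupOf D.M).map D.π := by
      unfold C6
      exact Subgroup.zpowers_le.2 h1
    exact h2 hg
  have hmemL : ∀ x : ↥D.M, (x : G) ∈ R → (⟨D.π x, D.π_mem x⟩ : ↥(KM D.c)) ∈ L := fun x hx =>
    Subgroup.mem_subgroupOf.2 (Subgroup.mem_map_of_mem D.π hx)
  have hne : ∃ g ∈ L, (g : G6) ∉ C6 := by
    obtain ⟨f, hf5, hf1, -, -⟩ := D.exists_five
    refine ⟨⟨D.π f, D.π_mem f⟩, hmemL f (hodd _ 5 hf5 ⟨2, rfl⟩), fun h => hf1 ?_⟩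
    have h3 : (D.π f) ^ 3 = 1 := C6_cube h
    have h5 : (D.π f) ^ 5 = 1 := by
      rw [← map_pow, show f ^ 5 = 1 from Subtype.ext hf5, map_one]
    exact g6_cube_five _ h3 h5
  have htop := normal_KM D.c_lt L hCL hne
  intro m hm
  have h1 : (⟨D.π ⟨m, hm⟩, D.π_mem _⟩ : ↥(KM D.c)) ∈ L := htop ▸ Subgroup.mem_top _
  obtain ⟨x, hx, e⟩ := Subgroup.mem_map.1 (Subgroup.mem_subgroupOf.1 h1)
  have hq : x⁻¹ * (⟨m, hm⟩ : ↥D.M) ∈ (R.subgroupOf D.M) := by
    have h2 := (D.π_ker (x⁻¹ * (⟨m, hm⟩ : ↥D.M))).1 (by rw [map_mul, map_inv, e]; exact inv_mul_cancel _)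
    exact hQR h2
  have := (R.subgroupOf D.M).mul_mem hx hq
  rw [mul_inv_cancel_left] at this
  exact this

/-- Restriction to a subgroup containing the unitary part. -/
noncomputable def Pre.restrict (S : Subgroup G) (hS : D.M ≤ S) :
    Pre (⟨z, hS (D.Q_le D.ctx.mem)⟩ : ↥S) (Q.subgroupOf S) where
  c := D.c
  c_lt := D.c_lt
  ctx := by
    have hQS : Q ≤ S := D.Q_le.trans hS
    refine ⟨D.ctx.mem, fun e => D.ctx.ne_one (congrArg Subtype.val e), Subtype.ext D.ctx.sq_z,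
      fun a ha => Subtype.ext (D.ctx.central (a : G) ha).eq, fun a ha b hb => ?_, fun a ha => ?_, fun g hg => ?_,
      fun c hc => ?_, D.ctx.two.comap_of_injective S.subtype S.subtype_injective⟩
    · rcases D.ctx.comm (a : G) ha (b : G) hb with h | h
      exacts [Or.inl (Subtype.ext h), Or.inr (Subtype.ext h)]
    · rcases D.ctx.sq (a : G) ha with h | h
      exacts [Or.inl (Subtype.ext h), Or.inr (Subtype.ext h)]
    · rcases D.ctx.cent (g : G) (fun a ha => (hg ⟨a, hQS ha⟩ ha).map S.subtype) with h | h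
      exacts [Or.inl (Subtype.ext h), Or.inr (Subtype.ext h)]
    · have h := D.ctx.norm (c : G) (hc.map S.subtype)
      exact Subgroup.mem_normalizer_iff.2 fun x => Subgroup.mem_normalizer_iff.1 h (x : G)
  cardQ := (Nat.card_congr (Subgroup.subgroupOfEquivOfLe (D.Q_le.trans hS)).toEquiv).trans D.cardQ
  cl a := D.cl a
  cl_mul a ha b hb := D.cl_mul _ ha _ hb
  cl_surj v := by
    obtain ⟨a, ha, e⟩ := D.cl_surj v
    exact ⟨⟨a, hS (D.Q_le ha)⟩, ha, e⟩
  cl_eq a ha b hb := (D.cl_eq (a : G) ha (b : G) hb).trans ⟨fun h => by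
      rcases h with h | h
      exacts [Or.inl (Subtype.ext h), Or.inr (Subtype.ext h)], fun h => by
      rcases h with h | h
      exacts [Or.inl (congrArg Subtype.val h), Or.inr (congrArg Subtype.val h)]⟩
  cl_sq a ha := (show a * a = 1 ↔ (a : G) * a = 1 from
    ⟨fun h => congrArg Subtype.val h, fun h => Subtype.ext h⟩).trans (D.cl_sq _ ha)
  M := D.M.subgroupOf S
  M_le m hm := Subgroup.mem_centralizer_singleton_iff.2 (Subtype.ext (D.m_comm ⟨m, hm⟩).eq)
  Q_le a ha := D.Q_le ha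
  M_normal h hh m hm := D.M_normal (h : G)
    (Subgroup.mem_centralizer_singleton_iff.2 (congrArg Subtype.val (Subgroup.mem_centralizer_singleton_iff.1 hh))) (m : G) hm
  π := D.π.comp (Subgroup.subgroupOfEquivOfLe hS).toMonoidHom
  π_range := by
    rw [MonoidHom.range_comp, MonoidHom.range_eq_top.2 (Subgroup.subgroupOfEquivOfLe hS).surjective,
      ← MonoidHom.range_eq_map]
    exact D.π_range
  π_ker m := D.π_ker _
  π_cl m a ha := D.π_cl (Subgroup.subgroupOfEquivOfLe hS m) (a : G) ha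

include D in
/-- The centralizer is the product of its part in the residual with the residual. -/
theorem Pre.sup_residual : Cfsg.pResidual 2 G ⊔ Subgroup.centralizer ({z} : Set G) = ⊤ := by
  haveI : Fact (Nat.Prime 2) := ⟨Nat.prime_two⟩
  obtain ⟨T, hT⟩ := D.ctx.two.exists_le_sylow
  refine eq_top_iff.2 fun g _ => ?_
  obtain ⟨x, hx, m, hm, rfl⟩ := Lib.Fusion.exists_mul_of_sylow T g
  exact mul_mem (Subgroup.mem_sup_right (mem_cent_of_commute (D.ctx.central_of_le T.isPGroup' hT x hx).symm))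
    (Subgroup.mem_sup_left hm)

/-- Without a quotient of order two: either isolated, or fused with index two. -/
theorem Pre.dichotomy (hres : Cfsg.pResidual 2 G = ⊤) :
    IsIsolatedInvolution z ∨ (Nat.card ↥(Subgroup.centralizer ({z} : Set G)) = 2 * Nat.card ↥D.M ∧
      ∃ g : G, g * z * g⁻¹ ∈ Q ∧ g * z * g⁻¹ ≠ z) := by
  classical
  set H := Subgroup.centralizer ({z} : Set G) with hH
  by_cases hall : ∀ x, Commute x z → x ∈ D.M
  · exact Or.inl (D.isolated hall)
  push Not at hall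
  obtain ⟨x, hx, hxM⟩ := hall
  have hlin := D.no_linear hres
  have hxl : x ∉ D.linC := fun h => hxM (hlin x h)
  have hmul : ∀ {a b : G}, Commute a z → Commute b z → a ∉ D.M → b ∉ D.M → a * b ∈ D.M :=
    fun ha hb ha' hb' => hlin _ (D.semi_mul ha hb (fun h => ha' (hlin _ h)) fun h => hb' (hlin _ h))
  have hle : Nat.card ↥H ≤ 2 * Nat.card ↥D.M := Extra.card_le_double D.M_le (mem_cent_of_commute hx) fun y hy => by
    by_cases hyM : y ∈ D.M
    · exact Or.inl hyM
    · exact Or.inr (hmul hx (commute_of_mem_cent hy) hxM hyM)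
  have hidx : (D.M.subgroupOf H).index = 2 := by
    have h1 := (D.M.subgroupOf H).card_mul_index
    rw [Nat.card_congr (Subgroup.subgroupOfEquivOfLe D.M_le).toEquiv] at h1
    have h2 : (D.M.subgroupOf H).index ≤ 2 := Nat.le_of_mul_le_mul_left (by rw [h1, mul_comm]; exact hle)
      (Nat.card_pos (α := ↥D.M))
    have h3 : (D.M.subgroupOf H).index ≠ 1 := fun h => hxM (by
      have : (⟨x, mem_cent_of_commute hx⟩ : ↥H) ∈ D.M.subgroupOf H := by
        rw [Subgroup.index_eq_one.1 h]; exact Subgroup.mem_top _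
      exact this)
    have h4 : (D.M.subgroupOf H).index ≠ 0 := Subgroup.index_ne_zero_of_finite
    omega
  refine Or.inr ⟨?_, ?_⟩
  · have h1 := (D.M.subgroupOf H).card_mul_index
    rw [Nat.card_congr (Subgroup.subgroupOfEquivOfLe D.M_le).toEquiv, hidx] at h1
    omega
  haveI : (D.M.subgroupOf H).Normal := Subgroup.normal_of_index_eq_two hidx
  haveI : Fact (Nat.Prime 2) := ⟨Nat.prime_two⟩
  have hc : Nat.card (↥H ⧸ D.M.subgroupOf H) = 2 := hidx
  haveI : IsCyclic (↥H ⧸ D.M.subgroupOf H) := isCyclic_of_prime_card hc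
  letI : CommGroup (↥H ⧸ D.M.subgroupOf H) := IsCyclic.commGroup
  exact D.ctx.exists_fused (by rw [D.cardQ]; norm_num) hres hc (QuotientGroup.mk' _)
    (QuotientGroup.mk'_surjective _)

/-- The alternatives for a group with such a centralizer. -/
theorem Pre.alternatives :
    IsIsolatedInvolution z ∨
      (Nat.card ↥(Subgroup.centralizer ({z} : Set G)) = 2 * Nat.card ↥D.M ∧
        ∃ g : G, g * z * g⁻¹ ∈ Q ∧ g * z * g⁻¹ ≠ z) ∨
      (Nat.card ↥(Subgroup.centralizer ({z} : Set G)) = 4 * Nat.card ↥D.M ∧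
        ∃ (G₀ : Subgroup G) (_ : D.M ≤ G₀) (hz : z ∈ G₀), G₀.index = 2 ∧
          Nat.card ↥(Subgroup.centralizer ({(⟨z, hz⟩ : ↥G₀)} : Set ↥G₀)) = 2 * Nat.card ↥D.M ∧
            ∃ g : ↥G₀, g * ⟨z, hz⟩ * g⁻¹ ∈ Q.subgroupOf G₀ ∧ g * ⟨z, hz⟩ * g⁻¹ ≠ ⟨z, hz⟩) := by
  classical
  haveI : Fact (Nat.Prime 2) := ⟨Nat.prime_two⟩
  haveI hN := Lib.Fusion.pResidual_normal 2 G
  obtain ⟨R, hR⟩ : ∃ R, R = Cfsg.pResidual 2 G := ⟨_, rfl⟩
  have hres : Cfsg.pResidual 2 ↥R = ⊤ := by rw [hR]; exact Lib.Fusion.pResidual_pResidual 2 G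
  haveI : R.Normal := hR ▸ hN
  have hMR : D.M ≤ R := hR ▸ D.M_le_residual
  have hsup : R ⊔ Subgroup.centralizer ({z} : Set G) = ⊤ := hR ▸ D.sup_residual
  have hzR : z ∈ R := hMR (D.Q_le D.ctx.mem)
  set z' : ↥R := ⟨z, hzR⟩ with hz'
  have hcR : Nat.card ↥(R.subgroupOf (Subgroup.centralizer ({z} : Set G))) =
      Nat.card ↥(Subgroup.centralizer ({z'} : Set ↥R)) := Nat.card_congr
    { toFun := fun a => ⟨⟨_, a.2⟩, Subgroup.mem_centralizer_singleton_iff.2
        (Subtype.ext (Subgroup.mem_centralizer_singleton_iff.1 a.1.2))⟩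
      invFun := fun a => ⟨⟨_, Subgroup.mem_centralizer_singleton_iff.2
        (congrArg Subtype.val (Subgroup.mem_centralizer_singleton_iff.1 a.2))⟩, a.1.2⟩
      left_inv := fun _ => rfl
      right_inv := fun _ => rfl }
  have hMc : Nat.card ↥((D.restrict R hMR).M) = Nat.card ↥D.M :=
    Nat.card_congr (Subgroup.subgroupOfEquivOfLe hMR).toEquiv
  rcases (D.restrict R hMR).dichotomy hres with h | ⟨hcard, g, hg, hgne⟩
  · left
    refine ⟨orderOf_eq_prime (by rw [pow_two, D.ctx.sq_z]) D.ctx.ne_one, fun x hx => ?_⟩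
    have hxm : x ∈ R ⊔ Subgroup.centralizer ({z} : Set G) := hsup ▸ Subgroup.mem_top x
    obtain ⟨r, hr, k, hk, rfl⟩ := Subgroup.mem_sup_of_normal_left.1 hxm
    have e : r * k * z * (r * k)⁻¹ = r * z * r⁻¹ := by
      rw [show r * k * z * (r * k)⁻¹ = r * (k * z * k⁻¹) * r⁻¹ by group, (commute_of_mem_cent hk).eq,
        mul_inv_cancel_right]
    rw [e] at hx ⊢
    exact congrArg Subtype.val (h.2 ⟨r, hr⟩ (Subtype.ext hx.eq))
  · rw [hMc] at hcard
    have hfused : g * z * g⁻¹ ∈ Q ∧ (g : G) * z * (g : G)⁻¹ ≠ z :=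
      ⟨hg, fun e => hgne (Subtype.ext e)⟩
    have hidx : R.index = (R.subgroupOf (Subgroup.centralizer ({z} : Set G))).index := by
      rw [← Subgroup.relIndex_top_right R, ← hsup, sup_comm, Subgroup.relIndex_sup_right]
      rfl
    have hci := (R.subgroupOf (Subgroup.centralizer ({z} : Set G))).card_mul_index
    rw [← hidx, hcR, hcard] at hci
    have hi : R.index ≤ 2 := by
      refine Nat.le_of_mul_le_mul_left ?_ (show 0 < 2 * Nat.card ↥D.M from Nat.mul_pos two_pos Nat.card_pos)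
      have := D.card_cent_le
      rw [hci]
      omega
    have h0 : R.index ≠ 0 := Subgroup.index_ne_zero_of_finite
    right
    interval_cases hk : R.index
    · exact absurd rfl h0
    · left
      exact ⟨by omega, (g : G), hfused⟩
    · right
      exact ⟨by omega, R, hMR, hzR, hk, hcard, g, hg, hgne⟩

end Cfsg.Lib.FischerLarge
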